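import Cfsg.Agent.Lib.Perm.PrimitivePart
import Mathlib

/-!
# Arithmetic for blocks with three characters

Sums of two squares and the exponents `a = r - 1` whose cyclotomic value is at most `a r ^ 2`.
-/

set_option autoImplicit false

namespace Cfsg.Agent.Char.KThree

open Polynomial

/-- `q` is a primitive prime of `p ^ a - 1`. -/
def IsPrim (p a q : ℕ) : Prop :=
  q.Prime ∧ q ∣ p ^ a - 1 ∧ ∀ k : ℕ, 0 < k → k < a → ¬ q ∣ p ^ k - 1

theorem not_sq_add_sq_of_mod_four {M : ℕ} (hM : M % 4 = 3) {c x y : ℕ} (hc : 0 < c)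
    (h : c ^ 2 * M = x ^ 2 + y ^ 2) : False := by
  obtain ⟨u, v, huv⟩ : ∃ u v, M = u ^ 2 + v ^ 2 := by
    rw [Nat.eq_sq_add_sq_iff]
    intro q hqM hq4
    haveI : Fact q.Prime := ⟨Nat.prime_of_mem_primeFactors hqM⟩
    have h1 := (Nat.eq_sq_add_sq_iff (n := c ^ 2 * M)).1 ⟨x, y, h⟩ (q := q)
      (Nat.mem_primeFactors.2 ⟨Fact.out, (Nat.dvd_of_mem_primeFactors hqM).mul_left _,
        Nat.mul_ne_zero (pow_ne_zero _ hc.ne') (by omega)⟩) hq4
    rw [padicValNat.mul (pow_ne_zero _ hc.ne') (by omega), padicValNat.pow _ _] at h1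
    exact (Nat.even_add.1 h1).1 (even_two_mul _)
  have : u % 4 < 4 ∧ v % 4 < 4 := ⟨Nat.mod_lt _ (by norm_num), Nat.mod_lt _ (by norm_num)⟩
  rw [huv, Nat.add_mod, Nat.pow_mod, Nat.pow_mod v] at hM
  obtain ⟨h1, h2⟩ := this
  interval_cases (u % 4) <;> interval_cases (v % 4) <;> omega

theorem two_primary {a : ℕ} (ha : 2 ≤ a) : 2 ^ a % 4 = 0 := by
  obtain ⟨b, rfl⟩ := Nat.exists_eq_add_of_le ha
  rw [pow_add]
  simp

theorem no_two {a f x y : ℕ} (ha : 2 ≤ a) (hf : 0 < f) (h : f ^ 2 * (2 ^ a - 1) = x ^ 2 + y ^ 2) :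
    False := by
  refine not_sq_add_sq_of_mod_four ?_ hf h
  have := two_primary ha
  have : 4 ≤ 2 ^ a := (show 4 = 2 ^ 2 from rfl).le.trans (Nat.pow_le_pow_right two_pos ha)
  omega

theorem mersenne_eq_three {p t f x y : ℕ} (hp : p.Prime) (ht : p + 1 = 2 ^ t) (hf : 0 < f)
    (h : f ^ 2 * (p ^ 2 - 1) = x ^ 2 + y ^ 2) : p = 3 := by
  by_contra hne
  have hp2 := hp.two_le
  have ht3 : 3 ≤ t := by
    by_contra hlt
    interval_cases t <;> omega
  have htodd : Odd t := by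
    rcases Nat.even_or_odd t with ⟨s, hs⟩ | h'
    · exfalso
      have h4 : ∀ s : ℕ, 3 ∣ 4 ^ s - 1 := fun s => by
        simpa using Nat.sub_dvd_pow_sub_pow 4 1 s
      have hd : 3 ∣ p := by
        have := h4 s
        rw [show (4 : ℕ) ^ s = 2 ^ t by rw [hs, ← two_mul, pow_mul]; norm_num, ← ht] at this
        simpa using this
      exact hne ((Nat.prime_dvd_prime_iff_eq Nat.prime_three hp).1 hd).symm
    · exact h'
  obtain ⟨u, hu⟩ := htodd
  -- p ^ 2 - 1 = 2 ^ (t + 1) * M with M = 2 ^ (t - 1) - 1, and t + 1 is even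
  set M := 2 ^ (2 * u) - 1 with hM
  have h2u : 4 ≤ 2 ^ (2 * u) :=
    (show 4 = 2 ^ 2 from rfl).le.trans (Nat.pow_le_pow_right two_pos (by omega))
  have hfac : p ^ 2 - 1 = (2 ^ (u + 1)) ^ 2 * M := by
    have h1 : p ^ 2 - 1 = (p + 1) * (p - 1) := by simpa using Nat.sq_sub_sq p 1
    have h2 : p - 1 = 2 * M := by
      rw [hu, pow_succ] at ht
      omega
    rw [h1, h2, ht, hu, pow_succ, ← pow_mul]
    ring
  refine not_sq_add_sq_of_mod_four (M := M) ?_ (c := f * 2 ^ (u + 1)) (by positivity)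
    (by rw [← h, hfac]; ring)
  have := two_primary (a := 2 * u) (by omega)
  omega

theorem no_seven {f x y : ℕ} (hf : 0 < f) (h : f ^ 2 * (7 ^ 4 - 1) = x ^ 2 + y ^ 2) : False := by
  obtain ⟨u, v, huv⟩ := (show ∃ u v, 7 ^ 4 - 1 = u ^ 2 + v ^ 2 by
    rw [Nat.eq_sq_add_sq_iff]
    intro q hqM hq4
    haveI : Fact q.Prime := ⟨Nat.prime_of_mem_primeFactors hqM⟩
    have h1 := (Nat.eq_sq_add_sq_iff (n := f ^ 2 * (7 ^ 4 - 1))).1 ⟨x, y, h⟩ (q := q)
      (Nat.mem_primeFactors.2 ⟨Fact.out, (Nat.dvd_of_mem_primeFactors hqM).mul_left _,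
        Nat.mul_ne_zero (pow_ne_zero _ hf.ne') (by norm_num)⟩) hq4
    rw [padicValNat.mul (pow_ne_zero _ hf.ne') (by norm_num), padicValNat.pow _ _] at h1
    exact (Nat.even_add.1 h1).1 (even_two_mul _))
  have hu : u < 49 := by norm_num at huv; nlinarith
  have hv : v < 49 := by norm_num at huv; nlinarith
  have hcheck : ∀ u < 49, ∀ v < 49, u ^ 2 + v ^ 2 ≠ 7 ^ 4 - 1 := by decide +kernel
  exact hcheck u hu v hv huv.symm

theorem totient_check : ∀ n ∈ Finset.range 129, ∀ u ∈ Finset.range 9, 2 ∣ n → 1 ≤ u → u * Nat.totient n ≤ 8 →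
    8 ^ (u * Nat.totient n) ≤ 2 * u * n * (2 * u * n + 1) ^ 2 → (2 * u * n + 1).Prime →
    2 * u * n = 4 ∨ 2 * u * n = 12 ∨ 2 * u * n = 16 := by
  decide +kernel

theorem nine_pow (u : ℕ) (hu : 1 ≤ u) : 8 ^ u + 1 ≤ 9 ^ u := by
  induction u, hu using Nat.le_induction with
  | base => norm_num
  | succ n _ ih => rw [pow_succ, pow_succ]; omega

theorem exp_bound (w : ℕ) (hw : 9 ≤ w) : 4 * w ^ 2 * (4 * w ^ 2 + 1) ^ 2 < 8 ^ w := by
  induction w, hw using Nat.le_induction with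
  | base => norm_num
  | succ n hn ih =>
    rw [pow_succ 8]
    have h1 : (4 * (n + 1) ^ 2) ≤ 2 * (4 * n ^ 2) := by nlinarith
    have h2 : (4 * (n + 1) ^ 2 + 1) ≤ 2 * (4 * n ^ 2 + 1) := by omega
    calc 4 * (n + 1) ^ 2 * (4 * (n + 1) ^ 2 + 1) ^ 2
        ≤ 2 * (4 * n ^ 2) * (2 * (4 * n ^ 2 + 1)) ^ 2 :=
          Nat.mul_le_mul h1 (Nat.pow_le_pow_left h2 2)
      _ = 8 * (4 * n ^ 2 * (4 * n ^ 2 + 1) ^ 2) := by ring
      _ < 8 * 8 ^ n := Nat.mul_lt_mul_of_pos_left ih (by norm_num)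
      _ = 8 ^ n * 8 := by ring

/-- The exponents `a` divisible by four all whose primitive primes are `a + 1`, to a power at most two. -/
theorem exponent_cases {p a : ℕ} (hp : p.Prime) (hp3 : 3 ≤ p) (h4 : 4 ∣ a) (ha : 0 < a)
    (hr : (a + 1).Prime) (hprim : IsPrim p a (a + 1))
    (hall : ∀ q, IsPrim p a q → q = a + 1) (hmult : ¬ (a + 1) ^ 3 ∣ p ^ a - 1) :
    a = 4 ∧ (p = 3 ∨ p = 7) := by
  have ha4 : 4 ≤ a := Nat.le_of_dvd ha h4
  obtain ⟨s, hs, hsa, hmax⟩ : ∃ s : ℕ, s.Prime ∧ s ∣ a ∧ ∀ s' : ℕ, s'.Prime → s' ∣ a → s' ≤ s := by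
    have hne : a.primeFactors.Nonempty := Nat.nonempty_primeFactors.2 (by omega)
    obtain ⟨r, hr, hmax⟩ := Finset.exists_max_image a.primeFactors id hne
    rw [Nat.mem_primeFactors] at hr
    exact ⟨r, hr.1, hr.2.1, fun s hs hse => hmax s (Nat.mem_primeFactors.2 ⟨hs, hse, by omega⟩)⟩
  obtain ⟨m, hm, hmcop, hle⟩ := PrimPart.exists_prim (q := p) hp.one_lt (by omega) hs hsa hmax
  have hN0 : p ^ a - 1 ≠ 0 := by
    have : 3 ≤ p ^ a := hp3.trans (Nat.le_self_pow (by omega) p)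
    omega
  have hmq : ∀ q, q.Prime → q ∣ m → q = a + 1 := fun q hq hqm =>
    hall q ⟨hq, hqm.trans hm, fun k hk hka h => hq.not_dvd_one
      ((hmcop k (Finset.mem_range.2 hka) (by omega)) ▸ Nat.dvd_gcd hqm h)⟩
  have hm2 : m ∣ (a + 1) ^ 2 := by
    obtain ⟨j, hj⟩ := (Nat.dvd_prime_pow hr).1 (show m ∣ (a + 1) ^ m.factorization (a + 1) by
      have hm0 : m ≠ 0 := fun h => hN0 (Nat.eq_zero_of_zero_dvd (h ▸ hm))
      nth_rewrite 1 [← Nat.prod_factorization_pow_eq_self hm0]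
      rw [Finsupp.prod, Finset.prod_eq_single (a + 1)]
      · intro q hq hne
        rw [Nat.support_factorization] at hq
        exact absurd (hmq q (Nat.prime_of_mem_primeFactors hq) (Nat.dvd_of_mem_primeFactors hq)) hne
      · intro h
        rw [Finsupp.notMem_support_iff.1 h, pow_zero])
    rw [hj.2]
    refine pow_dvd_pow _ ?_
    by_contra hlt
    exact hmult ((pow_dvd_pow _ (show 3 ≤ j by omega)).trans (hj.2 ▸ hm))
  have hbound : (cyclotomic a ℤ).eval (p : ℤ) ≤ ((s * (a + 1) ^ 2 : ℕ) : ℤ) :=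
    hle.trans (Int.ofNat_le.2 (Nat.mul_le_mul_left s (Nat.le_of_dvd (by positivity) hm2)))
  obtain ⟨n, t, hnt, hsf, hpr, hval⟩ := PrimPart.reduce a ha
  have h2n : 2 ∣ n := (hpr 2 Nat.prime_two).2 ((show 2 ∣ 4 by norm_num).trans h4)
  have hn1 : 1 < n := Nat.lt_of_lt_of_le one_lt_two (Nat.le_of_dvd (Nat.pos_of_ne_zero hsf.ne_zero) h2n)
  obtain ⟨u, hu⟩ : 2 ∣ t := by
    by_contra hodd
    have h4n : 4 ∣ n := by
      have hc : Nat.Coprime 4 t :=
        (Nat.Coprime.pow_left 2 ((Nat.prime_two.coprime_iff_not_dvd).2 hodd) :)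
      exact hc.dvd_of_dvd_mul_right (hnt ▸ h4)
    exact absurd (Nat.isUnit_iff.1 (hsf 2 h4n)) (by norm_num)
  have hu1 : 1 ≤ u := Nat.pos_of_ne_zero fun h => by rw [hu, h] at hnt; simp at hnt; omega
  have hQ : 1 < p ^ t := Nat.one_lt_pow (by omega) hp.one_lt
  have hlow : (p ^ t - 1) ^ Nat.totient n < s * (a + 1) ^ 2 := by
    have h := (S2904.lower (a := p ^ t) hn1 hQ).trans_le ((hval p).symm.le.trans hbound)
    exact_mod_cast h
  have hsle : s ≤ a := Nat.le_of_dvd ha hsa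
  -- eight to the half totient
  have h8 : 8 ^ (u * Nat.totient n) ≤ a * (a + 1) ^ 2 := by
    refine le_trans ?_ (hlow.le.trans (Nat.mul_le_mul_right _ hsle))
    rw [pow_mul]
    refine Nat.pow_le_pow_left ?_ _
    have h9 : 9 ^ u ≤ p ^ t := by
      rw [hu, pow_mul]
      exact Nat.pow_le_pow_left (by nlinarith) u
    have := nine_pow u hu1
    omega
  have hφ : 1 ≤ Nat.totient n := Nat.totient_pos.2 (by omega)
  have haw : a ≤ 4 * (u * Nat.totient n) ^ 2 := by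
    have h1 := (PrimPart.sqfree_le n hsf).1
    have h2 : u ≤ u ^ 2 := Nat.le_self_pow two_ne_zero u
    calc a = 2 * u * n := by rw [hnt, hu]; ring
      _ ≤ 2 * u * (2 * Nat.totient n ^ 2) := Nat.mul_le_mul_left _ h1
      _ = 4 * (u * Nat.totient n ^ 2) := by ring
      _ ≤ 4 * (u ^ 2 * Nat.totient n ^ 2) := Nat.mul_le_mul_left _ (Nat.mul_le_mul_right _ h2)
      _ = 4 * (u * Nat.totient n) ^ 2 := by ring
  have hw : u * Nat.totient n ≤ 8 := by
    by_contra hlt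
    have := exp_bound (u * Nat.totient n) (by omega)
    have h3 : a * (a + 1) ^ 2 ≤ 4 * (u * Nat.totient n) ^ 2 * (4 * (u * Nat.totient n) ^ 2 + 1) ^ 2 :=
      Nat.mul_le_mul haw (Nat.pow_le_pow_left (by omega) 2)
    omega
  have hn128 : n ≤ 128 := by
    refine (PrimPart.sqfree_le n hsf).1.trans ?_
    have h1 : Nat.totient n ≤ 8 := (Nat.le_mul_of_pos_left _ hu1).trans hw
    calc 2 * Nat.totient n ^ 2 ≤ 2 * 8 ^ 2 := Nat.mul_le_mul_left _ (Nat.pow_le_pow_left h1 2)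
      _ = 128 := by norm_num
  have hu8 : u ≤ 8 := (Nat.le_mul_of_pos_right _ hφ).trans hw
  have hae : a = 2 * u * n := by rw [hnt, hu]; ring
  have ha' : a = 4 ∨ a = 12 ∨ a = 16 := by
    rw [hae] at h8 hr ⊢
    exact totient_check n (Finset.mem_range.2 (by omega)) u (Finset.mem_range.2 (by omega)) h2n hu1 hw h8 hr
  rcases ha' with rfl | rfl | rfl
  · refine ⟨rfl, ?_⟩
    -- here `Φ₄ = p ^ 2 + 1 ≤ 50`
    have hev : (cyclotomic 4 ℤ).eval (p : ℤ) = (p : ℤ) ^ 2 + 1 := by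
      rw [show (4 : ℕ) = 2 ^ (1 + 1) from rfl, cyclotomic_prime_pow_eq_geom_sum Nat.prime_two]
      simp [Finset.sum_range_succ]
      ring
    rw [hev] at hbound
    have hs2 : s = 2 := by
      have h2 : s ∣ 2 ^ 2 := hsa
      exact (Nat.prime_dvd_prime_iff_eq hs Nat.prime_two).1 (hs.dvd_of_dvd_pow h2)
    subst hs2
    have hp7 : p ≤ 7 := by
      by_contra hlt
      have : (64 : ℤ) ≤ (p : ℤ) ^ 2 := by
        have : (8 : ℤ) ≤ p := by exact_mod_cast (show 8 ≤ p by omega)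
        nlinarith
      push_cast at hbound
      linarith
    interval_cases p
    · exact Or.inl rfl
    · norm_num at hp
    · exact absurd hprim.2.1 (by norm_num)
    · norm_num at hp
    · exact Or.inr rfl
  · exfalso
    have hs3 : s ≤ 3 := by
      have h : ∀ s ≤ 12, s.Prime → s ∣ 12 → s ≤ 3 := by decide
      exact h s hsle hs hsa
    have hlow' : (p ^ t - 1) ^ Nat.totient n < 3 * 169 := hlow.trans_le (Nat.mul_le_mul_right _ hs3)
    rcases Nat.lt_or_ge p 5 with hp5 | hp5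
    · interval_cases p
      · have := hall 73 ⟨by norm_num, by norm_num, fun k hk hk12 => by interval_cases k <;> norm_num⟩
        omega
      · norm_num at hp
    · have hcases : ∀ n ∈ Finset.range 129, ∀ u ∈ Finset.range 9, 2 ∣ n → 2 * u * n = 12 → u * Nat.totient n ≤ 8 →
          507 ≤ (5 ^ (2 * u) - 1) ^ Nat.totient n := by decide +kernel
      have h5 := hcases n (Finset.mem_range.2 (by omega)) u (Finset.mem_range.2 (by omega)) h2n hae.symm hw
      have : (5 ^ (2 * u) - 1) ^ Nat.totient n ≤ (p ^ t - 1) ^ Nat.totient n := by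
        rw [hu]
        exact Nat.pow_le_pow_left (Nat.sub_le_sub_right (Nat.pow_le_pow_left hp5 _) 1) _
      omega
  · exfalso
    have hs2 : s = 2 := by
      have h2 : s ∣ 2 ^ 4 := hsa
      exact (Nat.prime_dvd_prime_iff_eq hs Nat.prime_two).1 (hs.dvd_of_dvd_pow h2)
    subst hs2
    have hcases : ∀ n ∈ Finset.range 129, ∀ u ∈ Finset.range 9, 2 ∣ n → 2 * u * n = 16 → u * Nat.totient n ≤ 8 →
        2 * 289 ≤ (3 ^ (2 * u) - 1) ^ Nat.totient n := by decide +kernel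
    have h5 := hcases n (Finset.mem_range.2 (by omega)) u (Finset.mem_range.2 (by omega)) h2n hae.symm hw
    have : (3 ^ (2 * u) - 1) ^ Nat.totient n ≤ (p ^ t - 1) ^ Nat.totient n := by
      rw [hu]
      exact Nat.pow_le_pow_left (Nat.sub_le_sub_right (Nat.pow_le_pow_left hp3 _) 1) _
    omega

end Cfsg.Agent.Char.KThree
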