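import Cfsg.Agent.Lib.Char.KThree.Setting
import Mathlib

/-!
# Four dimensions over three elements

The remaining orders `80`, `320`, `1280` are excluded through the kernel of the action on five cosets.
-/

set_option autoImplicit false
set_option linter.unusedSectionVars false
set_option linter.style.haveILetI false
set_option maxHeartbeats 1000000

namespace Cfsg.Agent.Char.KThree

universe u

variable {E : Type u} [Group E] [Finite E]

/-- A subgroup normalized by `y` of order five has the order of its fixed part modulo five. -/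
theorem card_modEq_fixed {y : E} (hy : orderOf y = 5) (W : Subgroup E) (hW : ∀ w ∈ W, y * w * y⁻¹ ∈ W) :
    Nat.card W ≡ Nat.card (W ⊓ Subgroup.centralizer ({y} : Set E) : Subgroup E) [MOD 5] := by
  haveI : Fact (Nat.Prime 5) := ⟨by norm_num⟩
  have hP : IsPGroup 5 (Subgroup.zpowers y) := IsPGroup.of_card (n := 1) (by rw [Nat.card_zpowers, hy, pow_one])
  have hmem : ∀ (x : Subgroup.zpowers y), ∀ w ∈ W, (x : E) * w * (x : E)⁻¹ ∈ W := by
    intro x
    obtain ⟨m, hm⟩ := (mem_powers_iff_mem_zpowers (x := y)).2 x.2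
    simp only at hm
    rw [← hm]
    clear hm
    induction m with
    | zero => intro w hw; simpa using hw
    | succ m ih =>
      intro w hw
      have := hW _ (ih w hw)
      rw [pow_succ']
      simpa [mul_assoc] using this
  letI : MulAction (Subgroup.zpowers y) W :=
    { smul := fun x w => ⟨(x : E) * w * (x : E)⁻¹, hmem x w w.2⟩
      one_smul := fun w => Subtype.ext (by show (1 : E) * w * (1 : E)⁻¹ = w; simp)
      mul_smul := fun x z w => Subtype.ext (by
        show ((x : E) * z) * w * ((x : E) * z)⁻¹ = (x : E) * (z * w * (z : E)⁻¹) * (x : E)⁻¹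
        group) }
  refine (hP.card_modEq_card_fixedPoints W).trans
    (Eq.subst (motive := fun x => _ ≡ x [MOD 5]) ?_ (Nat.ModEq.refl _))
  refine Nat.card_congr ⟨fun w => ⟨w.1, w.1.2, ?_⟩, fun w => ⟨⟨w, w.2.1⟩, fun x => Subtype.ext ?_⟩,
    fun _ => rfl, fun _ => rfl⟩
  · show (w.1 : E) ∈ Subgroup.centralizer ({y} : Set E)
    have hfix : y * (w.1 : E) * y⁻¹ = w.1 := congrArg Subtype.val (w.2 ⟨y, Subgroup.mem_zpowers y⟩)
    rw [Subgroup.mem_centralizer_singleton_iff]
    have := congrArg (· * y) hfix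
    simpa [mul_assoc] using this.symm
  · show (x : E) * w * (x : E)⁻¹ = w
    obtain ⟨m, hm⟩ := (mem_powers_iff_mem_zpowers (x := y)).2 x.2
    simp only at hm
    have hc : Commute y (w : E) := (Subgroup.mem_centralizer_singleton_iff.1 w.2.2).symm
    rw [← hm, (hc.pow_left m).eq, mul_inv_cancel_right]

theorem end_neg_mul {V : Type*} [AddCommGroup V] [Module (ZMod 3) V] (a b : Module.End (ZMod 3) V) :
    -a * b = -(a * b) := LinearMap.ext fun _ => rfl

theorem end_mul_neg {V : Type*} [AddCommGroup V] [Module (ZMod 3) V] (a b : Module.End (ZMod 3) V) :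
    a * -b = -(a * b) := LinearMap.ext fun v => map_neg a (b v)

theorem end_neg_one_mul {V : Type*} [AddCommGroup V] [Module (ZMod 3) V] (b : Module.End (ZMod 3) V) :
    (-1) * b = -b := LinearMap.ext fun _ => rfl

theorem end_mul_neg_one {V : Type*} [AddCommGroup V] [Module (ZMod 3) V] (b : Module.End (ZMod 3) V) :
    b * (-1) = -b := LinearMap.ext fun v => map_neg b v

variable [Fact (Nat.Prime 3)] {ρ : E →* GL (Fin 4) (ZMod 3)} {f a₁ a₂ : ℕ} {Y : Set E}

theorem prim_five : IsPrim 3 4 5 :=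
  ⟨by norm_num, by norm_num, fun k hk hk4 => by interval_cases k <;> norm_num⟩

/-- A normal set of commuting involutions lies in the centre of the linear group. -/
theorem Ctx.normal_invol (h : Ctx ρ f a₁ a₂ Y) {y : E} (hy : orderOf y = 5) (W : Subgroup E) [W.Normal]
    (hab : ∀ u ∈ W, ∀ v ∈ W, u * v = v * u) (hsq : ∀ u ∈ W, u * u = 1) :
    ∀ u ∈ W, u = 1 ∨ act ρ u = -1 := by
  classical
  haveI := Fintype.ofFinite E
  by_contra hne
  push Not at hne
  obtain ⟨u, huW, hu1, hu2⟩ := hne
  set F : Subgroup E := W ⊓ Subgroup.centralizer ({y} : Set E)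
  have hF : ∀ w ∈ F, w = 1 ∨ act ρ w = -1 := fun w hw => by
    rcases eq_or_ne w 1 with e | e
    · exact Or.inl e
    · exact Or.inr (h.neg_of_commute prim_five hy (hsq w hw.1) e
        (Subgroup.mem_centralizer_singleton_iff.1 hw.2))
  have hmod := card_modEq_fixed hy W (fun w hw => Subgroup.Normal.conj_mem ‹_› w hw y)
  have hWp : IsPGroup 2 W := fun w => ⟨1, Subtype.ext (by
    rw [pow_one, Subgroup.coe_pow, pow_two, hsq w w.2]; rfl)⟩
  obtain ⟨b, hb⟩ := hWp.exists_card_eq
  -- the matrices of `± W`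
  set S : Finset (Module.End (ZMod 3) (Fin 4 → ZMod 3)) :=
    (Finset.univ.filter (· ∈ W)).image (act ρ) with hS
  set S' := S ∪ S.image (fun s => -s) with hS'
  have hcomm : ∀ s ∈ S', ∀ t ∈ S', Commute s t := by
    have h0 : ∀ s ∈ S, ∀ t ∈ S, Commute s t := by
      intro s hs t ht
      simp only [hS, Finset.mem_image, Finset.mem_filter, Finset.mem_univ, true_and] at hs ht
      obtain ⟨a, ha, rfl⟩ := hs
      obtain ⟨c, hc, rfl⟩ := ht
      show act ρ a * act ρ c = act ρ c * act ρ a
      rw [← act_mul, ← act_mul, hab a ha c hc]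
    intro s hs t ht
    simp only [hS', Finset.mem_union, Finset.mem_image] at hs ht
    rcases hs with hs | ⟨s, hs, rfl⟩ <;> rcases ht with ht | ⟨t, ht, rfl⟩
    · exact h0 _ hs _ ht
    · exact (h0 _ hs _ ht).neg_right
    · exact (h0 _ hs _ ht).neg_left
    · exact (h0 _ hs _ ht).neg_right.neg_left
  have hsq' : ∀ s ∈ S', s * s = 1 := by
    have h0 : ∀ s ∈ S, s * s = 1 := by
      intro s hs
      simp only [hS, Finset.mem_image, Finset.mem_filter, Finset.mem_univ, true_and] at hs
      obtain ⟨a, ha, rfl⟩ := hs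
      rw [← act_mul, hsq a ha, act_one]
    intro s hs
    simp only [hS', Finset.mem_union, Finset.mem_image] at hs
    rcases hs with hs | ⟨s, hs, rfl⟩
    · exact h0 _ hs
    · rw [end_neg_mul, end_mul_neg, neg_neg]; exact h0 _ hs
  have hle := card_invol_le (p := 3) (by norm_num) 4 (Fin 4 → ZMod 3) (by simp) S' hcomm hsq'
  have hScard : S.card = Nat.card W := by
    rw [hS, Finset.card_image_of_injective _ (fun x z e => act_inj ρ h.inj e), Nat.card_eq_fintype_card,
      Fintype.card_subtype]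
  by_cases hneg : ∃ w ∈ W, act ρ w = -1
  · obtain ⟨w, hw, hwe⟩ := hneg
    have hw1 : w ≠ 1 := fun e => act_ne_neg_one (ρ := ρ) (by norm_num) (by norm_num) (e ▸ hwe)
    have hwc : w ∈ Subgroup.centralizer ({y} : Set E) := by
      rw [Subgroup.mem_centralizer_singleton_iff]
      refine act_inj ρ h.inj ?_
      rw [act_mul, act_mul, hwe, end_neg_one_mul, end_mul_neg_one]
    have hF2 : Nat.card F = 2 := by
      refine le_antisymm ?_ ?_
      · rw [Nat.card_eq_fintype_card, Fintype.card_subtype]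
        refine (Finset.card_le_card (t := {1, w}) fun x hx => ?_).trans Finset.card_le_two
        rw [Finset.mem_filter] at hx
        rcases hF x hx.2 with e | e
        · simp [e]
        · simp [act_inj ρ h.inj (e.trans hwe.symm)]
      · rw [Nat.card_eq_fintype_card, Fintype.card_subtype]
        refine le_trans ?_ (Finset.card_le_card (s := ({1, w} : Finset E)) fun x hx => ?_)
        · rw [Finset.card_pair (Ne.symm hw1)]
        · simp only [Finset.mem_insert, Finset.mem_singleton] at hx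
          rw [Finset.mem_filter]
          refine ⟨Finset.mem_univ _, ?_⟩
          rcases hx with rfl | rfl
          · exact one_mem F
          · exact ⟨hw, hwc⟩
    rw [hF2, hb] at hmod
    have hne3 : ({1, w, u} : Finset E).card = 3 := by
      rw [Finset.card_insert_of_notMem, Finset.card_pair]
      · exact fun e => hu2 (e ▸ hwe)
      · simp [Ne.symm hw1, Ne.symm hu1]
    have h3 : 2 < Nat.card W := by
      rw [Nat.card_eq_fintype_card, Fintype.card_subtype]
      refine lt_of_lt_of_le (show 2 < ({1, w, u} : Finset E).card by rw [hne3]; norm_num)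
        (Finset.card_le_card fun x hx => ?_)
      simp only [Finset.mem_insert, Finset.mem_singleton] at hx
      rw [Finset.mem_filter]
      refine ⟨Finset.mem_univ _, ?_⟩
      rcases hx with rfl | rfl | rfl
      · exact one_mem W
      · exact hw
      · exact huW
    have hle2 : S.card ≤ 16 := (Finset.card_le_card Finset.subset_union_left).trans hle
    rw [hScard, hb] at hle2
    rw [hb] at h3
    have hb4 : b ≤ 4 := (Nat.pow_le_pow_iff_right (le_refl 2)).1 (hle2.trans_eq (by norm_num))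
    interval_cases b <;> simp_all [Nat.ModEq]
  · push Not at hneg
    have hF1 : Nat.card F = 1 := by
      rw [Nat.card_eq_one_iff_unique]
      refine ⟨⟨fun x z => ?_⟩, ⟨1⟩⟩
      have hx := (hF x x.2).resolve_right (hneg x x.2.1)
      have hz := (hF z z.2).resolve_right (hneg z z.2.1)
      exact Subtype.ext (hx.trans hz.symm)
    rw [hF1, hb] at hmod
    have hdisj : Disjoint S (S.image fun s => -s) := by
      rw [Finset.disjoint_left]
      intro s hs hs'
      simp only [hS, Finset.mem_image, Finset.mem_filter, Finset.mem_univ, true_and] at hs hs'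
      obtain ⟨a, ha, rfl⟩ := hs
      obtain ⟨_, ⟨c, hc, rfl⟩, he⟩ := hs'
      refine hneg (a * c) (W.mul_mem ha hc) ?_
      rw [act_mul, ← he, end_neg_mul, ← act_mul, hsq c hc, act_one]
    have hle2 : 2 * Nat.card W ≤ 16 := by
      rw [← hScard]
      refine le_trans (le_of_eq ?_) hle
      rw [hS', Finset.card_union_of_disjoint hdisj, Finset.card_image_of_injective _ neg_injective]
      ring
    rw [hb] at hle2
    have hb4 : b ≤ 3 := (Nat.pow_le_pow_iff_right (le_refl 2)).1 (by omega)
    have h1 : 1 < Nat.card W := by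
      rw [Nat.card_eq_fintype_card]
      exact Fintype.one_lt_card_iff.2 ⟨⟨u, huW⟩, 1, fun e => hu1 (congrArg Subtype.val e)⟩
    rw [hb] at h1
    interval_cases b <;> simp_all [Nat.ModEq]

/-- The case of order `1280`. -/
theorem Ctx.no_sixty_four (h : Ctx ρ f a₁ a₂ Y) {y i : E} (hy : orderOf y = 5) (Q : Subgroup E) [hQn : Q.Normal]
    (hQ2 : IsPGroup 2 Q) (hQc : Nat.card Q = 64) (hiQ : i ∈ Q) (hi4 : orderOf i = 4) (hiy : i * y = y * i)
    (hfix : ∀ q ∈ Q, q * y = y * q → q ∈ Subgroup.zpowers i)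
    (hneg : act ρ (i * i) = -1)
    (hinv : ∀ q ∈ Q, q * q = 1 → (∀ x ∈ Q, q * x = x * q) → q = 1 ∨ act ρ q = -1) : False := by
  classical
  haveI := Fintype.ofFinite E
  set I := Subgroup.zpowers i
  have hIc : Nat.card I = 4 := by rw [Nat.card_zpowers, hi4]
  have hIQ : I ≤ Q := Subgroup.zpowers_le.2 hiQ
  have hIfix : ∀ x ∈ I, x ∈ Subgroup.centralizer ({y} : Set E) := fun x hx =>
    (Subgroup.zpowers_le.2 (Subgroup.mem_centralizer_singleton_iff.2 hiy) : I ≤ _) hx
  -- invariant subgroups over `⟨i⟩`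
  have hsize : ∀ W : Subgroup E, W ≤ Q → I ≤ W → (∀ w ∈ W, y * w * y⁻¹ ∈ W) →
      W = I ∨ W = Q := by
    intro W hWQ hIW hWy
    have hmod := card_modEq_fixed hy W hWy
    have e : W ⊓ Subgroup.centralizer ({y} : Set E) = I := le_antisymm
      (fun w hw => hfix w (hWQ hw.1) (Subgroup.mem_centralizer_singleton_iff.1 hw.2))
      (le_inf hIW hIfix)
    rw [e, hIc] at hmod
    obtain ⟨b, hb, hWb⟩ := (Nat.dvd_prime_pow Nat.prime_two).1
      (show Nat.card W ∣ 2 ^ 6 by rw [show 2 ^ 6 = 64 from rfl, ← hQc]; exact Subgroup.card_dvd_of_le hWQ)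
    have h4 : 4 ∣ Nat.card W := hIc ▸ Subgroup.card_dvd_of_le hIW
    rw [hWb] at hmod h4
    interval_cases b <;> simp [Nat.ModEq] at hmod h4 ⊢
    · exact Or.inl (Subgroup.eq_of_le_of_card_ge hIW (by rw [hWb, hIc]; norm_num)).symm
    · exact Or.inr (Subgroup.eq_of_le_of_card_ge hWQ (by rw [hWb, hQc]; norm_num))
  have hyi : y * i * y⁻¹ = i := by rw [← hiy]; group
  -- `i` is central in `Q`
  have hcent : ∀ q ∈ Q, q * i = i * q := by
    set W := Q ⊓ Subgroup.centralizer ({i} : Set E)
    have hWy : ∀ w ∈ W, y * w * y⁻¹ ∈ W := by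
      rintro w ⟨hwQ, hwi⟩
      refine ⟨hQn.conj_mem w hwQ y, ?_⟩
      replace hwi := Subgroup.mem_centralizer_singleton_iff.1 hwi
      refine Subgroup.mem_centralizer_singleton_iff.2 ?_
      calc y * w * y⁻¹ * i = y * w * y⁻¹ * (y * i * y⁻¹) := by rw [hyi]
        _ = y * (w * i) * y⁻¹ := by group
        _ = y * (i * w) * y⁻¹ := by rw [hwi]
        _ = y * i * y⁻¹ * (y * w * y⁻¹) := by group
        _ = i * (y * w * y⁻¹) := by rw [hyi]
    have hIW : I ≤ W := le_inf hIQ (Subgroup.zpowers_le.2 (Subgroup.mem_centralizer_singleton_iff.2 rfl))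
    rcases hsize W inf_le_left hIW hWy with e | e
    · exfalso
      set P := Q ⊓ Subgroup.normalizer (I : Set E)
      have hPy : ∀ w ∈ P, y * w * y⁻¹ ∈ P := by
        rintro w ⟨hwQ, hwn⟩
        refine ⟨hQn.conj_mem w hwQ y, ?_⟩
        have hyn : y ∈ Subgroup.normalizer (I : Set E) :=
          Subgroup.centralizer_le_normalizer _ (Subgroup.mem_centralizer_iff.2 fun x hx =>
            Subgroup.mem_centralizer_singleton_iff.1 (hIfix x hx))
        exact Subgroup.mul_mem _ (Subgroup.mul_mem _ hyn hwn) (Subgroup.inv_mem _ hyn)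
      rcases hsize P inf_le_left (le_inf hIQ Subgroup.le_normalizer) hPy with eP | eP
      · -- the normalizer grows in a nilpotent group
        have hlt : I.subgroupOf Q < ⊤ := by
          rw [lt_top_iff_ne_top, Ne, Subgroup.subgroupOf_eq_top]
          intro hle
          have := Subgroup.card_dvd_of_le hle
          rw [hQc, hIc] at this
          norm_num at this
        haveI := hQ2.isNilpotent
        have := normalizerCondition_of_isNilpotent (G := Q) _ hlt
        obtain ⟨w, hw, hwI⟩ := SetLike.exists_of_lt this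
        refine hwI ?_
        show (w : E) ∈ I
        rw [← eP]
        refine ⟨w.2, ?_⟩
        refine Subgroup.mem_normalizer_iff.2 fun x => ?_
        rw [Subgroup.mem_normalizer_iff] at hw
        constructor
        · exact fun hx => (hw ⟨x, hIQ hx⟩).1 hx
        · intro hx
          have hxQ : x ∈ Q := by
            have := mul_mem (mul_mem (inv_mem w.2) (hIQ hx)) w.2
            simpa [mul_assoc] using this
          exact (hw ⟨x, hxQ⟩).2 hx
      · -- `Q` normalizes `⟨i⟩`, so its centralizer of `i` has index at most two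
        have hqi : ∀ q ∈ Q, q * i * q⁻¹ = i ∨ q * i * q⁻¹ = i⁻¹ := by
          intro q hq
          have hqn : q ∈ Subgroup.normalizer (I : Set E) := (eP.symm ▸ hq : q ∈ P).2
          have hm : q * i * q⁻¹ ∈ I := (Subgroup.mem_normalizer_iff.1 hqn i).1 (Subgroup.mem_zpowers i)
          obtain ⟨m, hm⟩ := (mem_powers_iff_mem_zpowers (x := i)).2 hm
          simp only at hm
          have ho : orderOf (q * i * q⁻¹) = 4 := by rw [← MulAut.conj_apply, MulEquiv.orderOf_eq, hi4]
          rw [← hm, ← pow_mod_orderOf, hi4] at ho ⊢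
          have hm4 : m % 4 < 4 := Nat.mod_lt _ (by norm_num)
          interval_cases hc : m % 4
          · simp at ho
          · exact Or.inl (pow_one i)
          · exfalso
            rw [orderOf_pow' _ (by norm_num), hi4] at ho
            norm_num at ho
          · refine Or.inr (eq_inv_of_mul_eq_one_left ?_)
            rw [← pow_succ, show 3 + 1 = orderOf i from hi4.symm, pow_orderOf_eq_one]
        obtain ⟨q0, hq0, hq0W⟩ : ∃ q0 ∈ Q, q0 ∉ W := by
          by_contra hno
          push Not at hno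
          have := Subgroup.card_dvd_of_le (show Q ≤ W from fun x hx => hno x hx)
          rw [e, hQc, hIc] at this
          norm_num at this
        -- two elements outside `W` differ by one inside
        have h2 : Nat.card Q ≤ 2 * Nat.card W := by
          rw [Nat.card_eq_fintype_card, Nat.card_eq_fintype_card, Fintype.card_subtype, Fintype.card_subtype]
          calc (Finset.univ.filter (· ∈ Q)).card
              ≤ ((Finset.univ.filter (· ∈ W)) ∪ (Finset.univ.filter (· ∈ W)).image (q0 * ·)).card := by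
                refine Finset.card_le_card fun q hq => ?_
                rw [Finset.mem_filter] at hq
                rw [Finset.mem_union]
                by_cases hqW : q ∈ W
                · exact Or.inl (Finset.mem_filter.2 ⟨Finset.mem_univ _, hqW⟩)
                · right
                  rw [Finset.mem_image]
                  refine ⟨q0⁻¹ * q, Finset.mem_filter.2 ⟨Finset.mem_univ _, Q.mul_mem (Q.inv_mem hq0) hq.2, ?_⟩, by group⟩
                  have hA : ∀ x ∈ Q, x ∉ W → x * i * x⁻¹ = i⁻¹ := fun x hx hxW =>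
                    (hqi x hx).resolve_left fun e => hxW ⟨hx, by
                      refine Subgroup.mem_centralizer_singleton_iff.2 ?_
                      have := congrArg (· * x) e
                      simpa [mul_assoc] using this⟩
                  refine Subgroup.mem_centralizer_singleton_iff.2 ?_
                  have e1 := hA q hq.2 hqW
                  have e2 := hA q0 hq0 hq0W
                  have e3 : q * i = i⁻¹ * q := by rw [← e1]; group
                  calc q0⁻¹ * q * i = q0⁻¹ * (i⁻¹ * q) := by rw [mul_assoc, e3]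
                    _ = q0⁻¹ * (q0 * i * q0⁻¹ * q) := by rw [e2]
                    _ = i * (q0⁻¹ * q) := by group
            _ ≤ _ := (Finset.card_union_le _ _).trans (by
                rw [two_mul]; exact Nat.add_le_add_left Finset.card_image_le _)
        rw [hQc, e, hIc] at h2
        omega
    · intro q hq
      exact Subgroup.mem_centralizer_singleton_iff.1 (e.symm ▸ hq : q ∈ W).2
  -- the quotient by `⟨i⟩` is elementary abelian
  set IQ := I.subgroupOf Q
  have hIQcent : IQ ≤ Subgroup.center Q := fun x hx => Subgroup.mem_center_iff.2 fun q => Subtype.ext (by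
    obtain ⟨m, hm⟩ := (mem_powers_iff_mem_zpowers (x := i)).2 (hx : (x : E) ∈ I)
    simp only at hm
    have hm' : i ^ m = (x : E) := hm
    show (q : E) * x = x * q
    rw [← hm']
    exact ((show Commute (q : E) i from hcent q q.2).pow_right m).eq)
  haveI hIQn : IQ.Normal := ⟨fun n hn g => by
    rw [Subgroup.mem_center_iff.1 (hIQcent hn) g, mul_inv_cancel_right]; exact hn⟩
  have hpow4 : ∀ x ∈ I, x = 1 ∨ x = i ∨ x = i * i ∨ x = i * i * i := by
    intro x hx
    obtain ⟨m, hm⟩ := (mem_powers_iff_mem_zpowers (x := i)).2 hx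
    simp only at hm
    rw [← hm, ← pow_mod_orderOf, hi4]
    have hm4 : m % 4 < 4 := Nat.mod_lt _ (by norm_num)
    interval_cases m % 4
    · simp
    · simp
    · simp [pow_two]
    · simp [pow_succ, mul_assoc]
  set D : Q →* Q ⧸ IQ := QuotientGroup.mk' IQ
  have hQq : IsPGroup 2 (Q ⧸ IQ) := hQ2.to_quotient IQ
  have hnt : Nontrivial (Q ⧸ IQ) := by
    refine Finite.one_lt_card_iff_nontrivial.1 ?_
    have h1 := IQ.card_eq_card_quotient_mul_card_subgroup
    rw [hQc, Nat.card_congr (Subgroup.subgroupOfEquivOfLe hIQ).toEquiv, hIc] at h1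
    omega
  -- invariant pieces of the quotient
  have hyQ : ∀ q : Q, y * (q : E) * y⁻¹ ∈ Q := fun q => hQn.conj_mem q q.2 y
  have habel : ∀ u v : Q, u * v * u⁻¹ * v⁻¹ ∈ IQ := by
    set W := ((Subgroup.center (Q ⧸ IQ)).comap D).map Q.subtype
    have hWQ : W ≤ Q := Subgroup.map_subtype_le _
    have hIW : I ≤ W := fun x hx => ⟨⟨x, hIQ hx⟩, by
      rw [SetLike.mem_coe, Subgroup.mem_comap, QuotientGroup.mk'_apply,
        (QuotientGroup.eq_one_iff _).2 (show (⟨x, hIQ hx⟩ : Q) ∈ IQ from hx)]
      exact one_mem _, rfl⟩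
    have hWmem : ∀ w : Q, (w : E) ∈ W ↔ ∀ u : Q, u * w * u⁻¹ * w⁻¹ ∈ IQ := by
      intro w
      rw [show ((w : E) ∈ W) ↔ w ∈ (Subgroup.center (Q ⧸ IQ)).comap D from
        ⟨fun ⟨x, hx, e⟩ => (Subtype.ext e : x = w) ▸ hx, fun hx => ⟨w, hx, rfl⟩⟩,
        Subgroup.mem_comap, Subgroup.mem_center_iff]
      constructor
      · intro hw u
        refine (QuotientGroup.eq_one_iff _).1 ?_
        have := hw (D u)
        show D (u * w * u⁻¹ * w⁻¹) = 1
        rw [map_mul, map_mul, map_mul, this, map_inv, map_inv]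
        group
      · intro hw g
        obtain ⟨u, rfl⟩ := QuotientGroup.mk'_surjective IQ g
        have := (QuotientGroup.eq_one_iff _).2 (hw u)
        rw [← QuotientGroup.mk'_apply, map_mul, map_mul, map_mul, map_inv, map_inv,
          mul_inv_eq_one, mul_inv_eq_iff_eq_mul] at this
        exact this
    have hWy : ∀ w ∈ W, y * w * y⁻¹ ∈ W := by
      intro w hw
      have hwQ := hWQ hw
      rw [show y * w * y⁻¹ = ((⟨y * w * y⁻¹, hQn.conj_mem w hwQ y⟩ : Q) : E) from rfl, hWmem]
      intro u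
      have := (hWmem ⟨w, hwQ⟩).1 hw ⟨y⁻¹ * u * y, by simpa using hQn.conj_mem u u.2 y⁻¹⟩
      rw [Subgroup.mem_subgroupOf] at this ⊢
      simp only [Subgroup.coe_mul, Subgroup.coe_inv] at this ⊢
      obtain ⟨m, hm⟩ := (mem_powers_iff_mem_zpowers (x := i)).2 this
      refine (mem_powers_iff_mem_zpowers (x := i)).1 ⟨m, ?_⟩
      simp only at hm ⊢
      have hc : Commute y (i ^ m) := (show Commute y i from hiy.symm).pow_right m
      have h2 : y * i ^ m * y⁻¹ = i ^ m := by rw [hc.eq, mul_inv_cancel_right]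
      rw [← h2, hm]
      group
    rcases hsize W hWQ hIW hWy with e | e
    · exfalso
      haveI := hQq.center_nontrivial
      obtain ⟨c, hc⟩ := exists_ne (1 : Subgroup.center (Q ⧸ IQ))
      obtain ⟨w, hw⟩ := QuotientGroup.mk'_surjective IQ (c : Q ⧸ IQ)
      have hwW : (w : E) ∈ W := ⟨w, by rw [SetLike.mem_coe, Subgroup.mem_comap, hw]; exact c.2, rfl⟩
      rw [e] at hwW
      refine hc (Subtype.ext ?_)
      rw [← hw, QuotientGroup.mk'_apply]
      exact (QuotientGroup.eq_one_iff w).2 hwW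
    · intro u v
      exact (hWmem v).1 (e.symm ▸ v.2) u
  have hsquare : ∀ u : Q, u * u ∈ IQ := by
    set W := ({ carrier := {x | ∃ hx : x ∈ Q, (⟨x, hx⟩ : Q) * ⟨x, hx⟩ ∈ IQ}
                one_mem' := ⟨Q.one_mem, by rw [show (⟨1, Q.one_mem⟩ : Q) = 1 from rfl, one_mul]; exact IQ.one_mem⟩
                mul_mem' := fun {a b} ⟨ha, ha'⟩ ⟨hb, hb'⟩ => ⟨Q.mul_mem ha hb, by
                  have h1 := habel ⟨b, hb⟩ ⟨a, ha⟩
                  set A : Q := ⟨a, ha⟩
                  set B : Q := ⟨b, hb⟩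
                  rw [show (⟨a * b, Q.mul_mem ha hb⟩ : Q) = A * B from rfl,
                    show A * B * (A * B) = A * (B * A * B⁻¹ * A⁻¹) * A⁻¹ * ((A * A) * (B * B)) by group]
                  exact IQ.mul_mem (hIQn.conj_mem _ h1 A) (IQ.mul_mem ha' hb')⟩
                inv_mem' := fun {a} ⟨ha, ha'⟩ => ⟨Q.inv_mem ha, by
                  rw [show (⟨a⁻¹, Q.inv_mem ha⟩ : Q) = (⟨a, ha⟩ : Q)⁻¹ from rfl, ← mul_inv_rev]
                  exact IQ.inv_mem ha'⟩ } : Subgroup E)
    have hWQ : W ≤ Q := fun x ⟨hx, _⟩ => hx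
    have hIW : I ≤ W := fun x hx => ⟨hIQ hx, IQ.mul_mem hx hx⟩
    have hWy : ∀ w ∈ W, y * w * y⁻¹ ∈ W := by
      rintro w ⟨hwQ, hw⟩
      refine ⟨hQn.conj_mem w hwQ y, ?_⟩
      rw [Subgroup.mem_subgroupOf] at hw ⊢
      simp only [Subgroup.coe_mul] at hw ⊢
      have h2 := (Subgroup.mem_centralizer_singleton_iff.1 (hIfix _ hw))
      have h3 : y * w * y⁻¹ * (y * w * y⁻¹) = w * w := by
        rw [show y * w * y⁻¹ * (y * w * y⁻¹) = y * (w * w) * y⁻¹ by group, ← h2, mul_inv_cancel_right]
      rw [h3]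
      exact hw
    rcases hsize W hWQ hIW hWy with e | e
    · exfalso
      obtain ⟨c, hc⟩ : ∃ c : Q ⧸ IQ, orderOf c = 2 := by
        refine exists_prime_orderOf_dvd_card' 2 ?_
        obtain ⟨m, hm⟩ := hQq.exists_card_eq
        rw [hm]
        refine dvd_pow_self 2 fun h0 => ?_
        have := Finite.one_lt_card (α := Q ⧸ IQ)
        rw [hm, h0] at this
        norm_num at this
      obtain ⟨w, hw⟩ := QuotientGroup.mk'_surjective IQ c
      have hwW : (w : E) ∈ W := ⟨w.2, (QuotientGroup.eq_one_iff _).1 (by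
        show D (w * w) = 1
        rw [map_mul, hw, ← pow_two, ← hc, pow_orderOf_eq_one])⟩
      rw [e] at hwW
      have : c = 1 := by rw [← hw, QuotientGroup.mk'_apply]; exact (QuotientGroup.eq_one_iff w).2 hwW
      rw [this, orderOf_one] at hc
      norm_num at hc
    · intro u
      obtain ⟨_, hu⟩ : (u : E) ∈ W := e.symm ▸ u.2
      exact hu
  have hcomm : ∀ u ∈ Q, ∀ v ∈ Q, u * v * u⁻¹ * v⁻¹ ∈ I := fun u hu v hv => habel ⟨u, hu⟩ ⟨v, hv⟩
  have hsqI : ∀ u ∈ Q, u * u ∈ I := fun u hu => hsquare ⟨u, hu⟩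
  have hcI : ∀ x ∈ I, ∀ q ∈ Q, x * q = q * x := fun x hx q hq => by
    obtain ⟨m, hm⟩ := (mem_powers_iff_mem_zpowers (x := i)).2 hx
    rw [← hm]
    exact ((show Commute q i from hcent q hq).pow_right m).eq.symm
  have hi2 : i * i * (i * i) = 1 := by
    have := pow_orderOf_eq_one i
    rw [hi4] at this
    rw [← this]; simp [pow_succ, mul_assoc]
  -- commutators have order two
  have hc2 : ∀ u ∈ Q, ∀ v ∈ Q, u * v * u⁻¹ * v⁻¹ = 1 ∨ u * v * u⁻¹ * v⁻¹ = i * i := by
    intro u hu v hv
    set c := u * v * u⁻¹ * v⁻¹ with hc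
    have e1 : u * v = c * (v * u) := by rw [hc]; group
    have hcu := hcI c (hcomm u hu v hv) u hu
    have hu2 := hcI (u * u) (hsqI u hu) v hv
    have hcc : c * c = 1 := by
      have : u * u * v = c * c * (v * (u * u)) :=
        calc u * u * v = u * (u * v) := mul_assoc _ _ _
          _ = u * (c * (v * u)) := by rw [e1]
          _ = c * (u * v) * u := by rw [← mul_assoc, ← hcu]; group
          _ = c * (c * (v * u)) * u := by rw [e1]
          _ = c * c * (v * (u * u)) := by group
      rw [hu2] at this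
      exact (right_eq_mul.1 this : _)
    rcases hpow4 c (hcomm u hu v hv) with e | e | e | e
    · exact Or.inl e
    · exfalso
      rw [e] at hcc
      have h1 := orderOf_dvd_of_pow_eq_one (show i ^ 2 = 1 by rw [pow_two]; exact hcc)
      rw [hi4] at h1
      norm_num at h1
    · exact Or.inr e
    · exfalso
      rw [e, show i * i * i * (i * i * i) = (i * i * (i * i)) * (i * i) by group, hi2, one_mul] at hcc
      have h1 := orderOf_dvd_of_pow_eq_one (show i ^ 2 = 1 by rw [pow_two]; exact hcc)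
      rw [hi4] at h1
      norm_num at h1
  -- an involution outside `⟨i⟩`
  obtain ⟨j, hjQ, hjI, hj2⟩ : ∃ j ∈ Q, j ∉ I ∧ j * j = 1 := by
    have hQI : ∀ X : Finset E, X.card ≤ 1 → ∃ u ∈ Q, u ∉ I ∧ ∀ x ∈ X, x⁻¹ * u ∉ I := by
      intro X hX
      by_contra hno
      push Not at hno
      have h1 : (Finset.univ.filter (· ∈ Q)) ⊆
          Finset.univ.filter (· ∈ I) ∪ X.biUnion (fun x => (Finset.univ.filter (· ∈ I)).image (x * ·)) := by
        intro q hq
        rw [Finset.mem_filter] at hq
        rw [Finset.mem_union]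
        by_cases hqI : q ∈ I
        · exact Or.inl (Finset.mem_filter.2 ⟨Finset.mem_univ _, hqI⟩)
        · obtain ⟨x, hx, hxI⟩ := hno q hq.2 hqI
          exact Or.inr (Finset.mem_biUnion.2 ⟨x, hx, Finset.mem_image.2 ⟨x⁻¹ * q,
            Finset.mem_filter.2 ⟨Finset.mem_univ _, hxI⟩, by group⟩⟩)
      have h2 := (Finset.card_le_card h1).trans ((Finset.card_union_le _ _).trans
        (Nat.add_le_add_left (Finset.card_biUnion_le.trans (Finset.sum_le_card_nsmul _ _ _
          fun x _ => Finset.card_image_le)) _))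
      rw [← Fintype.card_subtype, ← Fintype.card_subtype, ← Nat.card_eq_fintype_card,
        ← Nat.card_eq_fintype_card, hQc, hIc, smul_eq_mul] at h2
      omega
    obtain ⟨u, huQ, huI, -⟩ := hQI ∅ (by simp)
    obtain ⟨v, hvQ, hvI, hvu⟩ := hQI {u} (by simp)
    have hvu := hvu u (Finset.mem_singleton_self u)
    have hI1 := I.one_mem
    have hiI : i ∈ I := Subgroup.mem_zpowers i
    have hred : ∀ u ∈ Q, u ∉ I → (∃ j ∈ Q, j ∉ I ∧ j * j = 1) ∨ u * u = i ∨ u * u = i * i * i := by
      intro u hu huI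
      rcases hpow4 _ (hsqI u hu) with e | e | e | e
      · exact Or.inl ⟨u, hu, huI, e⟩
      · exact Or.inr (Or.inl e)
      · refine Or.inl ⟨u * i, Q.mul_mem hu hiQ, fun hm => huI ((I.mul_mem_cancel_right hiI).1 hm), ?_⟩
        rw [show u * i * (u * i) = u * (i * u) * i by group, hcI i hiI u hu,
          show u * (u * i) * i = (u * u) * (i * i) by group, e, hi2]
      · exact Or.inr (Or.inr e)
    rcases hred u huQ huI with hj | hu
    · exact hj
    rcases hred v hvQ hvI with hj | hv
    · exact hj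
    -- arrange equal squares
    obtain ⟨w, hwQ, hwI, hwu, hw⟩ : ∃ w ∈ Q, w ∉ I ∧ u⁻¹ * w ∉ I ∧ w * w = u * u := by
      by_cases he : v * v = u * u
      · exact ⟨v, hvQ, hvI, hvu, he⟩
      refine ⟨v * i, Q.mul_mem hvQ hiQ, fun hm => hvI ((I.mul_mem_cancel_right hiI).1 hm),
        fun hm => hvu ((I.mul_mem_cancel_right hiI).1 (by rwa [← mul_assoc] at hm)), ?_⟩
      rw [show v * i * (v * i) = v * (i * v) * i by group, hcI i hiI v hvQ,
        show v * (v * i) * i = (v * v) * (i * i) by group]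
      rcases hu with hu | hu <;> rcases hv with hv | hv
      · exact absurd (hv.trans hu.symm) he
      · rw [hu, hv, show i * i * i * (i * i) = (i * i * (i * i)) * i by group, hi2, one_mul]
      · rw [hu, hv]; group
      · exact absurd (hv.trans hu.symm) he
    set c := u * w * u⁻¹ * w⁻¹ with hc
    have e1 : u * w = c * (w * u) := by rw [hc]; group
    rcases hc2 u huQ w hwQ with e | e
    · -- commuting: the quotient is an involution
      have hcm : Commute u w := by
        have : u * w = w * u := by rw [e1, hc, e, one_mul]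
        exact this
      refine ⟨u⁻¹ * w, Q.mul_mem (Q.inv_mem huQ) hwQ, hwu, ?_⟩
      rw [show u⁻¹ * w * (u⁻¹ * w) = u⁻¹ * (w * u⁻¹) * w by group, ← hcm.inv_left.eq,
        show u⁻¹ * (u⁻¹ * w) * w = (u * u)⁻¹ * (w * w) by group, hw, inv_mul_cancel]
    · refine ⟨u * w, Q.mul_mem huQ hwQ, fun hm => hwu ?_, ?_⟩
      · have : u⁻¹ * w = (u * u)⁻¹ * (u * w) := by group
        rw [this]
        exact I.mul_mem (I.inv_mem (hsqI u huQ)) hm
      · have e2 : w * u = i * i * (u * w) := by
          rw [← hc] at e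
          rw [e] at e1
          rw [e1, ← mul_assoc, hi2, one_mul]
        have hii : i * i ∈ I := I.mul_mem hiI hiI
        calc u * w * (u * w) = u * (w * u) * w := by group
          _ = (u * (i * i)) * (u * w) * w := by rw [e2]; group
          _ = (i * i) * (u * u) * (w * w) := by rw [← hcI (i * i) hii u huQ]; group
          _ = 1 := by
            rw [hw]
            rcases hu with hu | hu <;> rw [hu]
            · rw [show i * i * i * i = i * i * (i * i) by group, hi2]
            · rw [show i * i * (i * i * i) * (i * i * i) = (i * i * (i * i)) * (i * i * (i * i)) by group,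
                hi2, one_mul]
  -- its centralizer is abelian
  set A := Q ⊓ Subgroup.centralizer ({j} : Set E)
  have hjI2 : act ρ j ≠ 1 := fun e => hjI ((act_inj ρ h.inj (e.trans (act_one ρ).symm)).symm ▸ I.one_mem)
  have hjn : act ρ j ≠ -1 := fun e => hjI (by
    rw [act_inj ρ h.inj (e.trans hneg.symm)]
    exact I.mul_mem (Subgroup.mem_zpowers i) (Subgroup.mem_zpowers i))
  have hcommi : ∀ q ∈ Q, Commute (act ρ q) (act ρ i) := fun q hq => by
    show act ρ q * act ρ i = act ρ i * act ρ q
    rw [← act_mul, ← act_mul, hcent q hq]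
  have hAab : ∀ g ∈ A, ∀ k ∈ A, g * k = k * g := by
    rintro g ⟨hgQ, hgj⟩ k ⟨hkQ, hkj⟩
    replace hgj := Subgroup.mem_centralizer_singleton_iff.1 hgj
    replace hkj := Subgroup.mem_centralizer_singleton_iff.1 hkj
    refine act_inj ρ h.inj ?_
    rw [act_mul, act_mul]
    refine (plane_comm (i := act ρ i) (j := act ρ j) (by rw [← act_mul, hneg])
      (by rw [← act_mul, hj2, act_one]) (hcommi j hjQ).symm hjI2 hjn (hcommi g hgQ) ?_
      (hcommi k hkQ) ?_).eq
    · show act ρ g * act ρ j = act ρ j * act ρ g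
      rw [← act_mul, ← act_mul, hgj]
    · show act ρ k * act ρ j = act ρ j * act ρ k
      rw [← act_mul, ← act_mul, hkj]
  -- a centre no larger than `⟨i⟩`
  have hcentre : ∀ x ∈ Q, (∀ q ∈ Q, x * q = q * x) → x ∈ I := by
    set W := Q ⊓ Subgroup.centralizer (Q : Set E)
    have hWy : ∀ w ∈ W, y * w * y⁻¹ ∈ W := fun w hw =>
      ⟨hQn.conj_mem w hw.1 y, (inferInstance : (Subgroup.centralizer (Q : Set E)).Normal).conj_mem w hw.2 y⟩
    have hIW : I ≤ W := le_inf hIQ fun x hx => Subgroup.mem_centralizer_iff.2 fun q hq => (hcI x hx q hq).symm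
    rcases hsize W inf_le_left hIW hWy with e | e
    · intro x hx hxc
      rw [← e]
      exact ⟨hx, Subgroup.mem_centralizer_iff.2 fun q hq => (hxc q hq).symm⟩
    · exfalso
      have hjc : ∀ x ∈ Q, j * x = x * j := fun x hx =>
        (Subgroup.mem_centralizer_iff.1 ((e.symm ▸ hjQ : j ∈ W).2) x hx).symm
      rcases hinv j hjQ hj2 hjc with e' | e'
      · exact hjI (e' ▸ I.one_mem)
      · exact hjn e'
  -- of index at most two
  have hAidx : Nat.card Q ≤ 2 * Nat.card A := by
    by_cases hQA : Q ≤ A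
    · have := Subgroup.card_le_of_le hQA; omega
    obtain ⟨q0, hq0, hq0A⟩ := SetLike.not_le_iff_exists.1 hQA
    have hout : ∀ q ∈ Q, q ∉ A → q * j = i * i * (j * q) := fun q hq hqA => by
      rcases hc2 q hq j hjQ with e | e
      · exact absurd ⟨hq, by
          refine Subgroup.mem_centralizer_singleton_iff.2 ?_
          have := congrArg (· * (j * q)) e
          simpa [mul_assoc] using this⟩ hqA
      · rw [← e]; group
    rw [Nat.card_eq_fintype_card, Nat.card_eq_fintype_card, Fintype.card_subtype, Fintype.card_subtype]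
    calc (Finset.univ.filter (· ∈ Q)).card
        ≤ ((Finset.univ.filter (· ∈ A)) ∪ (Finset.univ.filter (· ∈ A)).image (q0 * ·)).card := by
          refine Finset.card_le_card fun q hq => ?_
          rw [Finset.mem_filter] at hq
          rw [Finset.mem_union]
          by_cases hqA : q ∈ A
          · exact Or.inl (Finset.mem_filter.2 ⟨Finset.mem_univ _, hqA⟩)
          · right
            rw [Finset.mem_image]
            refine ⟨q0⁻¹ * q, Finset.mem_filter.2 ⟨Finset.mem_univ _, Q.mul_mem (Q.inv_mem hq0) hq.2, ?_⟩, by group⟩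
            refine Subgroup.mem_centralizer_singleton_iff.2 ?_
            calc q0⁻¹ * q * j = q0⁻¹ * (i * i * (j * q)) := by rw [mul_assoc, hout q hq.2 hqA]
              _ = q0⁻¹ * ((q0 * j) * q0⁻¹ * j⁻¹ * (j * q)) := by
                rw [hout q0 hq0 hq0A]; group
              _ = j * (q0⁻¹ * q) := by group
      _ ≤ _ := (Finset.card_union_le _ _).trans (by
          rw [two_mul]; exact Nat.add_le_add_left Finset.card_image_le _)
  have hIA : I ≤ A := le_inf hIQ fun x hx => Subgroup.mem_centralizer_singleton_iff.2 (hcI x hx j hjQ)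
  rw [hQc] at hAidx
  by_cases hAy : ∀ w ∈ A, y * w * y⁻¹ ∈ A
  · rcases hsize A inf_le_left hIA hAy with e | e
    · rw [e, hIc] at hAidx; omega
    · exact hjI (hcentre j hjQ fun q hq =>
        (Subgroup.mem_centralizer_singleton_iff.1 ((e.symm ▸ hq : q ∈ A).2)).symm)
  -- two abelian subgroups of index two
  push Not at hAy
  obtain ⟨w0, hw0, hw0'⟩ := hAy
  set A' := A.map (MulAut.conj y).toMonoidHom
  have hA'Q : A' ≤ Q := by
    rintro _ ⟨x, hx, rfl⟩
    exact hQn.conj_mem x hx.1 y
  have hA'c : Nat.card A' = Nat.card A :=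
    (Nat.card_congr (A.equivMapOfInjective _ (MulAut.conj y).injective).toEquiv).symm
  have hA'ab : ∀ g ∈ A', ∀ k ∈ A', g * k = k * g := by
    rintro _ ⟨g, hg, rfl⟩ _ ⟨k, hk, rfl⟩
    rw [← map_mul, hAab g hg k hk, map_mul]
  -- their join is everything
  have hsup : A ⊔ A' = Q := by
    refine Subgroup.eq_of_le_of_card_ge (sup_le inf_le_left hA'Q) ?_
    by_contra hlt
    push Not at hlt
    have hd := Subgroup.card_dvd_of_le (show A ⊔ A' ≤ Q from sup_le inf_le_left hA'Q)
    have hdA := Subgroup.card_dvd_of_le (le_sup_left : A ≤ A ⊔ A')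
    rw [hQc] at hd hlt
    have hAeq : Nat.card (A ⊔ A' : Subgroup E) = Nat.card A := by
      obtain ⟨b, hb6, hb⟩ := (Nat.dvd_prime_pow Nat.prime_two).1 (show Nat.card (A ⊔ A' : Subgroup E) ∣ 2 ^ 6 from hd)
      obtain ⟨c, hc6, hc⟩ := (Nat.dvd_prime_pow Nat.prime_two).1 (show Nat.card A ∣ 2 ^ 6 from hdA.trans hd)
      rw [hb] at hlt ⊢
      rw [hc] at hAidx ⊢
      rw [hb, hc] at hdA
      have hcb : c ≤ b := (Nat.pow_dvd_pow_iff_le_right (by norm_num)).1 hdA
      have hb5 : b < 6 := (Nat.pow_lt_pow_iff_right (a := 2) (by norm_num)).1 (by simpa using hlt)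
      have hc5 : 5 ≤ c := (Nat.pow_le_pow_iff_right (le_refl 2)).1 (by omega)
      rw [show b = c by omega]
    have hAA : A = A ⊔ A' := Subgroup.eq_of_le_of_card_ge le_sup_left hAeq.le
    exact hw0' (hAA ▸ (le_sup_right : A' ≤ A ⊔ A') ⟨w0, hw0, rfl⟩)
  have hinf : A ⊓ A' ≤ I := fun x hx => hcentre x hx.1.1 fun q hq => by
    have hle : A ⊔ A' ≤ Subgroup.centralizer ({x} : Set E) := sup_le
      (fun z hz => Subgroup.mem_centralizer_singleton_iff.2 (hAab z hz x hx.1))
      (fun z hz => Subgroup.mem_centralizer_singleton_iff.2 (hA'ab z hz x hx.2))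
    exact (Subgroup.mem_centralizer_singleton_iff.1 (hle (hsup.symm ▸ hq))).symm
  -- too many products
  have hprod : Nat.card A * Nat.card A' ≤ Nat.card Q * Nat.card (A ⊓ A' : Subgroup E) := by
    have h1 := Nat.card_congr (Equiv.refl (A × A'))
    haveI := Fintype.ofFinite A
    haveI := Fintype.ofFinite A'
    rw [← Nat.card_prod]
    let F : A × A' → Q := fun z => ⟨(z.1 : E) * z.2, Q.mul_mem z.1.2.1 (hA'Q z.2.2)⟩
    rw [Nat.card_eq_fintype_card, ← Finset.card_univ,
      Finset.card_eq_sum_card_fiberwise (f := F) (t := Finset.univ) (fun _ _ => Finset.mem_univ _)]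
    refine (Finset.sum_le_card_nsmul _ _ (Nat.card (A ⊓ A' : Subgroup E)) fun q _ => ?_).trans
      (le_of_eq (by simp only [Finset.card_univ, smul_eq_mul, Nat.card_eq_fintype_card]))
    rcases (Finset.univ.filter fun z => F z = q).eq_empty_or_nonempty with e | ⟨z0, hz0⟩
    · rw [e]; simp
    rw [Nat.card_eq_fintype_card, Fintype.card_subtype]
    refine Finset.card_le_card_of_injOn (fun z => ((z.1 : E))⁻¹ * z0.1) ?_ ?_
    · intro z hz
      simp only [Finset.coe_filter, Finset.mem_univ, true_and, Set.mem_setOf_eq] at hz ⊢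
      have he : (z.1 : E) * z.2 = z0.1 * z0.2 :=
        congrArg Subtype.val (hz.trans (Finset.mem_filter.1 hz0).2.symm)
      refine ⟨A.mul_mem (A.inv_mem z.1.2) z0.1.2, ?_⟩
      rw [SetLike.mem_coe, show ((z.1 : E))⁻¹ * z0.1 = (z.2 : E) * (z0.2 : E)⁻¹ by
        rw [eq_mul_inv_iff_mul_eq, mul_assoc, ← he]; group]
      exact A'.mul_mem z.2.2 (A'.inv_mem z0.2.2)
    · intro z hz z' hz' he
      simp only [Finset.coe_filter, Finset.mem_univ, true_and, Set.mem_setOf_eq] at hz hz' he
      have e1 : (z.1 : E) = z'.1 := inv_injective (mul_right_cancel he)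
      have he' : (z.1 : E) * z.2 = z'.1 * z'.2 := congrArg Subtype.val (hz.trans hz'.symm)
      rw [e1] at he'
      exact Prod.ext (Subtype.ext e1) (Subtype.ext (mul_left_cancel he'))
  have h4 : Nat.card (A ⊓ A' : Subgroup E) ≤ 4 := hIc ▸ Subgroup.card_le_of_le hinf
  rw [hA'c, hQc] at hprod
  nlinarith

theorem no_order_ten : ∀ π : Equiv.Perm (Fin 5), π ^ 10 = 1 → π ^ 2 = 1 ∨ π ^ 5 = 1 := by
  decide +kernel

/-- The kernel of the action on the five cosets of a Sylow 2-subgroup. -/
theorem five_kernel {b : ℕ} (hE : Nat.card E = 2 ^ b * 5) :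
    ∃ Q : Subgroup E, Q.Normal ∧ IsPGroup 2 Q ∧ 2 ^ b ∣ Nat.card Q * 8 ∧
      ∀ y i : E, orderOf y = 5 → i ^ 4 = 1 → i * y = y * i → i ∈ Q := by
  classical
  haveI : Fact (Nat.Prime 2) := ⟨Nat.prime_two⟩
  obtain ⟨S⟩ := (inferInstance : Nonempty (Sylow 2 E))
  have hfac : (2 ^ b * 5).factorization 2 = b := by
    rw [Nat.factorization_mul (by positivity) (by norm_num), Finsupp.add_apply,
      Nat.prime_two.factorization_pow, Finsupp.single_eq_same,
      Nat.factorization_eq_zero_of_not_dvd (by norm_num), add_zero]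
  have hSc : Nat.card (S : Subgroup E) = 2 ^ b := by rw [S.card_eq_multiplicity, hE, hfac]
  have hidx : (S : Subgroup E).index = 5 := by
    have h1 := (S : Subgroup E).card_mul_index
    rw [hSc, hE] at h1
    exact Nat.eq_of_mul_eq_mul_left (by positivity) h1
  haveI := Fintype.ofFinite (E ⧸ (S : Subgroup E))
  set φ : E →* Equiv.Perm (E ⧸ (S : Subgroup E)) := MulAction.toPermHom E (E ⧸ (S : Subgroup E))
  let e : (E ⧸ (S : Subgroup E)) ≃ Fin 5 := Fintype.equivFinOfCardEq (by
    rw [← Nat.card_eq_fintype_card, ← Subgroup.index_eq_card, hidx])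
  set ψ : E →* Equiv.Perm (Fin 5) := e.permCongrHom.toMonoidHom.comp φ
  have hkS : ψ.ker ≤ S := fun g hg => by
    have hφ : φ g = 1 := e.permCongrHom.injective (by rw [map_one]; exact hg)
    have := congrArg (fun π : Equiv.Perm _ => π ((1 : E) : E ⧸ (S : Subgroup E))) hφ
    simp only [φ, MulAction.toPermHom_apply, MulAction.toPerm_apply, Equiv.Perm.one_apply] at this
    rw [MulAction.Quotient.smul_coe, smul_eq_mul, mul_one, QuotientGroup.eq] at this
    simpa using this
  have hQ2 : IsPGroup 2 ψ.ker := S.isPGroup'.to_le hkS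
  refine ⟨ψ.ker, inferInstance, hQ2, ?_, fun y i hy hi hc => ?_⟩
  · have h1 : ψ.ker.index ∣ 120 := by
      rw [Subgroup.index_ker]
      exact (Subgroup.card_subgroup_dvd_card ψ.range).trans (by
        rw [Nat.card_eq_fintype_card, Fintype.card_perm, Fintype.card_fin]; norm_num [Nat.factorial])
    have h2 := ψ.ker.card_mul_index
    have h3 : 2 ^ b * 5 ∣ Nat.card ψ.ker * 120 := hE ▸ h2 ▸ Nat.mul_dvd_mul_left _ h1
    rw [show Nat.card ψ.ker * 120 = Nat.card ψ.ker * 8 * 15 by ring] at h3
    exact ((Nat.Coprime.pow_left b (by norm_num : Nat.Coprime 2 15)).dvd_of_dvd_mul_right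
      ((dvd_mul_right _ 5).trans h3))
  · rw [MonoidHom.mem_ker]
    have hy5 : ψ y ≠ 1 := fun h1 => by
      obtain ⟨k, hk⟩ := IsPGroup.iff_orderOf.1 hQ2 ⟨y, MonoidHom.mem_ker.2 h1⟩
      rw [Subgroup.orderOf_mk, hy] at hk
      exact absurd ((Nat.prime_dvd_prime_iff_eq (by norm_num) Nat.prime_two).1
        ((show Nat.Prime 5 by norm_num).dvd_of_dvd_pow (dvd_of_eq hk))) (by norm_num)
    have hy' : ψ y ^ 5 = 1 := (map_pow ψ y 5).symm.trans
      ((congrArg ψ (orderOf_dvd_iff_pow_eq_one.1 hy.dvd)).trans (map_one ψ))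
    have hcm : Commute (ψ i) (ψ y) := by
      show ψ i * ψ y = ψ y * ψ i
      rw [← map_mul, ← map_mul, hc]
    have h4 : ψ i ^ 4 = 1 := by rw [← map_pow, hi, map_one]
    have hgen : ∀ s : Equiv.Perm (Fin 5), s ^ 2 = 1 → Commute s (ψ y) → s = 1 := by
      intro s hs hsc
      rcases no_order_ten (s * ψ y) (by
        rw [hsc.mul_pow, show (10 : ℕ) = 2 * 5 from rfl, pow_mul, hs, one_pow, one_mul,
          mul_comm, pow_mul, hy', one_pow]) with h2 | h5
      · rw [hsc.mul_pow, hs, one_mul] at h2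
        exact absurd (calc ψ y = ψ y ^ 5 * ((ψ y ^ 2) ^ 2)⁻¹ := by group
          _ = 1 := by rw [hy', h2]; simp) hy5
      · rw [hsc.mul_pow, hy', mul_one] at h5
        calc s = s ^ 5 * ((s ^ 2) ^ 2)⁻¹ := by group
          _ = 1 := by rw [h5, hs]; simp
    exact hgen _ (hgen _ (by rw [← pow_mul]; exact h4) (hcm.pow_left 2)) hcm

theorem Ctx.not_four_three (h : Ctx ρ f a₁ a₂ Y) {y : E} (hy : orderOf y = 5) (hyY : y ∈ Y)
    (hsq : IsSquare (Nat.card Y)) (hmod : Nat.card Y % 5 = 4) : False := by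
  classical
  haveI := Fintype.ofFinite E
  haveI : Fact (Nat.Prime 5) := ⟨by norm_num⟩
  have hy1 : y ≠ 1 := fun e => by rw [e, orderOf_one] at hy; norm_num at hy
  set K := Subgroup.centralizer ({y} : Set E) with hK
  obtain ⟨hKcyc, hKd⟩ := centralizer_facts ρ h.inj prim_five hy
  have hK5 : 5 ∣ Nat.card K := hy ▸ (Subgroup.orderOf_mk y (Subgroup.mem_centralizer_singleton_iff.2 rfl) ▸
    orderOf_dvd_natCard _ : orderOf y ∣ Nat.card K)
  have hprod : Nat.card K * Nat.card Y = 80 * f ^ 2 := by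
    have e : Nat.card Y = K.index := by
      have hYe : Y = ((fun g => g * y * g⁻¹) '' Set.univ) := Set.ext fun z => by
        rw [h.two.mem_iff y hyY z, isConj_iff]
        simp
      rw [hYe, Set.image_univ, Subgroup.index_eq_card]
      refine (Nat.card_congr (Equiv.ofBijective (fun q => Quotient.liftOn' q
        (fun g => (⟨g * y * g⁻¹, g, rfl⟩ : Set.range fun g : E => g * y * g⁻¹)) ?_) ⟨?_, ?_⟩)).symm
      · intro g k hgk
        rw [QuotientGroup.leftRel_apply, hK, Subgroup.mem_centralizer_singleton_iff] at hgk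
        apply Subtype.ext
        calc g * y * g⁻¹ = g * (y * (g⁻¹ * k)) * k⁻¹ := by group
          _ = g * (g⁻¹ * k * y) * k⁻¹ := by rw [hgk]
          _ = k * y * k⁻¹ := by group
      · intro q q' he
        obtain ⟨g, rfl⟩ := QuotientGroup.mk_surjective q
        obtain ⟨k, rfl⟩ := QuotientGroup.mk_surjective q'
        refine QuotientGroup.eq.2 ?_
        rw [hK, Subgroup.mem_centralizer_singleton_iff]
        have he' : g * y * g⁻¹ = k * y * k⁻¹ := congrArg Subtype.val he
        calc g⁻¹ * k * y = g⁻¹ * (k * y * k⁻¹) * k := by group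
          _ = y * (g⁻¹ * k) := by rw [← he']; group
      · rintro ⟨_, g, rfl⟩
        exact ⟨QuotientGroup.mk g, rfl⟩
    rw [e, K.card_mul_index, h.card_eq]
    norm_num
  have hGL : Nat.card (GL (Fin 4) (ZMod 3)) = 80 * 303264 := by
    rw [Matrix.card_GL_field]; simp [Fin.prod_univ_succ]
  have hf : f = 1 ∨ f = 2 ∨ f = 4 := by
    have hd := h.dvd_GL
    rw [hGL, h.card_eq] at hd
    have h2 : f ^ 2 ∣ 303264 := Nat.dvd_of_mul_dvd_mul_left (by norm_num : 0 < 80) (by norm_num at hd ⊢; exact hd)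
    have h3 : ¬ 3 ∣ f := fun h3 => h.cop (h.card_eq ▸ (h3.trans (dvd_pow_self f two_ne_zero)).mul_left _)
    have hle : f ≤ 550 := by nlinarith [Nat.le_of_dvd (by norm_num) h2]
    have key : ∀ f ∈ Finset.range 551, f ^ 2 ∣ 303264 → ¬ 3 ∣ f → f = 1 ∨ f = 2 ∨ f = 4 := by decide +kernel
    exact key f (Finset.mem_range.2 (by omega)) h2 h3
  obtain ⟨m, hm⟩ := hsq
  -- the possibilities
  have hcases : (f = 1 ∧ Nat.card K = 20 ∧ Nat.card Y = 4) ∨ (f = 2 ∧ Nat.card K = 80) ∨
      (f = 2 ∧ Nat.card K = 5) ∨ (f = 4 ∧ Nat.card K = 20 ∧ Nat.card Y = 64) := by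
    have hKle : Nat.card K ≤ 80 := Nat.le_of_dvd (by norm_num) (by simpa using hKd)
    have hYle : Nat.card Y ≤ 256 := by
      have h5 : 5 ≤ Nat.card K := Nat.le_of_dvd Nat.card_pos hK5
      have hf4 : f ^ 2 ≤ 16 := by rcases hf with rfl | rfl | rfl <;> norm_num
      nlinarith
    have hm16 : m ≤ 16 := by nlinarith
    have key : ∀ f ∈ ({1, 2, 4} : Finset ℕ), ∀ k ∈ Finset.range 81, ∀ m ∈ Finset.range 17, 5 ∣ k → k ∣ 80 →
        m * m % 5 = 4 → k * (m * m) = 80 * f ^ 2 →
        (f = 1 ∧ k = 20 ∧ m * m = 4) ∨ (f = 2 ∧ k = 80) ∨ (f = 2 ∧ k = 5) ∨ (f = 4 ∧ k = 20 ∧ m * m = 64) := by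
      decide +kernel
    rw [hm] at hprod hmod ⊢
    exact key f (by simpa using hf) _ (Finset.mem_range.2 (by omega)) m (Finset.mem_range.2 (by omega))
      hK5 (by simpa using hKd) hmod hprod
  have h2grp : ∀ (U : Subgroup E) (b : ℕ), Nat.card U = 2 ^ b → ∀ q ∈ U, q ∉ Y := by
    intro U b hU q hq hqY
    obtain ⟨g, hg⟩ := isConj_iff.1 ((h.two.mem_iff y hyY q).1 hqY)
    have h5 : orderOf q = 5 := by rw [← hg, ← MulAut.conj_apply, MulEquiv.orderOf_eq, hy]
    have hd : orderOf q ∣ 2 ^ b := hU ▸ Subgroup.orderOf_mk q hq ▸ orderOf_dvd_natCard _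
    rw [h5] at hd
    exact absurd ((Nat.prime_dvd_prime_iff_eq (by norm_num) Nat.prime_two).1
      ((show Nat.Prime 5 by norm_num).dvd_of_dvd_pow hd)) (by norm_num)
  rcases hcases with ⟨rfl, hK20, hY4⟩ | ⟨rfl, hK80⟩ | ⟨rfl, hK5'⟩ | ⟨rfl, hK20, hY64⟩
  · -- order 80
    have hy2 : y ^ 2 ∈ Y := h.two.pow_mem (show Nat.Prime 5 by norm_num) (s := 1) (by rw [hy, pow_one]) hyY
      (by norm_num)
    obtain ⟨w0, hw0⟩ := isConj_iff.1 ((h.two.mem_iff y hyY _).1 hy2)
    obtain ⟨e, m, hm2, hem⟩ := Nat.exists_eq_pow_mul_and_not_dvd (orderOf_pos w0).ne' 2 (by norm_num)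
    set w := w0 ^ m
    have hiter : ∀ k : ℕ, w0 ^ k * y * (w0 ^ k)⁻¹ = y ^ (2 ^ k) := by
      intro k
      induction k with
      | zero => simp
      | succ k ih =>
        rw [pow_succ', show w0 * w0 ^ k * y * (w0 * w0 ^ k)⁻¹ = w0 * (w0 ^ k * y * (w0 ^ k)⁻¹) * w0⁻¹ by
          group, ih, ← conj_pow, hw0, ← pow_mul, pow_succ']
    have hwy : w * w * y * (w * w)⁻¹ = y ^ 4 := by
      rw [← pow_add, hiter, ← pow_mod_orderOf, hy]
      congr 1
      obtain ⟨c, hc⟩ := Nat.not_even_iff_odd.1 (fun h => hm2 (even_iff_two_dvd.1 h))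
      rw [hc, show 2 ^ (2 * c + 1 + (2 * c + 1)) = 16 ^ c * 4 by
        rw [show (16 : ℕ) = 2 ^ 4 from rfl, ← pow_mul, show (4 : ℕ) = 2 ^ 2 from rfl, ← pow_add]; ring_nf,
        Nat.mul_mod, Nat.pow_mod]
      norm_num
    have hwo : orderOf w = 2 ^ e := by
      rw [orderOf_pow' _ (fun h0 => hm2 (by rw [h0]; exact dvd_zero 2)), hem,
        Nat.gcd_eq_right (dvd_mul_left m _), Nat.mul_div_cancel _ (Nat.pos_of_ne_zero fun h0 => hm2 (by rw [h0]; exact dvd_zero 2))]
    have he3 : 3 ≤ e := by
      by_contra hlt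
      have h4 : w ^ 4 = 1 := orderOf_dvd_iff_pow_eq_one.1 (hwo ▸ by
        rw [show (4 : ℕ) = 2 ^ 2 from rfl]; exact pow_dvd_pow 2 (by omega))
      have hne : w * w ≠ 1 := fun e1 => by
        rw [e1, one_mul, inv_one, mul_one] at hwy
        have := orderOf_dvd_of_pow_eq_one (show y ^ 3 = 1 by
          rw [← mul_left_inj y, ← pow_succ, ← hwy, one_mul])
        rw [hy] at this
        norm_num at this
      have hneg := h.invol_neg (by norm_num) rfl (show w * w * (w * w) = 1 by
        rw [← h4]; simp [pow_succ, mul_assoc]) hne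
      have hcomm : w * w * y = y * (w * w) := act_inj ρ h.inj (by
        rw [act_mul, act_mul ρ y, hneg, end_neg_one_mul, end_mul_neg_one])
      rw [hcomm, mul_inv_cancel_right] at hwy
      have := orderOf_dvd_of_pow_eq_one (show y ^ 3 = 1 by
        rw [← mul_left_inj y, ← pow_succ, ← hwy, one_mul])
      rw [hy] at this
      norm_num at this
    have hd := h.two.dvd_of_disjoint (Subgroup.zpowers w) inferInstance
      (h2grp _ e (by rw [Nat.card_zpowers, hwo]))
    rw [Nat.card_zpowers, hwo] at hd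
    have := h.two.square_dvd ((pow_dvd_pow 2 he3).trans hd.1) ((pow_dvd_pow 2 he3).trans hd.2)
    rw [h.card_eq] at this
    norm_num at this
  · -- a cyclic subgroup of order sixteen
    haveI := hKcyc
    obtain ⟨g, hg⟩ := IsCyclic.exists_ofOrder_eq_natCard (α := K)
    rw [hK80] at hg
    have ho : orderOf ((g : E) ^ 5) = 16 := by
      rw [orderOf_pow' _ (by norm_num), Subgroup.orderOf_coe, hg]; norm_num
    have hd := h.two.dvd_of_disjoint (Subgroup.zpowers ((g : E) ^ 5)) inferInstance
      (h2grp _ 4 (by rw [Nat.card_zpowers, ho]; norm_num))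
    rw [Nat.card_zpowers, ho] at hd
    have := h.two.square_dvd hd.1 hd.2
    rw [h.card_eq] at this
    norm_num at this
  · -- order 320
    obtain ⟨Q, hQn, hQ2, hQd, -⟩ := five_kernel (E := E) (b := 6) (by rw [h.card_eq]; norm_num)
    haveI := hQn
    haveI : Nontrivial Q := by
      refine Finite.one_lt_card_iff_nontrivial.1 ?_
      have := Nat.le_of_dvd (Nat.mul_pos Nat.card_pos (by norm_num)) hQd
      omega
    haveI := hQ2.center_nontrivial
    obtain ⟨c, hc⟩ : ∃ c : Subgroup.center Q, orderOf c = 2 := by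
      haveI : Fact (Nat.Prime 2) := ⟨Nat.prime_two⟩
      refine exists_prime_orderOf_dvd_card' 2 ?_
      obtain ⟨k, hk⟩ := (hQ2.to_subgroup (Subgroup.center Q)).exists_card_eq
      rw [hk]
      refine dvd_pow_self 2 fun h0 => ?_
      have := Finite.one_lt_card (α := Subgroup.center Q)
      rw [hk, h0] at this
      norm_num at this
    set u : E := ((c : Q) : E)
    have hu1 : u ≠ 1 := fun e => by
      have : c = 1 := Subtype.ext (Subtype.ext e)
      rw [this, orderOf_one] at hc
      norm_num at hc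
    have huu : u * u = 1 := by
      have := pow_orderOf_eq_one c
      rw [hc, pow_two] at this
      exact congrArg (fun x : Subgroup.center Q => ((x : Q) : E)) this
    -- the involutions of the centre
    let W : Subgroup E :=
      { carrier := {x | x ∈ Q ∧ (∀ z ∈ Q, x * z = z * x) ∧ x * x = 1}
        one_mem' := ⟨Q.one_mem, fun z _ => by rw [one_mul, mul_one], one_mul 1⟩
        mul_mem' := fun {a b} ha hb => ⟨Q.mul_mem ha.1 hb.1, fun z hz =>
            ((show Commute a z from ha.2.1 z hz).mul_left (hb.2.1 z hz)).eq, by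
          rw [show a * b * (a * b) = a * (b * a) * b by group, hb.2.1 a ha.1,
            show a * (a * b) * b = (a * a) * (b * b) by group, ha.2.2, hb.2.2, one_mul]⟩
        inv_mem' := fun {a} ha => ⟨Q.inv_mem ha.1, fun z hz =>
            (show Commute a z from ha.2.1 z hz).inv_left.eq, by
          rw [← mul_inv_rev, ha.2.2, inv_one]⟩ }
    haveI : W.Normal := ⟨fun x hx g => ⟨hQn.conj_mem x hx.1 g, fun z hz => by
      have hz' : g⁻¹ * z * g ∈ Q := by simpa using hQn.conj_mem z hz g⁻¹
      calc g * x * g⁻¹ * z = g * (x * (g⁻¹ * z * g)) * g⁻¹ := by group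
        _ = g * (g⁻¹ * z * g * x) * g⁻¹ := by rw [hx.2.1 _ hz']
        _ = z * (g * x * g⁻¹) := by group, by
      rw [show g * x * g⁻¹ * (g * x * g⁻¹) = g * (x * x) * g⁻¹ by group, hx.2.2]; group⟩⟩
    have huW : u ∈ W := ⟨(c : Q).2, fun z hz =>
      (congrArg Subtype.val (Subgroup.mem_center_iff.1 c.2 ⟨z, hz⟩)).symm, huu⟩
    have hneg := (h.normal_invol hy W (fun a ha b hb => ha.2.1 b hb.1) (fun a ha => ha.2.2) u huW).resolve_left hu1
    have huK : u ∈ K := Subgroup.mem_centralizer_singleton_iff.2 (act_inj ρ h.inj (by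
      rw [act_mul, act_mul, hneg, end_neg_one_mul, end_mul_neg_one]))
    have ho : orderOf u = 2 := orderOf_eq_prime (by rw [pow_two]; exact huu) hu1
    have hd : orderOf u ∣ Nat.card K := Subgroup.orderOf_mk u huK ▸ orderOf_dvd_natCard _
    rw [ho, hK5'] at hd
    norm_num at hd
  · -- order 1280
    obtain ⟨Q, hQn, hQ2, hQd, hQi⟩ := five_kernel (E := E) (b := 8) (by rw [h.card_eq]; norm_num)
    haveI := hQn
    haveI := hKcyc
    obtain ⟨g, hg⟩ := IsCyclic.exists_ofOrder_eq_natCard (α := K)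
    rw [hK20] at hg
    set i : E := (g : E) ^ 5
    have hi4 : orderOf i = 4 := by
      rw [orderOf_pow' _ (by norm_num), Subgroup.orderOf_coe, hg]; norm_num
    have hiy : i * y = y * i :=
      ((show Commute (g : E) y from Subgroup.mem_centralizer_singleton_iff.1 g.2).pow_left 5).eq
    have hiQ : i ∈ Q := hQi y i hy (by rw [← hi4, pow_orderOf_eq_one]) hiy
    have hfix : ∀ q ∈ Q, q * y = y * q → q ∈ Subgroup.zpowers i := by
      intro q hq hqy
      obtain ⟨k, hk⟩ := IsPGroup.iff_orderOf.1 hQ2 ⟨q, hq⟩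
      rw [Subgroup.orderOf_mk] at hk
      obtain ⟨m, hm⟩ := (mem_powers_iff_mem_zpowers (x := g)).2 (show (⟨q, Subgroup.mem_centralizer_singleton_iff.2 hqy⟩ : K) ∈ Subgroup.zpowers g by
        rw [show Subgroup.zpowers g = ⊤ from Subgroup.eq_top_of_card_eq _ (by rw [Nat.card_zpowers, hg, hK20])]
        trivial)
      have hm' : (g : E) ^ m = q := congrArg Subtype.val hm
      have h20 : 20 ∣ m * 2 ^ k := by
        rw [← hg, ← Subgroup.orderOf_coe g]
        refine orderOf_dvd_of_pow_eq_one ?_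
        rw [pow_mul, hm', ← hk, pow_orderOf_eq_one]
      have h5 : 5 ∣ m := (Nat.Coprime.pow_right k (by norm_num : Nat.Coprime 5 2)).dvd_of_dvd_mul_right
        ((show 5 ∣ 20 by norm_num).trans h20)
      obtain ⟨c, rfl⟩ := h5
      rw [← hm', pow_mul]
      exact Subgroup.pow_mem _ (Subgroup.mem_zpowers _) c
    have hi2 : i * i * (i * i) = 1 := by
      have := pow_orderOf_eq_one i
      rw [hi4] at this
      rw [← this]; simp [pow_succ, mul_assoc]
    have hi21 : i * i ≠ 1 := fun e => by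
      have := orderOf_dvd_of_pow_eq_one (show i ^ 2 = 1 by rw [pow_two]; exact e)
      rw [hi4] at this
      norm_num at this
    have hneg : act ρ (i * i) = -1 := h.neg_of_commute prim_five hy hi2 hi21
      ((show Commute i y from hiy).mul_left hiy).eq
    have hQc : Nat.card Q = 64 := by
      have hmodQ := card_modEq_fixed hy Q (fun w hw => hQn.conj_mem w hw y)
      have e : Q ⊓ Subgroup.centralizer ({y} : Set E) = Subgroup.zpowers i := le_antisymm
        (fun q hq => hfix q hq.1 (Subgroup.mem_centralizer_singleton_iff.1 hq.2))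
        (Subgroup.zpowers_le.2 ⟨hiQ, Subgroup.mem_centralizer_singleton_iff.2 hiy⟩)
      rw [e, Nat.card_zpowers, hi4] at hmodQ
      obtain ⟨k, hk⟩ := hQ2.exists_card_eq
      have hd : Nat.card Q ∣ Nat.card E := Subgroup.card_subgroup_dvd_card Q
      rw [hk, h.card_eq] at hd
      have hk8 : k ≤ 8 := (Nat.pow_dvd_pow_iff_le_right (by norm_num : 1 < 2)).1
        ((Nat.Coprime.pow_left k (by norm_num : Nat.Coprime 2 5)).dvd_of_dvd_mul_right
          (hd.trans (by norm_num)))
      rw [hk] at hmodQ hQd ⊢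
      interval_cases k <;> first | rfl | (norm_num [Nat.ModEq] at hmodQ; done) | (norm_num at hQd; done) | norm_num
    let W : Subgroup E :=
      { carrier := {x | x ∈ Q ∧ (∀ z ∈ Q, x * z = z * x) ∧ x * x = 1}
        one_mem' := ⟨Q.one_mem, fun z _ => by rw [one_mul, mul_one], one_mul 1⟩
        mul_mem' := fun {a b} ha hb => ⟨Q.mul_mem ha.1 hb.1, fun z hz =>
            ((show Commute a z from ha.2.1 z hz).mul_left (hb.2.1 z hz)).eq, by
          rw [show a * b * (a * b) = a * (b * a) * b by group, hb.2.1 a ha.1,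
            show a * (a * b) * b = (a * a) * (b * b) by group, ha.2.2, hb.2.2, one_mul]⟩
        inv_mem' := fun {a} ha => ⟨Q.inv_mem ha.1, fun z hz =>
            (show Commute a z from ha.2.1 z hz).inv_left.eq, by
          rw [← mul_inv_rev, ha.2.2, inv_one]⟩ }
    haveI : W.Normal := ⟨fun x hx g => ⟨hQn.conj_mem x hx.1 g, fun z hz => by
      have hz' : g⁻¹ * z * g ∈ Q := by simpa using hQn.conj_mem z hz g⁻¹
      calc g * x * g⁻¹ * z = g * (x * (g⁻¹ * z * g)) * g⁻¹ := by group
        _ = g * (g⁻¹ * z * g * x) * g⁻¹ := by rw [hx.2.1 _ hz']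
        _ = z * (g * x * g⁻¹) := by group, by
      rw [show g * x * g⁻¹ * (g * x * g⁻¹) = g * (x * x) * g⁻¹ by group, hx.2.2]; group⟩⟩
    exact h.no_sixty_four hy Q hQ2 hQc hiQ hi4 hiy hfix hneg fun q hq hqq hqc =>
      h.normal_invol hy W (fun a ha b hb => ha.2.1 b hb.1) (fun a ha => ha.2.2) q ⟨hq, hqc, hqq⟩

end Cfsg.Agent.Char.KThree
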