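import Cfsg.Agent.Lib.Char.KThree.DimTwo
import Cfsg.Agent.Lib.Char.KThree.DimFour
import Cfsg.Agent.Lib.Char.KThree.Arith
import Cfsg.Agent.S2904
import Mathlib

/-!
# Only three points

The setting of two characters over an invariant one forces a line over three elements.
-/

set_option autoImplicit false
set_option linter.unusedSectionVars false
set_option linter.style.haveILetI false
set_option maxHeartbeats 1000000

namespace Cfsg.Agent.Char.KThree

universe u

variable {p a : ℕ} [Fact p.Prime] {E : Type u} [Group E] [Finite E]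
  {ρ : E →* GL (Fin a) (ZMod p)} {f a₁ a₂ : ℕ} {Y : Set E}

theorem mem_zpowers_of_cyclic {K : Subgroup E} (hK : IsCyclic K) {q : ℕ} (hq : 0 < q) {y z : E}
    (hyK : y ∈ K) (hy : orderOf y = q) (hzK : z ∈ K) (hz : z ^ q = 1) : z ∈ Subgroup.zpowers y := by
  classical
  haveI := Fintype.ofFinite K
  set S : Finset K := Finset.univ.filter fun x => x ^ q = 1 with hS
  set T : Finset K := (Finset.range q).image fun k => (⟨y, hyK⟩ : K) ^ k with hT
  have hyo : orderOf (⟨y, hyK⟩ : K) = q := by rw [Subgroup.orderOf_mk, hy]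
  have hTc : T.card = q := by
    rw [hT, Finset.card_image_of_injOn, Finset.card_range]
    intro i hi j hj e
    simp only [Finset.coe_range, Set.mem_Iio] at hi hj
    exact pow_injOn_Iio_orderOf (by simpa [hyo] using hi) (by simpa [hyo] using hj) e
  have hTS : T ⊆ S := by
    intro x hx
    obtain ⟨k, -, rfl⟩ := Finset.mem_image.1 hx
    simp only [hS, Finset.mem_filter, Finset.mem_univ, true_and]
    rw [← pow_mul, mul_comm, pow_mul, ← hyo, pow_orderOf_eq_one, one_pow]
  have hzS : (⟨z, hzK⟩ : K) ∈ S := by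
    simp only [hS, Finset.mem_filter, Finset.mem_univ, true_and]
    exact Subtype.ext hz
  rw [← Finset.eq_of_subset_of_card_le hTS (hTc.symm ▸ IsCyclic.card_pow_eq_one_le hq)] at hzS
  obtain ⟨k, -, hk⟩ := Finset.mem_image.1 hzS
  exact Subgroup.mem_zpowers_iff.2 ⟨k, by simpa using congrArg Subtype.val hk⟩

theorem dvd_sub_one_of_prim {q : ℕ} (hprim : IsPrim p a q) (ha : 0 < a) : a ∣ q - 1 := by
  haveI : Fact q.Prime := ⟨hprim.1⟩
  have hp : 1 ≤ p := (Fact.out : p.Prime).one_lt.le
  have e : ∀ k, ((p : ZMod q) ^ k = 1 ↔ q ∣ p ^ k - 1) := fun k => by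
    rw [← ZMod.natCast_eq_zero_iff, Nat.cast_sub (Nat.one_le_pow k p hp), Nat.cast_pow, Nat.cast_one,
      sub_eq_zero]
  have hne : (p : ZMod q) ≠ 0 := fun h0 => by
    have := (e a).2 hprim.2.1
    rw [h0, zero_pow ha.ne'] at this
    exact zero_ne_one this
  have ho : orderOf (p : ZMod q) = a :=
    (orderOf_eq_iff ha).2 ⟨(e a).2 hprim.2.1, fun k hk hk0 h1 => hprim.2.2 k hk0 hk ((e k).1 h1)⟩
  exact ho ▸ ZMod.orderOf_dvd_card_sub_one hne

/-- A primitive prime is one more than the dimension and occurs in `E` at most squared. -/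
theorem Ctx.prim_facts (h : Ctx ρ f a₁ a₂ Y) {q : ℕ} (hprim : IsPrim p a q) :
    ∃ y ∈ Y, orderOf y = q ∧ q = a + 1 ∧ ¬ q ^ 3 ∣ p ^ a - 1 := by
  classical
  haveI : Fact q.Prime := ⟨hprim.1⟩
  have hqE : q ∣ Nat.card E := by rw [h.card_eq]; exact hprim.2.1.mul_right _
  obtain ⟨P⟩ := (inferInstance : Nonempty (Sylow q E))
  set s := (Nat.card E).factorization q with hs
  have hPc : Nat.card P = q ^ s := P.card_eq_multiplicity
  have hs1 : 1 ≤ s := (hprim.1.pow_dvd_iff_le_factorization Nat.card_pos.ne').1 (by simpa using hqE)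
  -- the Sylow subgroup is cyclic
  have hPcyc : IsCyclic (P : Subgroup E) := by
    haveI : Nontrivial (P : Subgroup E) := Finite.one_lt_card_iff_nontrivial.1
      (hPc ▸ Nat.one_lt_pow (by omega) hprim.1.one_lt)
    haveI := P.isPGroup'.center_nontrivial
    obtain ⟨g, hg⟩ : ∃ g : Subgroup.center (P : Subgroup E), orderOf g = q := by
      refine exists_prime_orderOf_dvd_card' q ?_
      obtain ⟨k, hk⟩ := (P.isPGroup'.to_subgroup (Subgroup.center (P : Subgroup E))).exists_card_eq
      have : 1 < Nat.card (Subgroup.center (P : Subgroup E)) := Finite.one_lt_card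
      rw [hk] at this ⊢
      exact dvd_pow_self q fun e => by rw [e, pow_zero] at this; omega
    have hgo : orderOf ((g : (P : Subgroup E)) : E) = q := by
      rw [Subgroup.orderOf_coe, Subgroup.orderOf_coe, hg]
    have hle : (P : Subgroup E) ≤ Subgroup.centralizer ({((g : (P : Subgroup E)) : E)} : Set E) := fun x hx =>
      Subgroup.mem_centralizer_singleton_iff.2
        (congrArg Subtype.val (Subgroup.mem_center_iff.1 g.2 ⟨x, hx⟩))
    haveI := (centralizer_facts ρ h.inj hprim hgo).1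
    exact isCyclic_of_injective (Subgroup.inclusion hle) (Subgroup.inclusion_injective hle)
  obtain ⟨y, hyY, hyP⟩ : ∃ y ∈ Y, y ∈ (P : Subgroup E) := by
    by_contra hno
    push Not at hno
    obtain ⟨h1, h2⟩ := h.two.dvd_of_disjoint P hPcyc fun x hx hxY => hno x hxY hx
    have hd := h.two.square_dvd h1 h2
    rw [← (P : Subgroup E).card_mul_index, sq] at hd
    have hd' : q ^ s ∣ (P : Subgroup E).index := by
      have := Nat.dvd_of_mul_dvd_mul_left Nat.card_pos hd
      rwa [hPc] at this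
    exact P.not_dvd_index ((dvd_pow_self q (by omega)).trans hd')
  obtain ⟨t, -, ht⟩ := (Nat.dvd_prime_pow hprim.1).1
    (show orderOf y ∣ q ^ s by rw [← hPc, ← Subgroup.orderOf_mk y hyP]; exact orderOf_dvd_natCard _)
  have hy1 : y ≠ 1 := fun e => h.two.one_notMem (e ▸ hyY)
  obtain ⟨t, rfl⟩ : ∃ m, t = m + 1 := ⟨t - 1, by
    rcases t with _ | t
    · exact absurd (orderOf_eq_one_iff.1 (by simpa using ht)) hy1
    · omega⟩
  have hconj : ∀ k, k.Coprime (q ^ (t + 1)) → IsConj y (y ^ k) := fun k hk =>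
    (h.two.mem_iff y hyY _).1 (h.two.pow_mem hprim.1 ht hyY hk)
  have htot := totient_le_of_conj ρ h.inj hprim ht hconj
  rw [Nat.totient_prime_pow_succ hprim.1] at htot
  have hdiv := Nat.le_of_dvd (by have := hprim.1.two_le; omega) (dvd_sub_one_of_prim hprim h.dim)
  have hqa : q = a + 1 := by
    have : 1 * (q - 1) ≤ q ^ t * (q - 1) := Nat.mul_le_mul_right _ (Nat.one_le_pow _ _ hprim.1.pos)
    have := hprim.1.two_le
    omega
  have hyq : orderOf y = q := by
    rcases t with _ | t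
    · simpa using ht
    · exfalso
      have : 2 * (q - 1) ≤ q ^ (t + 1) * (q - 1) := Nat.mul_le_mul_right _
        (hprim.1.two_le.trans (Nat.le_self_pow (by omega) q))
      have := hprim.1.two_le
      omega
  refine ⟨y, hyY, hyq, hqa, fun h3 => ?_⟩
  have h3E : q ^ 3 ∣ Nat.card E := by rw [h.card_eq]; exact h3.mul_right _
  have hs3 : 3 ≤ s := (hprim.1.pow_dvd_iff_le_factorization Nat.card_pos.ne').1 h3E
  obtain ⟨h1, h2⟩ := h.two.dvd_a P (Subgroup.zpowers y) hPcyc (Subgroup.zpowers_le.2 hyP) fun z hzP hzY => by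
    refine mem_zpowers_of_cyclic hPcyc hprim.1.pos hyP hyq hzP ?_
    obtain ⟨c, hc⟩ := isConj_iff.1 ((h.two.mem_iff y hyY z).1 hzY)
    rw [← hc, conj_pow, ← hyq, pow_orderOf_eq_one, mul_one, mul_inv_cancel]
  rw [hPc, Nat.card_zpowers, hyq, show q ^ s = q * q ^ (s - 1) by rw [← pow_succ']; congr 1; omega] at h1 h2
  have hd := h.two.square_dvd (Nat.dvd_of_mul_dvd_mul_left hprim.1.pos h1)
    (Nat.dvd_of_mul_dvd_mul_left hprim.1.pos h2)
  rw [← pow_mul, hprim.1.pow_dvd_iff_le_factorization Nat.card_pos.ne'] at hd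
  omega

/-- The class is congruent to minus one modulo a primitive prime. -/
theorem Ctx.card_mod (h : Ctx ρ f a₁ a₂ Y) {q : ℕ} (hprim : IsPrim p a q) {y : E} (hy : orderOf y = q)
    (hyY : y ∈ Y) : Nat.card Y ≡ q - 1 [MOD q] := by
  classical
  haveI : Fact q.Prime := ⟨hprim.1⟩
  have hP : IsPGroup q (Subgroup.zpowers y) := IsPGroup.of_card (n := 1) (by rw [Nat.card_zpowers, hy, pow_one])
  have hmem : ∀ (x : E), ∀ w ∈ Y, x * w * x⁻¹ ∈ Y := fun x w hw =>
    (h.two.mem_iff y hyY _).2 (((h.two.mem_iff y hyY w).1 hw).trans (isConj_iff.2 ⟨x, rfl⟩))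
  letI : MulAction (Subgroup.zpowers y) Y :=
    { smul := fun x w => ⟨(x : E) * w * (x : E)⁻¹, hmem x w w.2⟩
      one_smul := fun w => Subtype.ext (by show (1 : E) * w * (1 : E)⁻¹ = w; simp)
      mul_smul := fun x z w => Subtype.ext (by
        show ((x : E) * z) * w * ((x : E) * z)⁻¹ = (x : E) * (z * w * (z : E)⁻¹) * (x : E)⁻¹
        group) }
  refine (hP.card_modEq_card_fixedPoints Y).trans ?_
  have hcop : ∀ k ∈ Finset.Ico 1 q, k.Coprime (q ^ 1) := fun k hk => by
    rw [Finset.mem_Ico] at hk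
    rw [pow_one, Nat.coprime_comm]
    exact hprim.1.coprime_iff_not_dvd.2 fun hd => absurd (Nat.le_of_dvd hk.1 hd) (not_le.2 hk.2)
  let F : {k // k ∈ Finset.Ico 1 q} → MulAction.fixedPoints (Subgroup.zpowers y) Y := fun k =>
    ⟨⟨y ^ (k : ℕ), h.two.pow_mem hprim.1 (hy.trans (pow_one q).symm) hyY (hcop k k.2)⟩, fun x => Subtype.ext (by
      show (x : E) * y ^ (k : ℕ) * (x : E)⁻¹ = y ^ (k : ℕ)
      obtain ⟨m, hm⟩ := Subgroup.mem_zpowers_iff.1 x.2
      rw [← hm]; group)⟩
  have hFb : Function.Bijective F := by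
    constructor
    · intro k l e
      have hk := k.2; have hl := l.2
      rw [Finset.mem_Ico] at hk hl
      exact Subtype.ext (pow_injOn_Iio_orderOf (show (k : ℕ) ∈ Set.Iio (orderOf y) by simpa [hy] using hk.2)
        (show (l : ℕ) ∈ Set.Iio (orderOf y) by simpa [hy] using hl.2)
        (congrArg (fun w : MulAction.fixedPoints (Subgroup.zpowers y) Y => ((w : Y) : E)) e))
    · intro w
      have hfix : y * ((w : Y) : E) * y⁻¹ = ((w : Y) : E) :=
        congrArg Subtype.val (w.2 ⟨y, Subgroup.mem_zpowers y⟩)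
      have hwC : ((w : Y) : E) ∈ Subgroup.centralizer ({y} : Set E) := by
        rw [Subgroup.mem_centralizer_singleton_iff]
        have := congrArg (· * y) hfix
        simpa [mul_assoc] using this.symm
      have hz := mem_zpowers_of_cyclic (centralizer_facts ρ h.inj hprim hy).1 hprim.1.pos
        (Subgroup.mem_centralizer_singleton_iff.2 rfl) hy hwC (by
          obtain ⟨c, hc⟩ := isConj_iff.1 ((h.two.mem_iff y hyY _).1 (w : Y).2)
          rw [← hc, conj_pow, ← hy, pow_orderOf_eq_one, mul_one, mul_inv_cancel])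
      obtain ⟨k, hk⟩ := (mem_powers_iff_mem_zpowers (x := y)).2 hz
      have hk' : y ^ k = ((w : Y) : E) := hk
      have hk0 : k % q ≠ 0 := fun e => h.two.one_notMem (by
        have : ((w : Y) : E) = 1 := by rw [← hk', ← pow_mod_orderOf, hy, e, pow_zero]
        exact this ▸ (w : Y).2)
      refine ⟨⟨k % q, Finset.mem_Ico.2 ⟨Nat.pos_of_ne_zero hk0, Nat.mod_lt _ hprim.1.pos⟩⟩,
        Subtype.ext (Subtype.ext ?_)⟩
      show y ^ (k % q) = ((w : Y) : E)
      rw [← hk', ← hy, pow_mod_orderOf]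
  rw [← Nat.card_congr (Equiv.ofBijective F hFb), Nat.card_eq_fintype_card, Fintype.card_coe, Nat.card_Ico]

theorem gl_one_det_injective : Function.Injective
    (Matrix.GeneralLinearGroup.det : GL (Fin 1) (ZMod p) →* (ZMod p)ˣ) := by
  intro A B e
  have e' := congrArg Units.val e
  rw [Matrix.GeneralLinearGroup.val_det_apply, Matrix.GeneralLinearGroup.val_det_apply, Matrix.det_fin_one,
    Matrix.det_fin_one] at e'
  refine Units.ext (Matrix.ext fun i j => ?_)
  rw [Subsingleton.elim i 0, Subsingleton.elim j 0]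
  exact e'

theorem Ctx.line (h : Ctx ρ f a₁ a₂ Y) (ha : a = 1) : p ^ a = 3 := by
  subst ha
  haveI : IsCyclic E := isCyclic_of_injective (Matrix.GeneralLinearGroup.det.comp ρ)
    (gl_one_det_injective.comp h.inj)
  obtain ⟨e1, e2⟩ := h.two.top inferInstance
  have hs := h.sum_sq
  rw [e1, e2, pow_one] at hs
  have hd : f ^ 2 ∣ 2 := Dvd.intro _ (hs.trans (by norm_num))
  have hle := Nat.le_of_dvd two_pos hd
  have hf1 : f = 1 := by
    have := h.fpos
    nlinarith
  rw [hf1] at hs
  have := (Fact.out : p.Prime).two_le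
  rw [pow_one]
  omega

/-- The setting exists only for a line over three elements. -/
theorem Ctx.pow_eq_three (h : Ctx ρ f a₁ a₂ Y) : p ^ a = 3 := by
  have hp := (Fact.out : p.Prime)
  rcases Nat.lt_or_ge a 2 with ha | ha
  · exact h.line (by have := h.dim; omega)
  exfalso
  rcases Nat.lt_or_ge p 3 with hp3 | hp3
  · obtain rfl : p = 2 := by have := hp.two_le; omega
    exact no_two ha h.fpos h.sum_sq
  by_cases hmer : a = 2 ∧ ∃ m, p + 1 = 2 ^ m
  · obtain ⟨rfl, m, hm⟩ := hmer
    obtain rfl := mersenne_eq_three hp hm h.fpos h.sum_sq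
    exact h.not_two_three
  obtain ⟨r, hr⟩ := Cfsg.Agent.S2904.result p a hp.one_lt (by omega) (fun e => by omega) hmer
  have hprim : IsPrim p a r := hr
  obtain ⟨y, hyY, hy, hra, hr3⟩ := h.prim_facts hprim
  have hr2 : r ≠ 2 := by omega
  have hsq := h.two.card_square hprim.1 hr2 hy hyY
  have hmod := h.card_mod hprim hy hyY
  haveI : Fact r.Prime := ⟨hprim.1⟩
  have h14 : r % 4 ≠ 3 := by
    refine ZMod.exists_sq_eq_neg_one_iff.1 ?_
    obtain ⟨m, hm⟩ := hsq
    refine ⟨(m : ZMod r), ?_⟩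
    rw [← Nat.cast_mul, ← hm, (ZMod.natCast_eq_natCast_iff _ _ _).2 hmod, Nat.cast_sub hprim.1.one_lt.le,
      ZMod.natCast_self, Nat.cast_one, zero_sub]
  have h4 : 4 ∣ a := by
    rcases hprim.1.eq_two_or_odd with e | e <;> omega
  obtain ⟨rfl, rfl | rfl⟩ := exponent_cases hp hp3 h4 (by omega) (hra ▸ hprim.1) (hra ▸ hprim)
    (fun q hq => (h.prim_facts hq).choose_spec.2.2.1) (hra ▸ hr3)
  · subst hra
    refine h.not_four_three hy hyY hsq ?_
    have : Nat.card Y % 5 = (5 - 1) % 5 := hmod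
    simpa using this
  · exact no_seven h.fpos h.sum_sq

end Cfsg.Agent.Char.KThree
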