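import Mathlib

/-!
# The data of two characters over an invariant one
-/

set_option autoImplicit false

open scoped ComplexConjugate

namespace Cfsg.Agent.Char.KThree

universe u

variable {E : Type u} [Group E]

/-- The value function of a vector of multiplicities. -/
noncomputable def phi {Q : Subgroup E} [Fintype (Q →* ℂˣ)] (n : (Q →* ℂˣ) → ℕ) (q : Q) : ℂ :=
  ∑ l : Q →* ℂˣ, (n l : ℂ) * (l q : ℂ)

/-- Conjugation on a normalized subgroup. -/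
def conjHom (Q : Subgroup E) (w : E) (hw : ∀ q ∈ Q, w * q * w⁻¹ ∈ Q) : Q →* Q where
  toFun q := ⟨w * q * w⁻¹, hw q q.2⟩
  map_one' := Subtype.ext (by simp)
  map_mul' q q' := Subtype.ext (by simp [mul_assoc])

@[simp] theorem conjHom_val (Q : Subgroup E) (w : E) (hw : ∀ q ∈ Q, w * q * w⁻¹ ∈ Q) (q : Q) :
    ((conjHom Q w hw q : Q) : E) = w * q * w⁻¹ := rfl

/-- The permutation of linear characters induced by conjugation. -/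
noncomputable def tau (Q : Subgroup E) (w : E) (hw : ∀ q ∈ Q, w * q * w⁻¹ ∈ Q) (l₀ l : Q →* ℂˣ) : Q →* ℂˣ :=
  l.comp (conjHom Q w hw) * l₀

variable (E)

/-- The two irreducibles over an invariant character, seen from the quotient `E`. -/
structure Two [Finite E] (a₁ a₂ : ℕ) (Y : Set E) : Prop where
  pos1 : 0 < a₁
  pos2 : 0 < a₂
  sq : a₁ ^ 2 + a₂ ^ 2 = Nat.card E
  nonempty : Y.Nonempty
  one_notMem : (1 : E) ∉ Y
  mem_iff : ∀ y ∈ Y, ∀ z : E, z ∈ Y ↔ IsConj y z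
  top : IsCyclic E → a₁ = 1 ∧ a₂ = 1
  cyc : ∀ (Q : Subgroup E), IsCyclic Q → ∀ [Fintype (Q →* ℂˣ)],
    ∃ n₁ n₂ : (Q →* ℂˣ) → ℕ, (∑ l, n₁ l = a₁) ∧ (∑ l, n₂ l = a₂) ∧
      (∀ q : Q, q ≠ 1 → (phi n₁ q ≠ 0 ↔ (q : E) ∈ Y)) ∧
      (∀ q : Q, q ≠ 1 → (phi n₂ q ≠ 0 ↔ (q : E) ∈ Y)) ∧
      (∀ q : Q, (q : E) ∈ Y → (Nat.card Y : ℂ) * (phi n₁ q * conj (phi n₁ q)) = (a₂ : ℂ) ^ 2) ∧
      ∀ (w : E) (hw : ∀ q ∈ Q, w * q * w⁻¹ ∈ Q), ∃ l₀ : Q →* ℂˣ,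
        (∀ l, n₁ (tau Q w hw l₀ l) = n₁ l) ∧ (∀ l, n₂ (tau Q w hw l₀ l) = n₂ l) ∧
        (Q.index = 2 → w ∉ Q → 1 < a₁ → 1 < a₂ → ∀ l, tau Q w hw l₀ l ≠ l)

end Cfsg.Agent.Char.KThree
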