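import Cfsg.Agent.Lib.Char.KThree.Twists
import Cfsg.Agent.Lib.Char.KThree.TwoData
import Mathlib

/-!
# Exactly two irreducibles over an invariant character

The combination vanishing on the kernel is supported on a single class of cosets.
-/

set_option autoImplicit false
set_option linter.unusedSectionVars false
set_option linter.style.haveILetI false
set_option maxHeartbeats 1000000

open Cfsg
open scoped ComplexConjugate

namespace Cfsg.Agent.Char.KThree

universe u

variable {T : Type u} [Group T] [Fintype T] {C : Subgroup T} [C.Normal] [Fintype C]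

/-- The hypotheses: exactly `χ₁`, `χ₂` lie over the invariant `θ`, with multiplicities `a₁`, `a₂`. -/
structure Over (θ : IrrCharacter C) (χ₁ χ₂ : IrrCharacter T) (a₁ a₂ : ℕ) : Prop where
  ne : χ₁ ≠ χ₂
  inv : ∀ (g : T) (n : C), (θ : C → ℂ) (MulAut.conjNormal g n) = (θ : C → ℂ) n
  pos1 : 0 < a₁
  pos2 : 0 < a₂
  res1 : ∀ n : C, (χ₁ : T → ℂ) n = (a₁ : ℂ) * (θ : C → ℂ) n
  res2 : ∀ n : C, (χ₂ : T → ℂ) n = (a₂ : ℂ) * (θ : C → ℂ) n
  only : ∀ ψ : IrrCharacter T, classInner (fun n : C => (ψ : T → ℂ) n) (θ : C → ℂ) ≠ 0 → ψ = χ₁ ∨ ψ = χ₂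

variable {θ : IrrCharacter C} {χ₁ χ₂ : IrrCharacter T} {a₁ a₂ : ℕ}

theorem Over.ind_eq (h : Over θ χ₁ χ₂ a₁ a₂) :
    indFun C (θ : C → ℂ) = (a₁ : ℂ) • (χ₁ : T → ℂ) + (a₂ : ℂ) • (χ₂ : T → ℂ) := by
  classical
  rw [classFun_expansion (isClassFunction_indFun C (θ : C → ℂ))]
  have hk : ∀ (χ : IrrCharacter T) (a : ℕ), (∀ n : C, (χ : T → ℂ) n = (a : ℂ) * (θ : C → ℂ) n) →
      classInner (indFun C (θ : C → ℂ)) (χ : T → ℂ) = a := by
    intro χ a hr
    rw [frobenius _ _ (isClassFunction_character (irr_isCharacter χ.2)), ← classInner_symm,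
      show (fun n : C => (χ : T → ℂ) n) = (a : ℂ) • (θ : C → ℂ) from funext hr, classInner_smul_left,
      irr_self θ.2, mul_one, Complex.conj_natCast]
  rw [← Finset.sum_subset (Finset.subset_univ {χ₁, χ₂}) fun ψ _ hψ => ?_, Finset.sum_pair h.ne,
    hk χ₁ a₁ h.res1, hk χ₂ a₂ h.res2]
  rw [Finset.mem_insert, Finset.mem_singleton, not_or] at hψ
  by_cases h0 : classInner (fun n : C => (ψ : T → ℂ) n) (θ : C → ℂ) = 0
  · rw [frobenius _ _ (isClassFunction_character (irr_isCharacter ψ.2)), ← classInner_symm, h0, map_zero,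
      zero_smul]
  · exact absurd (h.only ψ h0) (fun h' => h'.elim hψ.1 hψ.2)

theorem Over.sq (h : Over θ χ₁ χ₂ a₁ a₂) : a₁ ^ 2 + a₂ ^ 2 = Nat.card (T ⧸ C) := by
  have h1 := congrFun h.ind_eq 1
  simp only [Pi.add_apply, Pi.smul_apply, smul_eq_mul, indFun_one] at h1
  have e1 := h.res1 1
  have e2 := h.res2 1
  rw [Subgroup.coe_one] at e1 e2
  rw [e1, e2, ← mul_assoc, ← mul_assoc, ← add_mul] at h1
  have := mul_right_cancel₀ (irr_one_ne_zero θ.2) h1
  rw [Subgroup.index_eq_card] at this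
  rw [pow_two, pow_two]
  exact_mod_cast this.symm

theorem Over.off (h : Over θ χ₁ χ₂ a₁ a₂) {x : T} (hx : x ∉ C) :
    (a₁ : ℂ) * (χ₁ : T → ℂ) x + (a₂ : ℂ) * (χ₂ : T → ℂ) x = 0 := by
  have h1 := congrFun h.ind_eq x
  rw [indFun_normal_not_mem C _ hx] at h1
  simpa using h1.symm

/-- The cosets on which the first character is not zero, apart from the trivial one. -/
def suppY (C : Subgroup T) [C.Normal] (χ : IrrCharacter T) : Set (T ⧸ C) :=
  {q | q ≠ 1 ∧ ∃ x : T, (QuotientGroup.mk x : T ⧸ C) = q ∧ (χ : T → ℂ) x ≠ 0}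

theorem Over.supp_two (h : Over θ χ₁ χ₂ a₁ a₂) {x : T} (hx : x ∉ C) :
    (χ₁ : T → ℂ) x ≠ 0 ↔ (χ₂ : T → ℂ) x ≠ 0 := by
  have h1 := h.off hx
  have n1 : (a₁ : ℂ) ≠ 0 := Nat.cast_ne_zero.2 h.pos1.ne'
  have n2 : (a₂ : ℂ) ≠ 0 := Nat.cast_ne_zero.2 h.pos2.ne'
  constructor
  · intro hne h0
    rw [h0, mul_zero, add_zero] at h1
    exact hne ((mul_eq_zero.1 h1).resolve_left n1)
  · intro hne h0
    rw [h0, mul_zero, zero_add] at h1
    exact hne ((mul_eq_zero.1 h1).resolve_left n2)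

open scoped Classical in
/-- The squared norm on a coset. -/
noncomputable def cosetNorm (C : Subgroup T) [C.Normal] (χ : IrrCharacter T) (q : T ⧸ C) : ℂ :=
  ∑ x ∈ Finset.univ.filter (fun x : T => (QuotientGroup.mk x : T ⧸ C) = q),
    (χ : T → ℂ) x * conj ((χ : T → ℂ) x)

theorem cosetNorm_conj (χ : IrrCharacter T) (q w : T ⧸ C) :
    cosetNorm C χ (w * q * w⁻¹) = cosetNorm C χ q := by
  classical
  obtain ⟨g, rfl⟩ := QuotientGroup.mk_surjective w
  unfold cosetNorm
  refine Finset.sum_equiv (MulAut.conj g⁻¹).toEquiv (fun x => ?_) (fun x _ => ?_)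
  · simp only [Finset.mem_filter, Finset.mem_univ, true_and, MulEquiv.toEquiv_eq_coe, EquivLike.coe_coe,
      MulAut.conj_apply, QuotientGroup.mk_mul, QuotientGroup.mk_inv, inv_inv]
    constructor
    · intro hx; rw [hx]; group
    · intro hx; rw [← hx]; group
  · simp only [MulEquiv.toEquiv_eq_coe, EquivLike.coe_coe, MulAut.conj_apply]
    rw [isClassFunction_character (irr_isCharacter χ.2) x g⁻¹]

theorem cosetNorm_ne_zero (χ : IrrCharacter T) (q : T ⧸ C) :
    cosetNorm C χ q ≠ 0 ↔ ∃ x : T, (QuotientGroup.mk x : T ⧸ C) = q ∧ (χ : T → ℂ) x ≠ 0 := by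
  classical
  unfold cosetNorm
  constructor
  · intro hne
    obtain ⟨x, hx, hx0⟩ := Finset.exists_ne_zero_of_sum_ne_zero hne
    exact ⟨x, (Finset.mem_filter.1 hx).2, fun h0 => hx0 (by rw [h0, zero_mul])⟩
  · rintro ⟨x, hx, hx0⟩ h0
    simp only [Complex.mul_conj] at h0
    rw [← Complex.ofReal_sum, Complex.ofReal_eq_zero,
      Finset.sum_eq_zero_iff_of_nonneg fun i _ => Complex.normSq_nonneg _] at h0
    exact hx0 (Complex.normSq_eq_zero.1 (h0 x (Finset.mem_filter.2 ⟨Finset.mem_univ _, hx⟩)))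

theorem Over.nonempty (h : Over θ χ₁ χ₂ a₁ a₂) : (suppY C χ₁).Nonempty := by
  classical
  by_contra hno
  have hz : ∀ x : T, x ∉ C → (χ₁ : T → ℂ) x = 0 := fun x hx => by_contra fun h0 => hno
    ⟨QuotientGroup.mk x, fun e => hx ((QuotientGroup.eq_one_iff x).1 e), x, rfl, h0⟩
  have hz2 : ∀ x : T, x ∉ C → (χ₂ : T → ℂ) x = 0 := fun x hx => by_contra fun h0 =>
    ((h.supp_two hx).2 h0) (hz x hx)
  have e : (a₂ : ℂ) • (χ₁ : T → ℂ) = (a₁ : ℂ) • (χ₂ : T → ℂ) := by
    funext x
    simp only [Pi.smul_apply, smul_eq_mul]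
    by_cases hx : x ∈ C
    · rw [h.res1 ⟨x, hx⟩, h.res2 ⟨x, hx⟩]; ring
    · rw [hz x hx, hz2 x hx, mul_zero, mul_zero]
  have := congrArg (fun f => classInner f (χ₁ : T → ℂ)) e
  simp only [classInner_smul_left, irrC_orth, if_pos, if_neg (Ne.symm h.ne), mul_one, mul_zero] at this
  exact h.pos2.ne' (Nat.cast_eq_zero.1 this)

/-- The support is one class. -/
theorem Over.one_class (h : Over θ χ₁ χ₂ a₁ a₂) {y : T ⧸ C} (hy : y ∈ suppY C χ₁) (z : T ⧸ C) :
    z ∈ suppY C χ₁ ↔ IsConj y z := by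
  classical
  haveI := Fintype.ofFinite (T ⧸ C)
  constructor
  swap
  · intro hc
    obtain ⟨w, rfl⟩ := isConj_iff.1 hc
    refine ⟨fun e => hy.1 (conj_eq_one_iff.1 e), ?_⟩
    rw [← cosetNorm_ne_zero, cosetNorm_conj, cosetNorm_ne_zero]
    exact hy.2
  intro hz
  by_contra hzy
  -- the combination cut to the class of `y`
  set f : T ⧸ C → ℂ := fun q => if IsConj y q then 1 else 0 with hf
  set Φ : T → ℂ := fun x => (a₂ : ℂ) * (χ₁ : T → ℂ) x - (a₁ : ℂ) * (χ₂ : T → ℂ) x with hΦ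
  set F : T → ℂ := fun x => Φ x * f (QuotientGroup.mk x) with hF
  have hfc : IsClassFunction (T ⧸ C) f := fun a k => by
    simp only [hf]
    refine if_congr ⟨fun h1 => h1.trans (isConj_iff.2 ⟨k⁻¹, by group⟩),
      fun h1 => h1.trans (isConj_iff.2 ⟨k, rfl⟩)⟩ rfl rfl
  have hFc : IsClassFunction T F := fun a k => by
    simp only [hF, hΦ]
    rw [isClassFunction_character (irr_isCharacter χ₁.2) a k,
      isClassFunction_character (irr_isCharacter χ₂.2) a k, QuotientGroup.mk_mul, QuotientGroup.mk_mul,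
      QuotientGroup.mk_inv, hfc]
  have hzero : ∀ ψ : IrrCharacter T, ψ ≠ χ₁ → ψ ≠ χ₂ → classInner F (ψ : T → ℂ) = 0 := by
    intro ψ h1 h2
    have hover : classInner (fun n : C => (ψ : T → ℂ) n) (θ : C → ℂ) = 0 :=
      by_contra fun h0 => (h.only ψ h0).elim h1 h2
    have hexp := classFun_expansion hfc
    let P : IrrCharacter T → IrrCharacter (T ⧸ C) → T → ℂ :=
      fun χ τ x => (χ : T → ℂ) x * (τ : T ⧸ C → ℂ) (QuotientGroup.mk x)
    have hP : ∀ (χ : IrrCharacter T) (a : ℕ), (∀ n : C, (χ : T → ℂ) n = (a : ℂ) * (θ : C → ℂ) n) →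
        ∀ τ, classInner (P χ τ) (ψ : T → ℂ) = 0 := by
      intro χ a hr τ
      by_contra hne
      refine over_of_res θ (F := P χ τ) (a := (a : ℂ) * (τ : T ⧸ C → ℂ) 1)
        (isCharacter_mul (irr_isCharacter χ.2) (isCharacter_comp (QuotientGroup.mk' C)
          (irr_isCharacter τ.2))) (fun n => ?_) hne hover
      simp only [P]
      rw [hr, (QuotientGroup.eq_one_iff (n : T)).2 n.2]
      ring
    have e : F = ∑ τ : IrrCharacter (T ⧸ C), (classInner f (τ : T ⧸ C → ℂ)) •
        ((a₂ : ℂ) • P χ₁ τ + (-(a₁ : ℂ)) • P χ₂ τ) := by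
      funext x
      simp only [hF]
      rw [congrFun hexp (QuotientGroup.mk x), Finset.sum_apply, Finset.sum_apply, Finset.mul_sum]
      refine Finset.sum_congr rfl fun τ _ => ?_
      simp only [Pi.smul_apply, Pi.add_apply, smul_eq_mul, P, hΦ]
      ring
    rw [e, classInner_sum_left]
    refine Finset.sum_eq_zero fun τ _ => ?_
    rw [classInner_smul_left, classInner_add_left, classInner_smul_left, classInner_smul_left,
      hP χ₁ a₁ h.res1, hP χ₂ a₂ h.res2, mul_zero, mul_zero, add_zero, mul_zero]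
  have hexpF := classFun_expansion hFc
  rw [← Finset.sum_subset (Finset.subset_univ {χ₁, χ₂}) (fun ψ _ hψ => by
    rw [Finset.mem_insert, Finset.mem_singleton, not_or] at hψ
    rw [hzero ψ hψ.1 hψ.2, zero_smul]), Finset.sum_pair h.ne] at hexpF
  set c₁ := classInner F (χ₁ : T → ℂ)
  set c₂ := classInner F (χ₂ : T → ℂ)
  have hval : ∀ x, F x = c₁ * (χ₁ : T → ℂ) x + c₂ * (χ₂ : T → ℂ) x := fun x => by
    have := congrFun hexpF x
    simpa using this
  have h1 := hval 1
  have e1 := h.res1 1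
  have e2 := h.res2 1
  rw [Subgroup.coe_one] at e1 e2
  simp only [hF, QuotientGroup.mk_one, hf, if_neg (fun hc : IsConj y 1 => hy.1
    (isConj_one_left.1 hc)), mul_zero, e1, e2] at h1
  have hrel : c₁ * a₁ + c₂ * a₂ = 0 := by
    refine (mul_eq_zero.1 (?_ : (c₁ * a₁ + c₂ * a₂) * (θ : C → ℂ) 1 = 0)).resolve_right
      (irr_one_ne_zero θ.2)
    linear_combination -h1
  have n2 : (a₂ : ℂ) ≠ 0 := Nat.cast_ne_zero.2 h.pos2.ne'
  have hsum : (a₁ : ℂ) ^ 2 + (a₂ : ℂ) ^ 2 ≠ 0 := by
    have : 0 < a₁ ^ 2 + a₂ ^ 2 := by have := h.pos1; positivity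
    exact_mod_cast this.ne'
  have hΦval : ∀ x ∉ C, Φ x * a₂ = ((a₁ : ℂ) ^ 2 + (a₂ : ℂ) ^ 2) * (χ₁ : T → ℂ) x := fun x hx => by
    simp only [hΦ]
    linear_combination (-(a₁ : ℂ)) * h.off hx
  have hFval : ∀ x ∉ C, F x * (a₂ : ℂ) = (c₁ * a₂ - c₂ * a₁) * (χ₁ : T → ℂ) x := fun x hx => by
    rw [hval x]
    linear_combination c₂ * h.off hx
  obtain ⟨hy1, x, hxy, hx0⟩ := hy
  obtain ⟨hz1, x', hxz, hx'0⟩ := hz
  have hxC : x ∉ C := fun hc => hy1 (hxy ▸ (QuotientGroup.eq_one_iff x).2 hc)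
  have hx'C : x' ∉ C := fun hc => hz1 (hxz ▸ (QuotientGroup.eq_one_iff x').2 hc)
  have hA := hFval x hxC
  have hB := hFval x' hx'C
  simp only [hF, hxy, hxz, hf, if_pos (IsConj.refl y), if_neg hzy, mul_one, mul_zero, zero_mul] at hA hB
  rw [hΦval x hxC] at hA
  have h4 : c₁ * a₂ - c₂ * a₁ = 0 := (mul_eq_zero.1 hB.symm).resolve_right hx'0
  rw [h4, zero_mul] at hA
  exact (mul_ne_zero hsum hx0) hA

theorem Over.norm_sum (h : Over θ χ₁ χ₂ a₁ a₂) [Fintype (T ⧸ C)] {y : T ⧸ C} (hy : y ∈ suppY C χ₁) :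
    (Nat.card (suppY C χ₁) : ℂ) * cosetNorm C χ₁ y = (Nat.card C : ℂ) * (a₂ : ℂ) ^ 2 := by
  classical
  have h1 := irr_self χ₁.2
  rw [classInner, inv_mul_eq_iff_eq_mul₀ (Nat.cast_ne_zero.2 Nat.card_pos.ne'), mul_one,
    ← Finset.sum_fiberwise _ (fun x : T => (QuotientGroup.mk x : T ⧸ C))] at h1
  have hcn : ∀ q : T ⧸ C, ∑ x ∈ Finset.univ.filter (fun x : T => (QuotientGroup.mk x : T ⧸ C) = q),
      (χ₁ : T → ℂ) x * conj ((χ₁ : T → ℂ) x) = cosetNorm C χ₁ q := fun q => by
    unfold cosetNorm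
    convert rfl
  simp only [hcn] at h1
  have hone : cosetNorm C χ₁ 1 = (a₁ : ℂ) ^ 2 * (Nat.card C : ℂ) := by
    rw [← hcn 1, Finset.sum_subtype _ (p := (· ∈ C)) (fun x => by simp [QuotientGroup.eq_one_iff])]
    simp only [h.res1]
    rw [Finset.sum_congr rfl (g := fun n : C => (a₁ : ℂ) ^ 2 * ((θ : C → ℂ) n * conj ((θ : C → ℂ) n)))
      (fun n _ => by rw [map_mul, Complex.conj_natCast]; ring), ← Finset.mul_sum]
    congr 1
    have h2 := irr_self θ.2
    rwa [classInner, inv_mul_eq_iff_eq_mul₀ (Nat.cast_ne_zero.2 Nat.card_pos.ne'), mul_one] at h2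
  rw [← Finset.add_sum_erase _ _ (Finset.mem_univ (1 : T ⧸ C)), hone,
    ← Finset.sum_subset (s₁ := (Finset.univ : Finset (T ⧸ C)).filter (· ∈ suppY C χ₁)) (fun q hq => by
      rw [Finset.mem_filter] at hq
      exact Finset.mem_erase.2 ⟨hq.2.1, Finset.mem_univ _⟩) (fun q hq hq' => by
      rw [Finset.mem_erase] at hq
      by_contra h0
      exact hq' (Finset.mem_filter.2 ⟨Finset.mem_univ _, hq.1, (cosetNorm_ne_zero χ₁ q).1 h0⟩)),
    Finset.sum_congr rfl (g := fun _ => cosetNorm C χ₁ y) (fun q hq => by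
      obtain ⟨w, rfl⟩ := isConj_iff.1 ((h.one_class hy q).1 (Finset.mem_filter.1 hq).2)
      rw [cosetNorm_conj]), Finset.sum_const, nsmul_eq_mul, ← Fintype.card_subtype,
    ← Nat.card_eq_fintype_card] at h1
  have hsq : ((a₁ : ℂ) ^ 2 + (a₂ : ℂ) ^ 2) = (Nat.card (T ⧸ C) : ℂ) := by exact_mod_cast h.sq
  have hT : (Nat.card T : ℂ) = (Nat.card (T ⧸ C) : ℂ) * (Nat.card C : ℂ) := by
    exact_mod_cast Subgroup.card_eq_card_quotient_mul_card_subgroup C
  rw [hT, ← hsq] at h1
  linear_combination h1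

theorem Over.two (h : Over θ χ₁ χ₂ a₁ a₂) : Two (T ⧸ C) a₁ a₂ (suppY C χ₁) where
  pos1 := h.pos1
  pos2 := h.pos2
  sq := h.sq
  nonempty := h.nonempty
  one_notMem := fun h1 => h1.1 rfl
  mem_iff := fun _ hy z => h.one_class hy z
  top := by
    intro hcyc
    classical
    obtain ⟨φ, hφ, hres⟩ := exists_extension_cyclic C hcyc θ.2 h.inv
    haveI := finite_hom_units (T ⧸ C)
    letI := IsCyclic.commGroup (α := T ⧸ C)
    haveI := Fintype.ofFinite (T ⧸ C)
    haveI := Fintype.ofFinite ((T ⧸ C) →* ℂˣ)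
    have hk : (QuotientGroup.mk' C).ker = C := QuotientGroup.ker_mk' C
    let e : (QuotientGroup.mk' C).ker ≃* C := MulEquiv.subgroupCongr hk
    haveI := Fintype.ofFinite (QuotientGroup.mk' C).ker
    let θ' : IrrCharacter (QuotientGroup.mk' C).ker := ⟨fun n => (θ : C → ℂ) (e n),
      isIrrCharacter_comp_equiv e θ.2⟩
    obtain ⟨ε, hε⟩ := exists_ext (QuotientGroup.mk' C) (QuotientGroup.mk'_surjective C) hcyc θ'
      (fun g n => by
        show (θ : C → ℂ) (e (MulAut.conjNormal g n)) = (θ : C → ℂ) (e n)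
        rw [show e (MulAut.conjNormal g n) = MulAut.conjNormal g (e n) from Subtype.ext rfl, h.inv])
    have hone : ∀ (χ : IrrCharacter T) (a : ℕ), (∀ n : C, (χ : T → ℂ) n = (a : ℂ) * (θ : C → ℂ) n) →
        0 < a → a = 1 := by
      intro χ a hr ha
      obtain ⟨l, hl⟩ := hε.lies χ (by
        rw [show (fun n : (QuotientGroup.mk' C).ker => (χ : T → ℂ) n) = (a : ℂ) • (θ' : _ → ℂ) from
          funext fun n => hr (e n), classInner_smul_left, irr_self θ'.2, mul_one,
          Nat.cast_ne_zero]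
        exact ha.ne')
      have h1 := congrFun hl 1
      rw [tw, map_one, map_one, Units.val_one, one_mul, show ε 1 = (θ : C → ℂ) 1 from
        (hε.res 1).trans (congrArg (θ : C → ℂ) (map_one e))] at h1
      have h2 := hr 1
      rw [Subgroup.coe_one, h1] at h2
      have h3 := mul_right_cancel₀ (irr_one_ne_zero θ.2) ((one_mul _).trans h2)
      exact_mod_cast h3.symm
    exact ⟨hone χ₁ a₁ h.res1 h.pos1, hone χ₂ a₂ h.res2 h.pos2⟩
  cyc := by
    intro Q hQ inst
    classical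
    haveI := Fintype.ofFinite (T ⧸ C)
    letI := hQ.commGroup
    set U := Q.comap (QuotientGroup.mk' C) with hU
    haveI := Fintype.ofFinite U
    haveI := Fintype.ofFinite Q
    let π : U →* Q := ((QuotientGroup.mk' C).comp U.subtype).codRestrict Q fun u => u.2
    have hπ : Function.Surjective π := fun q => by
      obtain ⟨x, hx⟩ := QuotientGroup.mk_surjective (q : T ⧸ C)
      exact ⟨⟨x, show (QuotientGroup.mk x : T ⧸ C) ∈ Q by rw [hx]; exact q.2⟩, Subtype.ext hx⟩
    haveI := Fintype.ofFinite π.ker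
    have hkC : ∀ n : π.ker, ((n : U) : T) ∈ C := fun n =>
      (QuotientGroup.eq_one_iff _).1 (congrArg Subtype.val (MonoidHom.mem_ker.1 n.2))
    have hCU : C ≤ U := fun x hx => by
      rw [hU, Subgroup.mem_comap, QuotientGroup.mk'_apply, (QuotientGroup.eq_one_iff x).2 hx]
      exact one_mem Q
    let e : π.ker ≃* C :=
      { toFun := fun n => ⟨_, hkC n⟩
        invFun := fun x => ⟨⟨x, hCU x.2⟩, MonoidHom.mem_ker.2 (Subtype.ext ((QuotientGroup.eq_one_iff _).2 x.2))⟩
        left_inv := fun _ => rfl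
        right_inv := fun _ => rfl
        map_mul' := fun _ _ => rfl }
    let θ' : IrrCharacter π.ker := ⟨fun n => (θ : C → ℂ) (e n), isIrrCharacter_comp_equiv e θ.2⟩
    obtain ⟨ε, hε⟩ := exists_ext π hπ hQ θ' (fun g n => by
      show (θ : C → ℂ) (e (MulAut.conjNormal g n)) = (θ : C → ℂ) (e n)
      rw [show e (MulAut.conjNormal g n) = MulAut.conjNormal (g : T) (e n) from Subtype.ext rfl, h.inv])
    have hchar : ∀ χ : IrrCharacter T, IsCharacter U (fun u : U => (χ : T → ℂ) u) := fun χ =>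
      isCharacter_comp U.subtype (irr_isCharacter χ.2)
    obtain ⟨n₁, he₁, hc₁, hs₁⟩ := hε.coeff (hchar χ₁) (a := (a₁ : ℂ)) (fun n => h.res1 (e n))
    obtain ⟨n₂, he₂, hc₂, hs₂⟩ := hε.coeff (hchar χ₂) (a := (a₂ : ℂ)) (fun n => h.res2 (e n))
    have hnorm : ∀ q : Q, cosetNorm C χ₁ (q : T ⧸ C) =
        (phi n₁ q * conj (phi n₁ q)) * (Nat.card C : ℂ) := by
      intro q
      rw [← Nat.card_congr e.toEquiv, ← hε.norm q, Finset.mul_sum]
      unfold cosetNorm
      refine Finset.sum_bij' (fun x hx => (⟨x, by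
          rw [hU, Subgroup.mem_comap, QuotientGroup.mk'_apply, (Finset.mem_filter.1 hx).2]
          exact q.2⟩ : U)) (fun u _ => (u : T)) ?_ ?_ ?_ ?_ ?_
      · intro x hx
        exact Finset.mem_filter.2 ⟨Finset.mem_univ _, Subtype.ext (Finset.mem_filter.1 hx).2⟩
      · intro u hu
        exact Finset.mem_filter.2 ⟨Finset.mem_univ _, congrArg Subtype.val (Finset.mem_filter.1 hu).2⟩
      · intro x _; rfl
      · intro u _; rfl
      · intro x hx
        have h1 := he₁ ⟨x, by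
          rw [hU, Subgroup.mem_comap, QuotientGroup.mk'_apply, (Finset.mem_filter.1 hx).2]
          exact q.2⟩
        simp only at h1
        rw [h1, show π ⟨x, _⟩ = q from Subtype.ext (Finset.mem_filter.1 hx).2, map_mul, phi]
        ring
    have hsupp1 : ∀ q : Q, q ≠ 1 → (phi n₁ q ≠ 0 ↔ (q : T ⧸ C) ∈ suppY C χ₁) := by
      intro q hq
      have hq1 : (q : T ⧸ C) ≠ 1 := fun e => hq (Subtype.ext e)
      show _ ↔ (_ ∧ _)
      rw [and_iff_right hq1, ← cosetNorm_ne_zero, hnorm, mul_ne_zero_iff,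
        and_iff_left (Nat.cast_ne_zero.2 Nat.card_pos.ne'), mul_ne_zero_iff, map_ne_zero, and_self]
    refine ⟨n₁, n₂, by exact_mod_cast hs₁, by exact_mod_cast hs₂, hsupp1, ?_, ?_, ?_⟩
    · intro q hq
      rw [← hsupp1 q hq]
      have hne : ∀ u : U, π u = q → (u : T) ∉ C := fun u hu hc => hq (hu ▸
        Subtype.ext ((QuotientGroup.eq_one_iff _).2 hc))
      obtain ⟨u, hu, hu0⟩ : ∃ u : U, π u = q ∧ ε u ≠ 0 := by
        by_contra hno
        push Not at hno
        have := hε.norm q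
        rw [Finset.sum_eq_zero fun u hu => by rw [hno u (Finset.mem_filter.1 hu).2, zero_mul]] at this
        exact (Nat.cast_ne_zero.2 Nat.card_pos.ne') this.symm
      have b1 := he₁ u
      have b2 := he₂ u
      simp only [hu] at b1 b2
      have := h.supp_two (hne u hu)
      rw [b1, b2, mul_ne_zero_iff, mul_ne_zero_iff, and_iff_left hu0, and_iff_left hu0] at this
      exact this.symm
    · intro q hq
      have h1 := h.norm_sum hq
      rw [hnorm, ← mul_assoc, mul_comm (Nat.card C : ℂ)] at h1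
      exact mul_right_cancel₀ (Nat.cast_ne_zero.2 Nat.card_pos.ne') h1
    · intro w hw
      obtain ⟨g, rfl⟩ := QuotientGroup.mk_surjective w
      have hgU : ∀ u : U, g * (u : T) * g⁻¹ ∈ U := fun u => by
        have := hw (π u : T ⧸ C) (π u).2
        show (QuotientGroup.mk (g * (u : T) * g⁻¹) : T ⧸ C) ∈ Q
        rw [QuotientGroup.mk_mul, QuotientGroup.mk_mul, QuotientGroup.mk_inv]
        exact this
      let c : U ≃* U :=
        { toFun := fun u => ⟨g * u * g⁻¹, hgU u⟩
          invFun := fun u => ⟨g⁻¹ * u * g, by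
            have hfin : ∃ k : ℕ, 0 < k ∧ (QuotientGroup.mk g : T ⧸ C) ^ k = 1 :=
              ⟨_, orderOf_pos _, pow_orderOf_eq_one _⟩
            obtain ⟨k, hk, hk1⟩ := hfin
            obtain ⟨j, rfl⟩ := Nat.exists_eq_add_of_le' hk
            have hpow : ∀ i : ℕ, ∀ q ∈ Q, (QuotientGroup.mk g : T ⧸ C) ^ i * q *
                ((QuotientGroup.mk g : T ⧸ C) ^ i)⁻¹ ∈ Q := by
              intro i
              induction i with
              | zero => intro q hq; simpa using hq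
              | succ i ih =>
                intro q hq
                have := hw _ (ih q hq)
                rw [pow_succ']
                simpa [mul_assoc] using this
            have := hpow j (π u : T ⧸ C) (π u).2
            rw [eq_inv_of_mul_eq_one_left (show (QuotientGroup.mk g : T ⧸ C) ^ j *
              QuotientGroup.mk g = 1 by rw [← pow_succ]; exact hk1), inv_inv] at this
            show (QuotientGroup.mk (g⁻¹ * (u : T) * g) : T ⧸ C) ∈ Q
            rw [QuotientGroup.mk_mul, QuotientGroup.mk_mul, QuotientGroup.mk_inv]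
            exact this⟩
          left_inv := fun u => Subtype.ext (by simp [mul_assoc])
          right_inv := fun u => Subtype.ext (by simp [mul_assoc])
          map_mul' := fun u v => Subtype.ext (by simp [mul_assoc]) }
      have hπc : ∀ u : U, π (c u) = conjHom Q (QuotientGroup.mk g) hw (π u) := fun u => Subtype.ext (by
        show (QuotientGroup.mk (g * (u : T) * g⁻¹) : T ⧸ C) = _
        rw [QuotientGroup.mk_mul, QuotientGroup.mk_mul, QuotientGroup.mk_inv]; rfl)
      have hirrc : IsIrrCharacter U (fun u => ε (c u)) := by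
        have := hε.irr 1
        rw [show tw π ε 1 = ε from funext fun u => by simp [tw]] at this
        exact isIrrCharacter_comp_equiv c this
      obtain ⟨l₀, hl₀⟩ := hε.lies ⟨_, hirrc⟩ (by
        rw [show (fun n : π.ker => ε (c n)) = (θ' : π.ker → ℂ) from funext fun n => by
          have hm : c n ∈ π.ker := by
            rw [MonoidHom.mem_ker, hπc, MonoidHom.mem_ker.1 n.2, map_one]
          rw [show ε (c n) = (θ : C → ℂ) (e ⟨c n, hm⟩) from hε.res ⟨c n, hm⟩,
            show e ⟨c n, hm⟩ = MulAut.conjNormal g (e n) from Subtype.ext rfl, h.inv]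
          , irr_self θ'.2]
        exact one_ne_zero)
      have hl₀' : ∀ u, ε (c u) = (l₀ (π u) : ℂ) * ε u := congrFun hl₀
      have htau : ∀ l u, tw π ε l (c u) = tw π ε (tau Q _ hw l₀ l) u := fun l u => by
        simp only [tw, tau, MonoidHom.mul_apply, MonoidHom.comp_apply, Units.val_mul, hl₀', hπc]
        ring
      have hinvn : ∀ (χ : IrrCharacter T) (n : (Q →* ℂˣ) → ℕ),
          (∀ l, classInner (fun u : U => (χ : T → ℂ) u) (tw π ε l) = (n l : ℂ)) →
          ∀ l, n (tau Q _ hw l₀ l) = n l := by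
        intro χ n hc l
        have e1 : classInner (fun u : U => (χ : T → ℂ) u) (tw π ε (tau Q _ hw l₀ l)) =
            classInner (fun u : U => (χ : T → ℂ) u) (tw π ε l) := by
          simp only [classInner, ← htau]
          congr 1
          refine Fintype.sum_equiv c.toEquiv _ _ fun u => ?_
          show _ = (χ : T → ℂ) (g * (u : T) * g⁻¹) * _
          rw [isClassFunction_character (irr_isCharacter χ.2)]
          rfl
        rw [hc, hc] at e1
        exact_mod_cast e1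
      refine ⟨l₀, hinvn χ₁ n₁ hc₁, hinvn χ₂ n₂ hc₂, ?_⟩
      intro hidx hwQ ha₁ ha₂ l hfix
      -- an invariant twist extends to `T`
      have hUidx : U.index = 2 := by
        rw [hU, Subgroup.index_comap_of_surjective _ (QuotientGroup.mk'_surjective C), hidx]
      haveI : U.Normal := Subgroup.normal_of_index_eq_two hUidx
      have hgU' : g ∉ U := fun hg => hwQ hg
      have hinvU : ∀ (x : T) (u : U), tw π ε l (MulAut.conjNormal x u) = tw π ε l u := by
        intro x u
        have hcl := isClassFunction_character (irr_isCharacter (hε.irr l))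
        by_cases hx : x ∈ U
        · rw [show MulAut.conjNormal x u = (⟨x, hx⟩ : U) * u * (⟨x, hx⟩ : U)⁻¹ from Subtype.ext rfl]
          exact hcl u ⟨x, hx⟩
        · have hv : x * g⁻¹ ∈ U := by
            rw [Subgroup.mul_mem_iff_of_index_two hUidx, inv_mem_iff]
            exact ⟨fun h' => absurd h' hx, fun h' => absurd h' hgU'⟩
          rw [show MulAut.conjNormal x u = (⟨x * g⁻¹, hv⟩ : U) * c u * (⟨x * g⁻¹, hv⟩ : U)⁻¹ from
            Subtype.ext (show x * (u : T) * x⁻¹ = x * g⁻¹ * (g * u * g⁻¹) * (x * g⁻¹)⁻¹ by group),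
            hcl (c u) ⟨x * g⁻¹, hv⟩, htau, hfix]
      have hcyc2 : IsCyclic (T ⧸ U) := by
        haveI : Fact (Nat.Prime 2) := ⟨Nat.prime_two⟩
        exact isCyclic_of_prime_card (by rw [← Subgroup.index_eq_card, hUidx])
      obtain ⟨φ, hφ, hφres⟩ := exists_extension_cyclic U hcyc2 (hε.irr l) hinvU
      have hres : ∀ n : C, φ n = (θ : C → ℂ) n := fun n => by
        have h1 := hφres ⟨(n : T), hCU n.2⟩
        rw [h1, tw, show π ⟨(n : T), hCU n.2⟩ = 1 from Subtype.ext ((QuotientGroup.eq_one_iff _).2 n.2),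
          map_one, Units.val_one, one_mul]
        exact hε.res ⟨⟨n, hCU n.2⟩, MonoidHom.mem_ker.2 (Subtype.ext ((QuotientGroup.eq_one_iff _).2 n.2))⟩
      have hφ1 := hres 1
      rcases h.only ⟨φ, hφ⟩ (by
        rw [show (fun n : C => φ n) = (θ : C → ℂ) from funext hres, irr_self θ.2]; exact one_ne_zero) with e0 | e0
      · have h2 := h.res1 1
        rw [← e0] at h2
        simp only [hφ1] at h2
        have h3 : (1 : ℂ) = a₁ := mul_right_cancel₀ (irr_one_ne_zero θ.2) ((one_mul _).trans h2)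
        have : a₁ = 1 := by exact_mod_cast h3.symm
        omega
      · have h2 := h.res2 1
        rw [← e0] at h2
        simp only [hφ1] at h2
        have h3 : (1 : ℂ) = a₂ := mul_right_cancel₀ (irr_one_ne_zero θ.2) ((one_mul _).trans h2)
        have : a₂ = 1 := by exact_mod_cast h3.symm
        omega

end Cfsg.Agent.Char.KThree
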