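import Cfsg.Agent.Lib.Char.KThree.BlockTools
import Cfsg.Agent.Lib.Char.KThree.TwoOver
import Cfsg.Agent.Lib.Char.KThree.Core
import Cfsg.Agent.Lib.Char.SmallBlock
import Cfsg.Agent.S4733
import Mathlib

/-!
# Three characters over an abelian normal defect group
-/

set_option autoImplicit false
set_option linter.unusedSectionVars false
set_option linter.style.haveILetI false
set_option maxHeartbeats 1000000

open Cfsg
open scoped ComplexConjugate

namespace Cfsg.Agent.Char.KThree

universe u

section Perm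

variable {G : Type u} [Group G] (A : Subgroup G) [A.Normal]

/-- The action on the linear characters of a normal subgroup. -/
noncomputable def lamAct : G →* MulAut (A →* ℂˣ) where
  toFun g :=
    { toFun := fun ξ => ξ.comp (MulAut.conjNormal g⁻¹ : A ≃* A).toMonoidHom
      invFun := fun ξ => ξ.comp (MulAut.conjNormal g : A ≃* A).toMonoidHom
      left_inv := fun ξ => MonoidHom.ext fun u => congrArg ξ (Subtype.ext (by
        simp [MulAut.conjNormal_apply, mul_assoc]))
      right_inv := fun ξ => MonoidHom.ext fun u => congrArg ξ (Subtype.ext (by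
        simp [MulAut.conjNormal_apply, mul_assoc]))
      map_mul' := fun ξ η => rfl }
  map_one' := MulEquiv.ext fun ξ => MonoidHom.ext fun u => congrArg ξ (Subtype.ext (by
    simp [MulAut.conjNormal_apply]))
  map_mul' g h := MulEquiv.ext fun ξ => MonoidHom.ext fun u => congrArg ξ (Subtype.ext (by
    simp [MulAut.conjNormal_apply, mul_assoc]))

theorem lamAct_apply (g : G) (ξ : A →* ℂˣ) (u : A) :
    lamAct A g ξ u = ξ (MulAut.conjNormal g⁻¹ u) := rfl

variable [Finite G]

/-- Linear characters separate the points of an abelian subgroup. -/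
theorem mem_centralizer_of_lamAct (hab : ∀ a ∈ A, ∀ b ∈ A, a * b = b * a) {g : G}
    (h : lamAct A g = 1) : g ∈ Subgroup.centralizer (A : Set G) := by
  letI : CommGroup A := { (inferInstance : Group A) with
    mul_comm := fun a b => Subtype.ext (hab a a.2 b b.2) }
  haveI : NeZero (Monoid.exponent A) := ⟨Monoid.exponent_ne_zero_of_finite⟩
  refine Subgroup.mem_centralizer_iff.2 fun a ha => ?_
  have e : ∀ ξ : A →* ℂˣ, ξ (MulAut.conjNormal g⁻¹ ⟨a, ha⟩) = ξ ⟨a, ha⟩ := fun ξ => by
    rw [← lamAct_apply A g ξ ⟨a, ha⟩, h]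
    rfl
  have e2 : MulAut.conjNormal g⁻¹ (⟨a, ha⟩ : A) = ⟨a, ha⟩ := by
    by_contra hne
    obtain ⟨φ, hφ⟩ := CommGroup.exists_apply_ne_one_of_hasEnoughRootsOfUnity A ℂ
      (mt mul_inv_eq_one.1 hne)
    exact hφ (by rw [map_mul, e φ, map_inv, mul_inv_cancel])
  have := congrArg Subtype.val e2
  simp only [MulAut.conjNormal_apply, inv_inv] at this
  calc a * g = g * (g⁻¹ * a * g) := by group
    _ = g * a := by rw [this]

end Perm

/-- Coordinates on a vector space over the prime field. -/
theorem exists_coord' {p : ℕ} [Fact p.Prime] {V : Type*} [AddCommGroup V] [Finite V] [Module (ZMod p) V] :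
    ∃ a : ℕ, Nonempty (V ≃+ (Fin a → ZMod p)) := by
  haveI : Module.Finite (ZMod p) V := Module.Finite.of_finite
  exact ⟨Module.finrank (ZMod p) V, ⟨(Module.finBasis (ZMod p) V).equivFun.toAddEquiv⟩⟩

/-- Coordinates on a group of exponent `p`. -/
theorem exists_coord {p : ℕ} [Fact p.Prime] {V : Type*} [AddCommGroup V] [Finite V] (h : ∀ x : V, p • x = 0) :
    ∃ a : ℕ, Nonempty (V ≃+ (Fin a → ZMod p)) :=
  @exists_coord' p _ V _ _ (AddCommGroup.zmodModule h)

theorem card_three_of_abelian {G : Type u} [Group G] [Fintype G] {M : Ideal AlgInt} {p : ℕ}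
    (hM : IsPModular p M) {B : Set (IrrCharacter G)} (hB : IsPBlock M B) (A : Subgroup G) [A.Normal]
    (hA : IsDefectGroup p M B A) (hab : ∀ a ∈ A, ∀ b ∈ A, a * b = b * a) (hk : Nat.card B = 3) :
    Nat.card A = 3 := by
  classical
  have hP := pmod_prime hM
  have hp := hM.1
  haveI := Fact.mk hp
  haveI := Fintype.ofFinite A
  obtain ⟨y, hy, hDy⟩ := (isDefectGroup_iff B A).1 hA
  have hAp : IsPGroup p A := hDy.isPGroup
  have hcardA := card_defectGroup hM hB hA
  have hd0 : blockDefect p B ≠ 0 := fun h0 => by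
    have := ((Cfsg.Agent.S4733.result p M hM B hB).2.1.1 h0).1
    omega
  have hA1 : Nat.card A ≠ 1 := by
    rw [hcardA]
    exact (Nat.one_lt_pow hd0 hp.one_lt).ne'
  obtain ⟨χ₁, hχ₁B, ht₁⟩ : ∃ χ ∈ B, ∀ u ∈ A, (χ : G → ℂ) u = (χ : G → ℂ) 1 := by
    obtain ⟨χ, hχ⟩ := block_nonempty hP hB
    obtain ⟨χ', hs, ht⟩ := exists_sameBlock_trivial_on hM A hAp χ
    exact ⟨χ', (mem_block_iff hP hB hχ χ').2 hs, ht⟩
  by_cases huniq : ∀ χ ∈ B, (∀ u ∈ A, (χ : G → ℂ) u = (χ : G → ℂ) 1) → χ = χ₁
  · have hr := rank_one_of_trivial_unique hM hB A hAp hab huniq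
    rw [hcardA, ← SmallBlock.card_eq_pow hM hB hr (by omega), hk]
  push Not at huniq
  obtain ⟨χ₂, hχ₂B, ht₂, hne21⟩ := huniq
  -- the characters of `A`
  set C := Subgroup.centralizer (A : Set G) with hCdef
  haveI : C.Normal := inferInstance
  haveI := Fintype.ofFinite C
  have hAC : A ≤ C := fun a ha => Subgroup.mem_centralizer_iff.2 fun b hb => hab b hb a ha
  have hcent : ∀ u ∈ A, ∀ c ∈ C, u * c = c * u := fun u hu c hc => Subgroup.mem_centralizer_iff.1 hc u hu
  let L := lamOf A C hAC hcent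
  have hΛc : Nat.card (A →* ℂˣ) = Nat.card A := by
    letI : CommGroup A := { (inferInstance : Group A) with
      mul_comm := fun a b => Subtype.ext (hab a a.2 b b.2) }
    rw [card_hom_units, (commutator_eq_bot_iff_center_eq_top A).2 CommGroup.center_eq_top,
      Subgroup.index_bot]
  haveI := Char.finite_hom_units A
  -- some character of the block is not trivial on `A`
  obtain ⟨χ₃, hχ₃B, ht₃⟩ : ∃ χ ∈ B, ¬ ∀ u ∈ A, (χ : G → ℂ) u = (χ : G → ℂ) 1 := by
    by_contra hno
    push Not at hno
    haveI : Nontrivial (A →* ℂˣ) := Finite.one_lt_card_iff_nontrivial.1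
      (by rw [hΛc]; have := Nat.card_pos (α := A); omega)
    obtain ⟨ξ, hξ⟩ := exists_ne (1 : A →* ℂˣ)
    obtain ⟨χ, hχ, hne⟩ := exists_block_over hM hB hAp
      (⟨fun u => (ξ u : ℂ), isIrrCharacter_linear ξ⟩ : IrrCharacter A)
    refine hne ?_
    show classInner (fun n : A => (χ : G → ℂ) n) (fun u => (ξ u : ℂ)) = 0
    rw [show (fun n : A => (χ : G → ℂ) n) = (χ : G → ℂ) 1 • (fun _ : A => (1 : ℂ)) from
      funext fun n => by simp [hno χ hχ n n.2], classInner_smul_left,
      irr_orth isIrrCharacter_one (isIrrCharacter_linear ξ), if_neg, mul_zero]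
    exact fun e => hξ (MonoidHom.ext fun u => Units.ext (congrFun e u).symm)
  have h31 : χ₃ ≠ χ₁ := fun e => ht₃ (e ▸ ht₁)
  have h32 : χ₃ ≠ χ₂ := fun e => ht₃ (e ▸ ht₂)
  have hmem : ∀ χ ∈ B, χ = χ₁ ∨ χ = χ₂ ∨ χ = χ₃ := by
    intro χ hχ
    by_contra hno
    push Not at hno
    have hs : ({χ, χ₁, χ₂, χ₃} : Finset (IrrCharacter G)) ⊆ bset B := by
      intro x hx
      simp only [Finset.mem_insert, Finset.mem_singleton] at hx
      rw [mem_bset]
      rcases hx with rfl | rfl | rfl | rfl <;> assumption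
    have := Finset.card_le_card hs
    rw [card_bset, hk, Finset.card_insert_of_notMem (by simp [hno.1, hno.2.1, hno.2.2]),
      Finset.card_insert_of_notMem (by simp [Ne.symm hne21, Ne.symm h31]),
      Finset.card_insert_of_notMem (by simp [Ne.symm h32]), Finset.card_singleton] at this
    omega
  have htriv12 : ∀ χ ∈ B, (∀ u ∈ A, (χ : G → ℂ) u = (χ : G → ℂ) 1) → χ = χ₁ ∨ χ = χ₂ := by
    intro χ hχ ht
    rcases hmem χ hχ with h | h | h
    · exact Or.inl h
    · exact Or.inr h
    · exact absurd (h ▸ ht) ht₃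
  -- the character below
  obtain ⟨θ, hθ₁⟩ := exists_constituent (N := C) χ₁
  have hLθ : L θ = 1 := (lamOf_eq_one_iff hθ₁).2 ht₁
  have hover : ∀ (η : IrrCharacter C) (χ : IrrCharacter G), SameBlock M (θ : C → ℂ) (η : C → ℂ) →
      classInner (fun n : C => (χ : G → ℂ) n) (η : C → ℂ) ≠ 0 → χ ∈ B := fun η χ hs hη =>
    (mem_block_iff hP hB hχ₁B χ).2 (sameBlock_over hM A hAp C rfl hθ₁ hη hs)
  obtain ⟨m, hm, hmdeg, hmsq⟩ := over_sq (G := G) θ
  have hm1 : m χ₁ ≠ 0 := fun h0 => hθ₁ (by rw [hm, h0, Nat.cast_zero])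
  set O := (cliffOrbit C θ).card with hO
  set S := ∑ χ, m χ ^ 2 with hS
  have hO0 : O ≠ 0 := Finset.card_ne_zero.2 ⟨θ, self_mem_cliffOrbit θ⟩
  have hS0 : S ≠ 0 := fun h0 => Subgroup.index_ne_zero_of_finite (H := C) (by rw [← hmsq, h0, zero_mul])
  set A' := A.subgroupOf C with hA'
  have hA'comm : ∀ a b : A', a * b = b * a := fun a b =>
    Subtype.ext (Subtype.ext (hab _ a.2 _ b.2))
  have hidx : A'.index * C.index = A.index := Subgroup.relIndex_mul_index hAC
  have hA'0 : A'.index ≠ 0 := Subgroup.index_ne_zero_of_finite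
  have hθdvd : deg (θ : C → ℂ) ∣ A'.index := deg_dvd_index_abelian_normal θ.2 A' hA'comm
  have hθle : (deg (θ : C → ℂ)).factorization p ≤ A'.index.factorization p :=
    (Nat.factorization_le_iff_dvd (deg_pos θ.2).ne' hA'0).2 hθdvd p
  have hheight : ∀ χ ∈ B, (deg (χ : G → ℂ)).factorization p = A.index.factorization p := by
    intro χ hχ
    have h1 := (blockHeight_eq_zero_iff hχ).1 (height_zero_of_abelian_normal_defect hM hB hA hab hχ)
    have h2 := dmin_add_defect (p := p) (block_nonempty hP hB)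
    have h3 := congrFun (congrArg DFunLike.coe (congrArg Nat.factorization A.card_mul_index)) p
    rw [Nat.factorization_mul Nat.card_pos.ne' Subgroup.index_ne_zero_of_finite,
      Finsupp.add_apply, hcardA, hp.factorization_pow, Finsupp.single_eq_same] at h3
    rw [dexp] at h1
    omega
  have hval : ∀ χ, m χ ≠ 0 → (m χ).factorization p + (deg (θ : C → ℂ)).factorization p =
      S.factorization p + A'.index.factorization p := by
    intro χ h0
    have hχB := hover θ χ (sameBlock_refl hP _) (by rw [hm]; exact_mod_cast h0)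
    have e1 := hheight χ hχB
    have e2 : A.index.factorization p = A'.index.factorization p + (S.factorization p + O.factorization p) := by
      rw [← hidx, ← hmsq, Nat.factorization_mul hA'0 (Nat.mul_ne_zero hS0 hO0), Finsupp.add_apply,
        Nat.factorization_mul hS0 hO0, Finsupp.add_apply]
    rw [hmdeg χ h0, Nat.factorization_mul h0 (Nat.mul_ne_zero hO0 (deg_pos θ.2).ne'), Finsupp.add_apply,
      Nat.factorization_mul hO0 (deg_pos θ.2).ne', Finsupp.add_apply] at e1
    omega
  set γ := S.factorization p + A'.index.factorization p - (deg (θ : C → ℂ)).factorization p with hγ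
  have hdvd : p ^ (2 * γ) ∣ S := Finset.dvd_sum fun χ _ => by
    rcases Nat.eq_zero_or_pos (m χ) with h0 | h0
    · simp [h0]
    · rw [mul_comm, pow_mul]
      refine pow_dvd_pow_of_dvd ((hp.pow_dvd_iff_le_factorization h0.ne').2 ?_) 2
      have := hval χ h0.ne'
      omega
  have hγS := (hp.pow_dvd_iff_le_factorization hS0).1 hdvd
  have hSp : S.factorization p = 0 := by omega
  have hpS : ¬ p ∣ S := fun hd => by
    have := hp.factorization_pos_of_dvd hS0 hd
    omega
  have hθdeg : (deg (θ : C → ℂ)).factorization p = A'.index.factorization p := by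
    omega
  have hA'cent : Subgroup.centralizer (A' : Set C) = ⊤ := eq_top_iff.2 fun c _ =>
    Subgroup.mem_centralizer_iff.2 fun a ha => Subtype.ext (hcent _ ha c c.2)
  have hA'card : Nat.card A' = Nat.card A := Nat.card_congr (Subgroup.subgroupOfEquivOfLe hAC).toEquiv
  have hA'p : IsPGroup p A' := hAp.of_equiv (Subgroup.subgroupOfEquivOfLe hAC).symm
  have hCD : CDData p A' θ :=
    { prime := hp
      pgroup := hA'p
      sup := by rw [hA'cent, sup_top_eq]
      triv := fun u hu => by
        have := lamOf_spec (hAC := hAC) (hcent := hcent) θ ⟨u, hu⟩ 1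
        rw [show lamOf A C hAC hcent θ = 1 from hLθ, MonoidHom.one_apply, Units.val_one, one_mul,
          mul_one] at this
        exact this
      deg := hθdeg }
  set c := blockOf M (θ : C → ℂ) with hc
  have hcB : IsPBlock M c := isPBlock_blockOf M θ
  have hθc : θ ∈ c := self_mem_blockOf hP θ
  obtain ⟨hcuniq, hccard⟩ := hCD.block hM hcB hθc
  have hLtriv : ∀ η : IrrCharacter C, L η = 1 → ∀ u ∈ A', (η : C → ℂ) u = (η : C → ℂ) 1 := by
    intro η he u hu
    have := lamOf_spec (hAC := hAC) (hcent := hcent) η ⟨u, hu⟩ 1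
    rw [show lamOf A C hAC hcent η = 1 from he, MonoidHom.one_apply, Units.val_one, one_mul,
      mul_one] at this
    exact this
  -- `c` is parametrized by the linear characters
  have hccard' : Nat.card c = Nat.card (A →* ℂˣ) := by
    rw [hccard, hΛc, ← hA'card]
    refine (Nat.card_congr (Equiv.ofBijective ConjClasses.mk ⟨fun a b hab' => ?_,
      ConjClasses.mk_surjective⟩)).symm
    obtain ⟨k, hk'⟩ := isConj_iff.1 (ConjClasses.mk_eq_mk_iff_isConj.1 hab')
    rw [← hk', hA'comm k a, mul_inv_cancel_right]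
  have hbij : Function.Bijective fun η : c => L η := by
    refine (Nat.bijective_iff_surjective_and_card _).2 ⟨fun ξ => ?_, hccard'⟩
    haveI := Fintype.ofFinite A'
    haveI : A'.Normal := inferInstance
    let ξ' : A' →* ℂˣ := ξ.comp (Subgroup.subgroupOfEquivOfLe hAC).toMonoidHom
    obtain ⟨η, hη, hne⟩ := exists_block_over hM hcB hA'p
      (⟨fun u => (ξ' u : ℂ), isIrrCharacter_linear ξ'⟩ : IrrCharacter A')
    refine ⟨⟨η, hη⟩, ?_⟩
    by_contra hL
    apply hne
    let η' : A' →* ℂˣ := (L η).comp (Subgroup.subgroupOfEquivOfLe hAC).toMonoidHom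
    have e : (fun n : A' => (η : C → ℂ) n) = (η : C → ℂ) 1 • (fun n : A' => (η' n : ℂ)) := funext fun n => by
      have := lamOf_spec (hAC := hAC) (hcent := hcent) η (Subgroup.subgroupOfEquivOfLe hAC n) 1
      rw [mul_one] at this
      rw [Pi.smul_apply, smul_eq_mul, mul_comm]
      exact this
    show classInner (fun n : A' => (η : C → ℂ) n) (fun u => (ξ' u : ℂ)) = 0
    rw [e, classInner_smul_left, irr_orth (isIrrCharacter_linear η') (isIrrCharacter_linear ξ'), if_neg,
      mul_zero]
    intro he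
    refine hL (MonoidHom.ext fun u => Units.ext ?_)
    have := congrFun he ((Subgroup.subgroupOfEquivOfLe hAC).symm u)
    simpa [η', ξ'] using this
  -- `χ₂` lies over `θ`
  have hθ₂ : classInner (fun n : C => (χ₂ : G → ℂ) n) (θ : C → ℂ) ≠ 0 := by
    obtain ⟨ψ, hψ⟩ := exists_constituent (N := C) χ₂
    obtain ⟨g, hg⟩ := mem_orbU_of_sameBlock hM (block_sameBlock hP hB hχ₁B hχ₂B) hθ₁ hψ
    have hψ' := constituent_irrComp hψ g
    have := hcuniq _ ((mem_block_iff hP hcB hθc _).2 hg) (hLtriv _ ((lamOf_eq_one_iff hψ').2 ht₂))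
    rwa [this] at hψ'
  have honly : ∀ χ : IrrCharacter G, classInner (fun n : C => (χ : G → ℂ) n) (θ : C → ℂ) ≠ 0 →
      χ = χ₁ ∨ χ = χ₂ := fun χ hχ =>
    htriv12 χ (hover θ χ (sameBlock_refl hP _) hχ) ((lamOf_eq_one_iff hχ).1 hLθ)
  -- the character of each linear character
  have hη : ∀ ξ : A →* ℂˣ, ∃ η : IrrCharacter C, η ∈ c ∧ L η = ξ := fun ξ => by
    obtain ⟨⟨η, h⟩, he⟩ := hbij.2 ξ
    exact ⟨η, h, he⟩
  choose et hetc hetL using hη
  have het3 : ∀ ξ, ξ ≠ 1 → ∀ χ : IrrCharacter G,
      classInner (fun n : C => (χ : G → ℂ) n) (et ξ : C → ℂ) ≠ 0 → χ = χ₃ := by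
    intro ξ hξ χ hχ
    have hB' := hover (et ξ) χ ((mem_block_iff hP hcB hθc _).1 (hetc ξ)) hχ
    have hnt : ¬ ∀ u ∈ A, (χ : G → ℂ) u = (χ : G → ℂ) 1 := fun ht =>
      hξ ((hetL ξ).symm.trans ((lamOf_eq_one_iff hχ).2 ht))
    rcases hmem χ hB' with h | h | h
    · exact absurd (h ▸ ht₁) hnt
    · exact absurd (h ▸ ht₂) hnt
    · exact h
  have het3' : ∀ ξ, ξ ≠ 1 → classInner (fun n : C => (χ₃ : G → ℂ) n) (et ξ : C → ℂ) ≠ 0 := by
    intro ξ hξ
    obtain ⟨χ, hχ⟩ := exists_constituent_over C (et ξ)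
    rw [← het3 ξ hξ χ hχ]
    exact hχ
  -- the stabilizer
  let T : Subgroup G :=
    { carrier := {g | irrComp (MulAut.conjNormal g) θ = θ}
      one_mem' := irrComp_conj_one θ
      mul_mem' := fun {a b} ha hb => by
        show irrComp (MulAut.conjNormal (a * b)) θ = θ
        rw [← irrComp_conj_mul, ha, hb]
      inv_mem' := fun {a} ha => by
        show irrComp (MulAut.conjNormal a⁻¹) θ = θ
        conv_lhs => rw [← (ha : irrComp (MulAut.conjNormal a) θ = θ)]
        rw [irrComp_conj_mul, mul_inv_cancel, irrComp_conj_one] }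
  haveI := Fintype.ofFinite T
  have hCT : C ≤ T := fun c' hc' => Subtype.ext (funext fun n => by
    rw [irrComp_apply, show MulAut.conjNormal c' n = (⟨c', hc'⟩ : C) * n * (⟨c', hc'⟩ : C)⁻¹ from
      Subtype.ext (by simp [MulAut.conjNormal_apply])]
    exact isClassFunction_character (irr_isCharacter θ.2) n _)
  have hI : ∀ g : G, irrComp (MulAut.conjNormal g) θ = θ → g ∈ T := fun g hg => hg
  set C' := C.subgroupOf T with hC'
  haveI : C'.Normal := inferInstance
  haveI := Fintype.ofFinite C'
  have hC'card : Nat.card C' = Nat.card C := Nat.card_congr (Subgroup.subgroupOfEquivOfLe hCT).toEquiv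
  have hEcard : Nat.card (T ⧸ C') = S := by
    have hT : O * Nat.card T = Nat.card G := card_cliffOrbit_mul θ
    have h1 := C'.card_mul_index
    have h2 := C.card_mul_index
    rw [← hmsq, ← hT, hC'card.symm, ← h1, Subgroup.index_eq_card] at h2
    refine (Nat.eq_of_mul_eq_mul_left (mul_pos (Nat.pos_of_ne_zero hO0) (Nat.card_pos (α := C'))) ?_).symm
    linarith
  -- transitivity
  have htrans : ∀ ξ ξ' : A →* ℂˣ, ξ ≠ 1 → ξ' ≠ 1 → ∃ g : T, lamAct A (g : G) ξ = ξ' := by
    intro ξ ξ' hξ hξ'
    obtain ⟨g, hg⟩ := mem_cliffOrbit.1 (mem_cliffOrbit_of_constituent (het3' ξ hξ) (het3' ξ' hξ'))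
    have hgθ : g ∈ T := by
      refine hcuniq _ ?_ (hLtriv _ ?_)
      · refine (mem_block_iff hP hcB hθc _).2 (sameBlock_trans hP ((mem_block_iff hP hcB hθc _).1 (hetc ξ')) ?_)
        rw [← hg]
        exact sameBlock_irrComp _ (sameBlock_symm hP ((mem_block_iff hP hcB hθc _).1 (hetc ξ)))
      · show lamOf A C hAC hcent _ = 1
        rw [lamOf_conj, show lamOf A C hAC hcent θ = 1 from hLθ, MonoidHom.one_comp]
    refine ⟨⟨g⁻¹, T.inv_mem hgθ⟩, ?_⟩
    rw [← hetL ξ', ← hg, show L (irrComp (MulAut.conjNormal g) (et ξ)) = _ from lamOf_conj (et ξ) g]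
    refine MonoidHom.ext fun u => ?_
    rw [lamAct_apply, inv_inv, show lamOf A C hAC hcent (et ξ) = ξ from hetL ξ]
    rfl
  -- stabilizers
  haveI : Nontrivial (A →* ℂˣ) := Finite.one_lt_card_iff_nontrivial.1
    (by rw [hΛc]; have := Nat.card_pos (α := A); omega)
  obtain ⟨ξ₀, hξ₀⟩ := exists_ne (1 : A →* ℂˣ)
  obtain ⟨f, hf⟩ := classInner_natCast (isCharacter_comp C.subtype (irr_isCharacter χ₃.2))
    (irr_isCharacter (et ξ₀).2)
  have hf' : classInner (fun n : C => (χ₃ : G → ℂ) n) (et ξ₀ : C → ℂ) = f := hf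
  have hf0 : 0 < f := Nat.pos_of_ne_zero fun h0 => het3' ξ₀ hξ₀ (by rw [hf', h0, Nat.cast_zero])
  have hstab : ∀ ξ : A →* ℂˣ, ξ ≠ 1 → Nat.card {g : T // lamAct A (g : G) ξ = ξ} = Nat.card C * f ^ 2 := by
    intro ξ hξ
    obtain ⟨m', hm', -, hsq'⟩ := over_sq (G := G) (et ξ)
    have hmf : m' χ₃ = f := by
      obtain ⟨g, hg⟩ := mem_cliffOrbit.1 (mem_cliffOrbit_of_constituent (het3' ξ₀ hξ₀) (het3' ξ hξ))
      have e := hm' χ₃
      rw [← hg, show (irrComp (MulAut.conjNormal g) (et ξ₀) : C → ℂ) =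
          fun n => (et ξ₀ : C → ℂ) (MulAut.conjNormal g n) from rfl,
        classInner_restrict_conj (isClassFunction_character (irr_isCharacter χ₃.2)), hf'] at e
      exact_mod_cast e.symm
    rw [Finset.sum_eq_single χ₃ (fun χ _ hne => by
        by_contra h0
        refine hne (het3 ξ hξ χ ?_)
        rw [hm']
        exact_mod_cast fun h => h0 (by rw [h]; rfl))
      (fun h => absurd (Finset.mem_univ _) h), hmf] at hsq'
    have hO' := card_cliffOrbit_mul (G := G) (et ξ)
    rw [← C.card_mul_index, ← hsq'] at hO'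
    have hpos : 0 < (cliffOrbit C (et ξ)).card := Finset.card_pos.2 ⟨_, self_mem_cliffOrbit _⟩
    have hcard : Nat.card {g : G // irrComp (MulAut.conjNormal g) (et ξ) = et ξ} = Nat.card C * f ^ 2 :=
      Nat.eq_of_mul_eq_mul_left hpos (by rw [hO']; ring)
    rw [← hcard]
    have hfix : ∀ g : G, irrComp (MulAut.conjNormal g) (et ξ) = et ξ ↔
        g ∈ T ∧ lamAct A g ξ = ξ := by
      intro g
      constructor
      · intro hg
        constructor
        · refine hcuniq _ ?_ (hLtriv _ ?_)
          · refine (mem_block_iff hP hcB hθc _).2 (sameBlock_trans hP ((mem_block_iff hP hcB hθc _).1 (hetc ξ)) ?_)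
            rw [← hg]
            exact sameBlock_irrComp _ (sameBlock_symm hP ((mem_block_iff hP hcB hθc _).1 (hetc ξ)))
          · show lamOf A C hAC hcent _ = 1
            rw [lamOf_conj, show lamOf A C hAC hcent θ = 1 from hLθ, MonoidHom.one_comp]
        · have e := congrArg L hg
          rw [show L (irrComp (MulAut.conjNormal g) (et ξ)) = _ from lamOf_conj (et ξ) g] at e
          refine MonoidHom.ext fun u => ?_
          have e2 := DFunLike.congr_fun e (MulAut.conjNormal g⁻¹ u)
          rw [hetL, show lamOf A C hAC hcent (et ξ) = ξ from hetL ξ] at e2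
          rw [lamAct_apply, ← e2]
          show ξ (MulAut.conjNormal g (MulAut.conjNormal g⁻¹ u)) = ξ u
          exact congrArg ξ (Subtype.ext (by simp [MulAut.conjNormal_apply, mul_assoc]))
      · rintro ⟨hgT, hgξ⟩
        have hmem' : irrComp (MulAut.conjNormal g) (et ξ) ∈ c := by
          refine (mem_block_iff hP hcB hθc _).2 ?_
          have := sameBlock_irrComp (MulAut.conjNormal g) ((mem_block_iff hP hcB hθc _).1 (hetc ξ))
          rwa [show irrComp (MulAut.conjNormal g) θ = θ from hgT] at this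
        have heq : (fun η : c => L η) ⟨_, hmem'⟩ = (fun η : c => L η) ⟨_, hetc ξ⟩ := by
          show L (irrComp (MulAut.conjNormal g) (et ξ)) = L (et ξ)
          rw [show L (irrComp (MulAut.conjNormal g) (et ξ)) = _ from lamOf_conj (et ξ) g,
            show L (et ξ) = ξ from hetL ξ, show lamOf A C hAC hcent (et ξ) = ξ from hetL ξ]
          refine MonoidHom.ext fun u => ?_
          show ξ (MulAut.conjNormal g u) = ξ u
          have e2 := DFunLike.congr_fun hgξ (MulAut.conjNormal g u)
          rw [lamAct_apply] at e2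
          rw [← e2]
          exact congrArg ξ (Subtype.ext (by simp [MulAut.conjNormal_apply, mul_assoc]))
        exact congrArg Subtype.val (hbij.1 heq)
    exact Nat.card_congr
      { toFun := fun g => ⟨(g.1 : G), (hfix _).2 ⟨g.1.2, g.2⟩⟩
        invFun := fun g => ⟨⟨g.1, ((hfix _).1 g.2).1⟩, ((hfix _).1 g.2).2⟩
        left_inv := fun _ => rfl
        right_inv := fun _ => rfl }
  -- the linear characters form an elementary abelian group
  have hexp : ∀ ξ : A →* ℂˣ, ξ ^ p = 1 := by
    obtain ⟨k, hk'⟩ := hAp.exists_card_eq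
    have hdvd : p ∣ Nat.card (A →* ℂˣ) := by
      rw [hΛc, hk']
      exact dvd_pow_self p fun e => hA1 (by rw [hk', e, pow_zero])
    obtain ⟨ζ, hζ⟩ := exists_prime_orderOf_dvd_card' p hdvd
    have hζ1 : ζ ≠ 1 := fun e => hp.ne_one (by rw [← hζ, e, orderOf_one])
    intro ξ
    rcases eq_or_ne ξ 1 with rfl | hξ
    · exact MonoidHom.ext fun u => by simp
    · obtain ⟨g, hg⟩ := htrans ζ ξ hζ1 hξ
      have hζp : ζ ^ p = 1 := by rw [← hζ]; exact pow_orderOf_eq_one ζ
      rw [← hg]
      refine MonoidHom.ext fun u => ?_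
      rw [MonoidHom.pow_apply, lamAct_apply, ← MonoidHom.pow_apply, hζp]
      rfl
  obtain ⟨a, ⟨e⟩⟩ := exists_coord (p := p) (V := Additive (A →* ℂˣ)) fun x =>
    congrArg Additive.ofMul (hexp x.toMul)
  have hpa : p ^ a = Nat.card A := by
    rw [← hΛc, ← card_space (p := p) (a := a)]
    exact Nat.card_congr (e.symm.toEquiv.trans Additive.toMul)
  let lin : T → Module.End (ZMod p) (Fin a → ZMod p) := fun g =>
    AddMonoidHom.toZModLinearMap p
      (AddMonoidHom.mk' (fun v => e (Additive.ofMul (lamAct A (g : G) (e.symm v).toMul))) fun v w => by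
        rw [map_add e.symm, toMul_add, map_mul, ofMul_mul, map_add])
  have hlin : ∀ (g : T) (v : Fin a → ZMod p),
      lin g v = e (Additive.ofMul (lamAct A (g : G) (e.symm v).toMul)) := fun g v => rfl
  let mh : T →* Matrix (Fin a) (Fin a) (ZMod p) :=
    { toFun := fun g => LinearMap.toMatrix' (lin g)
      map_one' := by
        rw [show lin 1 = 1 from LinearMap.ext fun v => by
          rw [hlin, OneMemClass.coe_one, map_one]; exact e.apply_symm_apply v]
        exact LinearMap.toMatrix'_id
      map_mul' := fun g h => by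
        rw [← LinearMap.toMatrix'_mul]
        congr 1
        refine LinearMap.ext fun v => ?_
        rw [Module.End.mul_apply, hlin, hlin, hlin, AddEquiv.symm_apply_apply, Subgroup.coe_mul,
          map_mul]
        rfl }
  let ψ : T →* GL (Fin a) (ZMod p) := mh.toHomUnits
  have hker : C' ≤ ψ.ker := by
    intro g hg
    refine MonoidHom.mem_ker.2 (Units.ext ?_)
    show LinearMap.toMatrix' (lin g) = 1
    rw [show lin g = 1 from LinearMap.ext fun v => by
      rw [hlin, show lamAct A (g : G) = 1 from MulEquiv.ext fun ξ => MonoidHom.ext fun u =>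
        congrArg ξ (Subtype.ext (by
          show ((MulAut.conjNormal (g : G)⁻¹ u : A) : G) = (u : G)
          rw [MulAut.conjNormal_apply, inv_inv,
            Subgroup.mem_centralizer_iff.1 (C.inv_mem (show (g : G) ∈ C from hg)) u u.2 |>.symm, mul_assoc, inv_mul_cancel,
            mul_one]))]
      exact e.apply_symm_apply v]
    exact LinearMap.toMatrix'_id
  let ρ : T ⧸ C' →* GL (Fin a) (ZMod p) := QuotientGroup.lift C' ψ hker
  have hact : ∀ (g : T) v, act ρ (g : T ⧸ C') v = lin g v := by
    intro g v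
    show Matrix.toLin' (LinearMap.toMatrix' (lin g)) v = lin g v
    rw [Matrix.toLin'_toMatrix']
  have hact' : ∀ (g : T) v, act ρ (g : T ⧸ C') v =
      e (Additive.ofMul (lamAct A (g : G) (e.symm v).toMul)) := fun g v => by rw [hact, hlin]
  -- the two characters over `θ`
  obtain ⟨ψ₁, hψ₁, hψ₁θ⟩ := exists_correspondent_in (T := T) (hNT := hCT) χ₁ hθ₁
  obtain ⟨ψ₂, hψ₂, hψ₂θ⟩ := exists_correspondent_in (T := T) (hNT := hCT) χ₂ hθ₂
  have e₁ := clifford_ind hI hψ₁θ hψ₁
  have e₂ := clifford_ind hI hψ₂θ hψ₂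
  let θ' : IrrCharacter C' := irrTransport (Subgroup.subgroupOfEquivOfLe hCT) θ
  have hinner : ∀ F : T → ℂ, classInner (fun n : C' => F n) (θ' : C' → ℂ) =
      classInner (resN T hCT F) (θ : C → ℂ) := fun F => by
    rw [← classInner_subgroupOf hCT (resN T hCT F) (θ : C → ℂ)]
    rfl
  have hinv : ∀ (g : T) (n : C'), (θ' : C' → ℂ) (MulAut.conjNormal g n) = (θ' : C' → ℂ) n := by
    intro g n
    have := congrFun (congrArg Subtype.val (show irrComp (MulAut.conjNormal (g : G)) θ = θ from g.2))
      (Subgroup.subgroupOfEquivOfLe hCT n)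
    rw [irrComp_apply] at this
    show (θ : C → ℂ) _ = (θ : C → ℂ) _
    rw [← this]
    exact congrArg _ (Subtype.ext (by rw [MulAut.conjNormal_apply]; rfl))
  have horb : cliffOrbit C' θ' = {θ'} := Finset.eq_singleton_iff_unique_mem.2
    ⟨self_mem_cliffOrbit θ', fun η hη => by
      obtain ⟨g, rfl⟩ := mem_cliffOrbit.1 hη
      exact Subtype.ext (funext fun n => hinv g n)⟩
  have hres : ∀ φ : IrrCharacter T, classInner (resN T hCT (φ : T → ℂ)) (θ : C → ℂ) ≠ 0 →
      ∃ a' : ℕ, 0 < a' ∧ ∀ n : C', (φ : T → ℂ) n = (a' : ℂ) * (θ' : C' → ℂ) n := by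
    intro φ hφ
    rw [← hinner] at hφ
    obtain ⟨a', ha'⟩ := classInner_natCast (isCharacter_comp C'.subtype (irr_isCharacter φ.2))
      (irr_isCharacter θ'.2)
    have ha'' : classInner (fun n : C' => (φ : T → ℂ) n) (θ' : C' → ℂ) = a' := ha'
    refine ⟨a', Nat.pos_of_ne_zero fun h0 => hφ (by rw [ha'', h0, Nat.cast_zero]), fun n => ?_⟩
    have := congrFun (clifford_restrict φ θ' hφ) n
    rw [horb, Finset.sum_singleton, ha''] at this
    exact this
  obtain ⟨a₁, hpos₁, hres₁⟩ := hres ψ₁ hψ₁θ
  obtain ⟨a₂, hpos₂, hres₂⟩ := hres ψ₂ hψ₂θ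
  have hOver : Over θ' ψ₁ ψ₂ a₁ a₂ :=
    { ne := fun he => hne21 (Subtype.ext (by rw [e₂.1, e₁.1, he]))
      inv := hinv
      pos1 := hpos₁
      pos2 := hpos₂
      res1 := hres₁
      res2 := hres₂
      only := fun φ hφ => by
        rw [hinner] at hφ
        obtain ⟨χ, hχ⟩ := exists_constituent_over T φ
        have e₃ := clifford_ind hI hφ hχ
        rcases honly χ e₃.2.1 with rfl | rfl
        · exact Or.inl (e₁.2.2 φ hφ hχ)
        · exact Or.inr (e₂.2.2 φ hφ hχ) }
  have hctx : Ctx ρ f a₁ a₂ (suppY C' ψ₁) :=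
    { inj := by
        rw [← MonoidHom.ker_eq_bot_iff, Subgroup.eq_bot_iff_forall]
        intro q hq
        obtain ⟨g, rfl⟩ := QuotientGroup.mk_surjective q
        have hq' : LinearMap.toMatrix' (lin g) = 1 := congrArg Units.val (MonoidHom.mem_ker.1 hq)
        have hl : lin g = 1 := LinearMap.toMatrix'.injective (hq'.trans LinearMap.toMatrix'_id.symm)
        refine (QuotientGroup.eq_one_iff g).2 (mem_centralizer_of_lamAct A hab (MulEquiv.ext fun ξ => ?_))
        have := LinearMap.congr_fun hl (e (Additive.ofMul ξ))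
        rw [hlin, AddEquiv.symm_apply_apply] at this
        exact Additive.ofMul.injective (e.injective this)
      cop := by rw [hEcard]; exact hpS
      trans := fun v w hv hw => by
        have hv' : (e.symm v).toMul ≠ 1 := fun h1 => hv (by
          have : e.symm v = 0 := h1
          simpa using congrArg e this)
        have hw' : (e.symm w).toMul ≠ 1 := fun h1 => hw (by
          have : e.symm w = 0 := h1
          simpa using congrArg e this)
        obtain ⟨g, hg⟩ := htrans _ _ hv' hw'
        refine ⟨(g : T ⧸ C'), ?_⟩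
        rw [hact', hg]
        exact e.apply_symm_apply w
      stab := fun v hv => by
        have hv' : (e.symm v).toMul ≠ 1 := fun h1 => hv (by
          have : e.symm v = 0 := h1
          simpa using congrArg e this)
        have hiff : ∀ g : T, act ρ (g : T ⧸ C') v = v ↔ lamAct A (g : G) (e.symm v).toMul = (e.symm v).toMul := by
          intro g
          rw [hact']
          constructor
          · intro h1
            have := congrArg e.symm h1
            rw [AddEquiv.symm_apply_apply] at this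
            exact congrArg Additive.toMul this
          · intro h1
            rw [h1]
            exact e.apply_symm_apply v
        have h1 := hstab _ hv'
        rw [Nat.card_congr (Equiv.subtypeEquivRight fun g => (hiff g).symm)] at h1
        have h2 := Nat.card_congr (QuotientGroup.preimageMkEquivSubgroupProdSet C'
          {q : T ⧸ C' | act ρ q v = v})
        rw [Nat.card_prod] at h2
        have h3 : Nat.card C' * Nat.card {q : T ⧸ C' // act ρ q v = v} = Nat.card C' * f ^ 2 := by
          rw [← show _ = Nat.card C' * Nat.card {q : T ⧸ C' // act ρ q v = v} from h2, hC'card, ← h1]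
          rfl
        exact Nat.eq_of_mul_eq_mul_left Nat.card_pos h3
      fpos := hf0
      dim := by
        refine Nat.pos_of_ne_zero fun h0 => hA1 ?_
        rw [← hpa, h0, pow_zero]
      two := hOver.two }
  rw [← hpa]
  exact hctx.pow_eq_three

end Cfsg.Agent.Char.KThree
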