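import Cfsg.Agent.Lib.Char.QuotientBlocks
import Cfsg.Agent.Lib.Char.SectionCount
import Cfsg.Agent.Lib.Char.BlockInter
import Cfsg.Agent.Lib.Char.CoverBlocks
import Cfsg.Agent.Lib.Char.NormalP
import Cfsg.Agent.Lib.Char.NormalDefectHeights
import Cfsg.Agent.Lib.Char.CentralDefect
import Cfsg.Agent.Lib.Char.SmallTIChar
import Cfsg.Agent.Lib.Char.GlaubermanOver
import Cfsg.Agent.Lib.Char.FongReynolds
import Cfsg.Agent.Lib.Perm.ClassBound.Stage
import Mathlib

/-!
# A block over an abelian normal defect group: tools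
-/

set_option autoImplicit false
set_option linter.unusedSectionVars false
set_option linter.style.haveILetI false

open Cfsg
open scoped ComplexConjugate

namespace Cfsg.Agent.Char.KThree

universe u

variable {G : Type u} [Group G] [Fintype G] {M : Ideal AlgInt} {p : ℕ}

/-- If a block has one character trivial on an abelian normal `p`-subgroup, its rank is one. -/
theorem rank_one_of_trivial_unique (hM : IsPModular p M) {B : Set (IrrCharacter G)} (hB : IsPBlock M B)
    (A : Subgroup G) [A.Normal] (hA : IsPGroup p A) (hab : ∀ a ∈ A, ∀ b ∈ A, a * b = b * a)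
    {χ₁ : IrrCharacter G} (huniq : ∀ χ ∈ B, (∀ u ∈ A, (χ : G → ℂ) u = (χ : G → ℂ) 1) → χ = χ₁) :
    blockRank p B = 1 := by
  classical
  have hP := pmod_prime hM
  have hp := hM.1
  haveI := Fact.mk hp
  haveI := Fintype.ofFinite (G ⧸ A)
  have hle : blockSpan p B ≤ Submodule.span ℂ {pRegularPart p (χ₁ : G → ℂ)} := by
    refine Submodule.span_le.2 ?_
    rintro _ ⟨θ, hθ, rfl⟩
    set F : G ⧸ A → ℂ := fun q => if h : ¬ p ∣ orderOf q then
      (θ : G → ℂ) (exists_regular_lift hp h).choose else 0 with hF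
    have hθc := isClassFunction_character (irr_isCharacter θ.2)
    have huniq' : ∀ {g g' : G}, ¬ p ∣ orderOf g → ¬ p ∣ orderOf g' →
        (QuotientGroup.mk g : G ⧸ A) = QuotientGroup.mk g' → (θ : G → ℂ) g = (θ : G → ℂ) g' := by
      intro g g' hg hg' e
      have hm : g' * g⁻¹ ∈ A := by
        rw [← QuotientGroup.eq_one_iff, QuotientGroup.mk_mul, QuotientGroup.mk_inv, e, mul_inv_cancel]
      obtain ⟨k, -, hk⟩ := Perm.ClassBound.conj_of_coset hA hab (v := g)
        (fun k hk => Subgroup.Normal.conj_mem ‹_› k hk g) hm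
        ((hp.coprime_iff_not_dvd.2 hg).symm)
        (by rw [inv_mul_cancel_right]; exact (hp.coprime_iff_not_dvd.2 hg').symm)
      rw [inv_mul_cancel_right] at hk
      rw [← hk, hθc]
    have hFv : ∀ g : G, ¬ p ∣ orderOf g → F (QuotientGroup.mk g) = (θ : G → ℂ) g := by
      intro g hg
      have hq : ¬ p ∣ orderOf (QuotientGroup.mk g : G ⧸ A) :=
        fun h => hg (h.trans (orderOf_map_dvd (QuotientGroup.mk' A) g))
      obtain ⟨h1, h2⟩ := (exists_regular_lift hp hq).choose_spec
      simp only [hF, dif_pos hq]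
      exact huniq' h1 hg h2
    have hFc : IsClassFunction (G ⧸ A) F := by
      intro a k
      obtain ⟨k', rfl⟩ := QuotientGroup.mk_surjective k
      have ho : orderOf (QuotientGroup.mk k' * a * (QuotientGroup.mk k' : G ⧸ A)⁻¹) = orderOf a := by
        rw [← MulAut.conj_apply, MulEquiv.orderOf_eq]
      by_cases ha : p ∣ orderOf a
      · simp only [hF, ho, ha, not_true, dite_false]
      · obtain ⟨g, hg, rfl⟩ := exists_regular_lift hp ha
        have ho' : orderOf (k' * g * k'⁻¹) = orderOf g := by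
          rw [← MulAut.conj_apply, MulEquiv.orderOf_eq]
        rw [← QuotientGroup.mk_mul, ← QuotientGroup.mk_inv, ← QuotientGroup.mk_mul,
          hFv g hg, hFv _ (ho'.symm ▸ hg)]
        exact hθc g k'
    have hexp : pRegularPart p (θ : G → ℂ) = ∑ ψ : IrrCharacter (G ⧸ A),
        classInner F (ψ : G ⧸ A → ℂ) • pRegularPart p (inflChar A ψ : G → ℂ) := by
      funext g
      rw [Finset.sum_apply]
      simp only [pRegularPart_eq_mul, Pi.smul_apply, Pi.mul_apply, smul_eq_mul, ← mul_assoc]
      rw [← Finset.sum_mul]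
      by_cases hg : p ∣ orderOf g
      · rw [regInd_of_sing hg, mul_zero, mul_zero]
      · have h := congrFun (classFun_expansion hFc) (QuotientGroup.mk g)
        rw [Finset.sum_apply] at h
        rw [← hFv g hg, h]
        rfl
    have hproj : blockPart B (pRegularPart p (θ : G → ℂ)) = pRegularPart p (θ : G → ℂ) := by
      rw [blockPart_blockSpan hM hB hB (Submodule.subset_span ⟨θ, hθ, rfl⟩), if_pos rfl]
    show pRegularPart p (θ : G → ℂ) ∈ _
    rw [← hproj, hexp, ← blockPartL_apply, map_sum]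
    refine Submodule.sum_mem _ fun ψ _ => ?_
    rw [map_smul, blockPartL_apply]
    refine Submodule.smul_mem _ _ ?_
    rw [blockPart_blockSpan hM (isPBlock_blockOf M (inflChar A ψ)) hB
      (Submodule.subset_span ⟨_, self_mem_blockOf hP _, rfl⟩)]
    split_ifs with h
    · have e : inflChar A ψ = χ₁ := huniq _ (h.symm ▸ self_mem_blockOf hP _) fun u hu => by
        show (ψ : G ⧸ A → ℂ) (QuotientGroup.mk u) = (ψ : G ⧸ A → ℂ) (QuotientGroup.mk 1)
        rw [(QuotientGroup.eq_one_iff u).2 hu]
        rfl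
      rw [e]
      exact Submodule.mem_span_singleton_self _
    · exact Submodule.zero_mem _
  have hpos : 1 ≤ blockRank p B := by
    obtain ⟨χ, hχ⟩ := block_nonempty hP hB
    have hne : pRegularPart p (χ : G → ℂ) ≠ 0 := fun h => by
      have := congrFun h 1
      simp [pRegularPart, IsPRegular, hp.ne_one] at this
      exact irr_one_ne_zero χ.2 this
    rw [← finrank_span_singleton (K := ℂ) hne]
    exact Submodule.finrank_mono ((Submodule.span_singleton_le_iff_mem _ _).2
      (Submodule.subset_span ⟨χ, hχ, rfl⟩))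
  refine le_antisymm ?_ hpos
  refine (Submodule.finrank_mono hle).trans ?_
  exact (finrank_span_le_card _).trans (by simp)

/-- Above a centralizer of a normal `p`-subgroup the blocks below determine the blocks above. -/
theorem sameBlock_over (hM : IsPModular p M) (A : Subgroup G) [A.Normal] (hA : IsPGroup p A)
    (C : Subgroup G) [C.Normal] [Fintype C] (hC : C = Subgroup.centralizer (A : Set G))
    {χ χ' : IrrCharacter G} {θ η : IrrCharacter C}
    (hθ : classInner (fun n : C => (χ : G → ℂ) n) (θ : C → ℂ) ≠ 0)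
    (hη : classInner (fun n : C => (χ' : G → ℂ) n) (η : C → ℂ) ≠ 0)
    (hs : SameBlock M (θ : C → ℂ) (η : C → ℂ)) : SameBlock M (χ : G → ℂ) (χ' : G → ℂ) := by
  classical
  have hMp := pmod_prime hM
  refine sameBlock_of_lam hMp fun f hf => ?_
  set f1 : C → ℂ := fun n => f n with hf1
  have hinv : GInvariant C f1 := fun g n => by
    simp only [hf1, MulAut.conjNormal_apply]
    exact hf.1 _ g
  have hint := intClassFun_extend hMp hinv (fun n => hf.2 n)
  set f2 : G → ℂ := fun x => f x - extendByZero C f1 x with hf2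
  have h2 : IsIntClassFun M f2 := ⟨fun a k => by simp only [hf2]; rw [hf.1 a k, hint.1 a k],
    fun x => memLR_sub hMp (hf.2 x) (hint.2 x)⟩
  have hz : ∀ x ∈ Subgroup.centralizer (A : Set G), f2 x = 0 := fun x hx => by
    simp only [hf2]
    rw [extendByZero_mem C f1 (hC ▸ hx), sub_self]
  have hsplit : ∀ ψ : IrrCharacter G,
      lam (ψ : G → ℂ) f = lam (ψ : G → ℂ) (extendByZero C f1) + lam (ψ : G → ℂ) f2 := by
    intro ψ
    simp only [lam, ← add_div, ← Finset.sum_add_distrib, hf2]
    congr 1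
    exact Finset.sum_congr rfl fun x _ => by ring
  have hlow : MemLocalIdeal M (lam (θ : C → ℂ) f1 - lam (η : C → ℂ) f1) :=
    lam_congr hMp θ.2 η.2 hs (classFun_of_ginv hinv) (fun n => hf.2 n)
  rw [hsplit χ, hsplit χ', lam_extend_of_constituent hθ hinv, lam_extend_of_constituent hη hinv]
  have e : lam (θ : C → ℂ) f1 + lam (χ : G → ℂ) f2 - (lam (η : C → ℂ) f1 + lam (χ' : G → ℂ) f2) =
      (lam (θ : C → ℂ) f1 - lam (η : C → ℂ) f1) + (lam (χ : G → ℂ) f2 - lam (χ' : G → ℂ) f2) := by ring
  rw [e]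
  exact memLI_add hMp hlow (memLI_sub hMp (lam_congr_centralizer hM A hA χ h2 hz)
    (lam_congr_centralizer hM A hA χ' h2 hz))

section Lam

variable (A : Subgroup G) (C : Subgroup G) [Fintype C]

/-- An irreducible of a subgroup centralizing `A` is linear on `A`. -/
theorem exists_lamOf (hAC : A ≤ C) (hcent : ∀ u ∈ A, ∀ c ∈ C, u * c = c * u) (η : IrrCharacter C) :
    ∃ ξ : A →* ℂˣ, ∀ (u : A) (c : C),
      (η : C → ℂ) (Subgroup.inclusion hAC u * c) = (ξ u : ℂ) * (η : C → ℂ) c := by
  choose a ha using fun u : A => exists_central_value η (Subgroup.inclusion hAC u) fun c =>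
    Subtype.ext (hcent u u.2 c c.2)
  have hne := irr_one_ne_zero η.2
  have h1 : a 1 = 1 := by
    have := ha 1 1
    rw [map_one, one_mul] at this
    exact (mul_eq_right₀ hne).1 this.symm
  have hmul : ∀ u v, a (u * v) = a u * a v := fun u v => by
    refine mul_right_cancel₀ hne ?_
    rw [← ha (u * v), map_mul, mul_assoc, ha u, ha v, mul_assoc]
  exact ⟨MonoidHom.toHomUnits { toFun := a, map_one' := h1, map_mul' := hmul }, fun u c => ha u c⟩

/-- The linear character of `A` under an irreducible of `C`. -/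
noncomputable def lamOf (hAC : A ≤ C) (hcent : ∀ u ∈ A, ∀ c ∈ C, u * c = c * u) (η : IrrCharacter C) :
    A →* ℂˣ := (exists_lamOf A C hAC hcent η).choose

variable {A C} {hAC : A ≤ C} {hcent : ∀ u ∈ A, ∀ c ∈ C, u * c = c * u}

theorem lamOf_spec (η : IrrCharacter C) (u : A) (c : C) :
    (η : C → ℂ) (Subgroup.inclusion hAC u * c) = (lamOf A C hAC hcent η u : ℂ) * (η : C → ℂ) c :=
  (exists_lamOf A C hAC hcent η).choose_spec u c

theorem lamOf_eq {η : IrrCharacter C} {ξ : A →* ℂˣ}
    (h : ∀ u : A, (η : C → ℂ) (Subgroup.inclusion hAC u) = (ξ u : ℂ) * (η : C → ℂ) 1) :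
    lamOf A C hAC hcent η = ξ := by
  refine MonoidHom.ext fun u => Units.ext (mul_right_cancel₀ (irr_one_ne_zero η.2) ?_)
  rw [← h u, ← lamOf_spec η u 1, mul_one]

variable [A.Normal] [C.Normal]

theorem lamOf_conj (η : IrrCharacter C) (g : G) :
    lamOf A C hAC hcent (irrComp (MulAut.conjNormal g) η) =
      (lamOf A C hAC hcent η).comp (MulAut.conjNormal g : A ≃* A).toMonoidHom := by
  refine lamOf_eq fun u => ?_
  rw [irrComp_apply, irrComp_apply, map_one,
    show MulAut.conjNormal g (Subgroup.inclusion hAC u) =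
      Subgroup.inclusion hAC (MulAut.conjNormal g u) * 1 from
      Subtype.ext (by simp [MulAut.conjNormal_apply]), lamOf_spec]
  rfl

theorem lamOf_eq_one_iff {χ : IrrCharacter G} {η : IrrCharacter C}
    (h : classInner (fun n : C => (χ : G → ℂ) n) (η : C → ℂ) ≠ 0) :
    lamOf A C hAC hcent η = 1 ↔ ∀ u ∈ A, (χ : G → ℂ) u = (χ : G → ℂ) 1 := by
  classical
  constructor
  · intro he u hu
    have hcl := fun n => congrFun (clifford_restrict χ η h) n
    have e1 := hcl (Subgroup.inclusion hAC ⟨u, hu⟩)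
    have e2 := hcl 1
    simp only [Pi.smul_apply, smul_eq_mul, Finset.sum_apply, OneMemClass.coe_one,
      Subgroup.coe_inclusion] at e1 e2
    rw [e1, e2]
    congr 1
    refine Finset.sum_congr rfl fun ψ hψ => ?_
    obtain ⟨g, rfl⟩ := mem_cliffOrbit.1 hψ
    have := lamOf_spec (hAC := hAC) (hcent := hcent) (irrComp (MulAut.conjNormal g) η) ⟨u, hu⟩ 1
    rw [mul_one, lamOf_conj, he] at this
    rw [this]
    simp
  · intro htriv
    refine MonoidHom.ext fun u => ?_
    have hshift : classInner (fun n : C => (χ : G → ℂ) n) (η : C → ℂ) =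
        conj (lamOf A C hAC hcent η u : ℂ) * classInner (fun n : C => (χ : G → ℂ) n) (η : C → ℂ) := by
      simp only [classInner]
      rw [mul_left_comm]
      congr 1
      rw [Finset.mul_sum]
      refine (Fintype.sum_equiv (Equiv.mulLeft (Subgroup.inclusion hAC u)) _ _ fun c => ?_).symm
      simp only [Equiv.coe_mulLeft, Subgroup.coe_mul, Subgroup.coe_inclusion]
      rw [char_mul_of_ker (irr_isCharacter χ.2) (htriv u u.2), lamOf_spec (hcent := hcent), map_mul]
      ring
    have := (mul_eq_right₀ h).1 hshift.symm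
    refine Units.ext ?_
    rw [MonoidHom.one_apply, Units.val_one, ← Complex.conj_conj (lamOf A C hAC hcent η u : ℂ), this, map_one]

end Lam

/-- The squares of the multiplicities over a character fill the index. -/
theorem over_sq {C : Subgroup G} [C.Normal] [Fintype C] (θ : IrrCharacter C) :
    ∃ m : IrrCharacter G → ℕ,
      (∀ χ : IrrCharacter G, classInner (fun n : C => (χ : G → ℂ) n) (θ : C → ℂ) = m χ) ∧
      (∀ χ : IrrCharacter G, m χ ≠ 0 → deg (χ : G → ℂ) = m χ * ((cliffOrbit C θ).card * deg (θ : C → ℂ))) ∧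
      (∑ χ, m χ ^ 2) * (cliffOrbit C θ).card = C.index := by
  classical
  choose m hm using fun χ : IrrCharacter G =>
    classInner_natCast (isCharacter_comp C.subtype (irr_isCharacter χ.2)) (irr_isCharacter θ.2)
  have hm' : ∀ χ : IrrCharacter G, classInner (fun n : C => (χ : G → ℂ) n) (θ : C → ℂ) = m χ := hm
  have hθ1 := char_one_eq_deg (irr_isCharacter θ.2)
  have hdeg : ∀ χ, m χ ≠ 0 → deg (χ : G → ℂ) = m χ * ((cliffOrbit C θ).card * deg (θ : C → ℂ)) := by
    intro χ h0
    have hcl := congrFun (clifford_restrict χ θ (by rw [hm']; exact_mod_cast h0)) 1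
    simp only [Pi.smul_apply, smul_eq_mul, Finset.sum_apply, OneMemClass.coe_one] at hcl
    rw [Finset.sum_congr rfl (g := fun _ => (deg (θ : C → ℂ) : ℂ)) (fun φ hφ => by
        obtain ⟨g, rfl⟩ := mem_cliffOrbit.mp hφ
        rw [irrComp_apply, map_one, hθ1]),
      Finset.sum_const, nsmul_eq_mul, char_one_eq_deg (irr_isCharacter χ.2), hm'] at hcl
    exact_mod_cast hcl
  refine ⟨m, hm', hdeg, ?_⟩
  have hexp := congrFun (classFun_expansion (isClassFunction_indFun C (θ : C → ℂ))) 1
  rw [indFun_one, Finset.sum_apply, hθ1, Finset.sum_congr rfl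
    (g := fun χ : IrrCharacter G => ((m χ ^ 2 * ((cliffOrbit C θ).card * deg (θ : C → ℂ)) : ℕ) : ℂ))
    (fun χ _ => by
      rw [Pi.smul_apply, smul_eq_mul, frobenius _ _ (isClassFunction_character (irr_isCharacter χ.2)),
        ← classInner_symm, hm', Complex.conj_natCast, char_one_eq_deg (irr_isCharacter χ.2)]
      rcases Nat.eq_zero_or_pos (m χ) with h0 | h0
      · simp [h0]
      · rw [hdeg χ h0.ne']; push_cast; ring), ← Nat.cast_sum, ← Finset.sum_mul] at hexp
  have he : C.index * deg (θ : C → ℂ) = (∑ χ, m χ ^ 2) * ((cliffOrbit C θ).card * deg (θ : C → ℂ)) := by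
    exact_mod_cast hexp
  rw [← mul_assoc] at he
  exact (Nat.eq_of_mul_eq_mul_right (deg_pos θ.2) he).symm

end Cfsg.Agent.Char.KThree
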