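import Cfsg.Agent.Lib.Char.KThree.Setting
import Mathlib

/-!
# The plane over three elements

A group of order eight regular on the nonzero vectors has no two characters of degree two over an invariant
one: the twist of conjugation on a cyclic subgroup of index two always fixes a twist.
-/

set_option autoImplicit false
set_option linter.unusedSectionVars false
set_option linter.style.haveILetI false

namespace Cfsg.Agent.Char.KThree

universe u

variable {E : Type u} [Group E] [Finite E] {ρ : E →* GL (Fin 2) (ZMod 3)} {f a₁ a₂ : ℕ} {Y : Set E}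

theorem Ctx.not_two_three [Fact (Nat.Prime 3)] (h : Ctx ρ f a₁ a₂ Y) : False := by
  classical
  have hGL : Nat.card (GL (Fin 2) (ZMod 3)) = 48 := by
    rw [Matrix.card_GL_field]; simp [Fin.prod_univ_two]
  have hcard := h.card_eq
  have hf : f = 1 := by
    have hd := h.dvd_GL
    rw [hGL, hcard] at hd
    have h6 : f ^ 2 ∣ 6 := Nat.dvd_of_mul_dvd_mul_left (by norm_num : 0 < 3 ^ 2 - 1) hd
    have hle : f ≤ 2 := by
      have := Nat.le_of_dvd (by norm_num) h6
      nlinarith
    have := h.fpos
    interval_cases f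
    · rfl
    · norm_num at h6
  rw [hf] at hcard
  norm_num at hcard
  have hsq := h.two.sq
  rw [hcard] at hsq
  have hle₁ : a₁ ≤ 2 := by nlinarith
  have hle₂ : a₂ ≤ 2 := by nlinarith
  obtain ⟨ha₁, ha₂⟩ : a₁ = 2 ∧ a₂ = 2 := by
    have := h.two.pos1; have := h.two.pos2
    interval_cases a₁ <;> interval_cases a₂ <;> first | exact ⟨rfl, rfl⟩ | norm_num at hsq
  have hncyc : ¬ IsCyclic E := fun hc => by have := (h.two.top hc).1; omega
  have hord : ∀ g : E, orderOf g = 1 ∨ orderOf g = 2 ∨ orderOf g = 4 := by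
    intro g
    have hd : orderOf g ∣ 2 ^ 3 := by rw [show 2 ^ 3 = Nat.card E by rw [hcard]; norm_num]; exact orderOf_dvd_natCard g
    obtain ⟨k, hk, he⟩ := (Nat.dvd_prime_pow Nat.prime_two).1 hd
    interval_cases k
    · exact Or.inl (by simpa using he)
    · exact Or.inr (Or.inl (by simpa using he))
    · exact Or.inr (Or.inr (by simpa using he))
    · exact absurd (isCyclic_of_orderOf_eq_card g (by rw [he, hcard]; norm_num)) hncyc
  have hinv : ∀ g k : E, g * g = 1 → g ≠ 1 → k * k = 1 → k ≠ 1 → g = k := fun g k h1 h2 h3 h4 =>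
    act_inj ρ h.inj ((h.invol_neg (by norm_num) hf h1 h2).trans (h.invol_neg (by norm_num) hf h3 h4).symm)
  obtain ⟨i, hi⟩ : ∃ i : E, orderOf i = 4 := by
    by_contra hno
    push Not at hno
    have hsq1 : ∀ g : E, g * g = 1 := fun g => by
      rw [← pow_two]
      refine orderOf_dvd_iff_pow_eq_one.1 ?_
      rcases hord g with e | e | e
      · simp [e]
      · simp [e]
      · exact absurd e (hno g)
    obtain ⟨g, hg⟩ : ∃ g : E, g ≠ 1 := by
      haveI := Fintype.ofFinite E
      by_contra hall
      push Not at hall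
      have : Nat.card E = 1 := Nat.card_eq_one_iff_unique.2
        ⟨⟨fun x z => (hall x).trans (hall z).symm⟩, ⟨1⟩⟩
      omega
    haveI := Fintype.ofFinite E
    have hall : (Finset.univ : Finset E) ⊆ {1, g} := fun k _ => by
      rcases eq_or_ne k 1 with e | e
      · simp [e]
      · simp [hinv g k (hsq1 g) hg (hsq1 k) e]
    have := (Finset.card_le_card hall).trans Finset.card_le_two
    rw [Finset.card_univ, ← Nat.card_eq_fintype_card, hcard] at this
    omega
  set Q := Subgroup.zpowers i
  have hQc : Nat.card Q = 4 := by rw [Nat.card_zpowers, hi]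
  have hQi : Q.index = 2 := by
    have := Q.card_mul_index
    rw [hQc, hcard] at this
    omega
  haveI hQn : Q.Normal := Subgroup.normal_of_index_eq_two hQi
  set z := i * i with hz
  have hz1 : z ≠ 1 := fun e => by
    have := orderOf_dvd_of_pow_eq_one (show i ^ 2 = 1 by rw [pow_two]; exact e)
    rw [hi] at this
    norm_num at this
  have hzz : z * z = 1 := by
    have := pow_orderOf_eq_one i
    rw [hi] at this
    rw [hz, ← this]
    simp [pow_succ, mul_assoc]
  have hcentral : ∀ g : E, g * z * g⁻¹ = z := fun g => hinv _ _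
    (by rw [show g * z * g⁻¹ * (g * z * g⁻¹) = g * (z * z) * g⁻¹ by group, hzz]; group)
    (fun e => hz1 (conj_eq_one_iff.1 e)) hzz hz1
  have hfour : ∀ g : E, orderOf g = 4 → g * g = z := fun g hg => hinv _ _
    (by
      have := pow_orderOf_eq_one g
      rw [hg] at this
      rw [← this]; simp [pow_succ, mul_assoc])
    (fun e => by
      have := orderOf_dvd_of_pow_eq_one (show g ^ 2 = 1 by rw [pow_two]; exact e)
      rw [hg] at this
      norm_num at this) hzz hz1
  have hzQ : z ∈ Q := Q.mul_mem (Subgroup.mem_zpowers i) (Subgroup.mem_zpowers i)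
  -- the class is the central involution
  have hzY : z ∈ Y := by
    by_contra hzY
    have hmeet : ∀ g : E, orderOf g = 4 → ∃ q ∈ Subgroup.zpowers g, q ∈ Y := by
      intro g hg
      by_contra hno
      push Not at hno
      have hd := (h.two.dvd_of_disjoint _ inferInstance hno).1
      rw [Nat.card_zpowers, hg, ha₁] at hd
      norm_num at hd
    obtain ⟨q, hqQ, hqY⟩ := hmeet i hi
    obtain ⟨j, hjQ⟩ : ∃ j : E, j ∉ Q := by
      by_contra hall
      push Not at hall
      have : Q = ⊤ := eq_top_iff.2 fun x _ => hall x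
      rw [this, Subgroup.index_top] at hQi
      omega
    have hj4 : orderOf j = 4 := by
      rcases hord j with e | e | e
      · exact absurd (orderOf_eq_one_iff.1 e ▸ Q.one_mem) hjQ
      · exact absurd ((hinv j z (by rw [← pow_two, ← e, pow_orderOf_eq_one])
          (fun e' => hjQ (e' ▸ Q.one_mem)) hzz hz1) ▸ hzQ) hjQ
      · exact e
    obtain ⟨q', hq'j, hq'Y⟩ := hmeet j hj4
    obtain ⟨g, hg⟩ := isConj_iff.1 ((h.two.mem_iff q hqY q').1 hq'Y)
    have hq'Q : q' ∈ Q := hg ▸ hQn.conj_mem q hqQ g
    obtain ⟨m, hm⟩ := (mem_powers_iff_mem_zpowers (x := j)).2 hq'j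
    simp only at hm
    have hm2 : j ^ (2 : ℕ) = z := by rw [pow_two]; exact hfour j hj4
    rcases Nat.even_or_odd m with ⟨c, hc⟩ | ⟨c, hc⟩
    · rw [hc, ← two_mul, pow_mul, hm2] at hm
      rcases Nat.even_or_odd c with ⟨d, hd⟩ | ⟨d, hd⟩
      · rw [hd, ← two_mul, pow_mul, pow_two, hzz, one_pow] at hm
        exact h.two.one_notMem (hm.symm ▸ hq'Y)
      · rw [hd, pow_succ, pow_mul, pow_two, hzz, one_pow, one_mul] at hm
        exact hzY (hm.symm ▸ hq'Y)
    · rw [hc, pow_succ, pow_mul, hm2] at hm
      exact hjQ ((Q.mul_mem_cancel_left (Q.pow_mem hzQ c)).1 (hm.symm ▸ hq'Q))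
  obtain ⟨j, hjQ⟩ : ∃ j : E, j ∉ Q := by
    by_contra hall
    push Not at hall
    have : Q = ⊤ := eq_top_iff.2 fun x _ => hall x
    rw [this, Subgroup.index_top] at hQi
    omega
  haveI := Char.finite_hom_units Q
  haveI := Fintype.ofFinite (Q →* ℂˣ)
  obtain ⟨n, n', -, -, h₁, -, -, hconj⟩ := h.two.cyc Q inferInstance
  have hw : ∀ q ∈ Q, j * q * j⁻¹ ∈ Q := fun q hq => hQn.conj_mem q hq j
  obtain ⟨l₀, hl₀, -, hfree⟩ := hconj j hw
  have hnofix := hfree hQi hjQ (by omega) (by omega)
  set i' : Q := ⟨i, Subgroup.mem_zpowers i⟩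
  set z' : Q := ⟨z, hzQ⟩
  have hz' : z' = i' ^ 2 := Subtype.ext (by rw [Subgroup.coe_pow, pow_two])
  have hne : phi n z' ≠ 0 := (h₁ z' fun e => hz1 (congrArg Subtype.val e)).2 hzY
  have hcz : conjHom Q j hw z' = z' := Subtype.ext (hcentral j)
  have hl0z : (l₀ z' : ℂ) = 1 := by
    have hbij : Function.Bijective (tau Q j hw l₀) := by
      refine (Finite.injective_iff_bijective).1 fun l l' he => ?_
      simp only [tau, mul_left_inj] at he
      have hsurj : Function.Surjective (conjHom Q j hw) :=
        (Finite.injective_iff_surjective).1 fun x z hab => Subtype.ext (by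
          simpa using congrArg Subtype.val hab)
      exact MonoidHom.ext fun x => by
        obtain ⟨x, rfl⟩ := hsurj x
        exact DFunLike.congr_fun he x
    have e : phi n z' = (l₀ z' : ℂ) * phi n z' := by
      conv_lhs => rw [phi, ← (Equiv.ofBijective _ hbij).sum_comp]
      rw [phi, Finset.mul_sum]
      refine Finset.sum_congr rfl fun l _ => ?_
      simp only [Equiv.ofBijective_apply]
      rw [hl₀]
      simp only [tau, MonoidHom.mul_apply, MonoidHom.comp_apply, Units.val_mul, hcz]
      ring
    exact (mul_eq_right₀ hne).1 e.symm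
  -- conjugation inverts the generator
  have hji : conjHom Q j hw i' = i'⁻¹ := by
    apply Subtype.ext
    have h4 : orderOf (j * i * j⁻¹) = 4 := by
      rw [← MulAut.conj_apply, MulEquiv.orderOf_eq, hi]
    obtain ⟨m, hm⟩ := (mem_powers_iff_mem_zpowers (x := i)).2 (hw i (Subgroup.mem_zpowers i))
    simp only at hm
    show j * i * j⁻¹ = i⁻¹
    rw [← hm, ← pow_mod_orderOf, hi] at h4 ⊢
    have hm4 : m % 4 < 4 := Nat.mod_lt _ (by norm_num)
    have hinv3 : i ^ 3 = i⁻¹ := by
      refine eq_inv_of_mul_eq_one_left ?_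
      rw [← pow_succ, show 3 + 1 = orderOf i from hi.symm, pow_orderOf_eq_one]
    interval_cases hc : m % 4
    · simp at h4
    · exfalso
      rw [← pow_mod_orderOf, hi, hc, pow_one] at hm
      have hcomm : j * i = i * j := by
        have := congrArg (· * j) hm.symm
        simpa [mul_assoc] using this
      -- then the group is abelian with one involution
      have hj4 : orderOf j = 4 := by
        rcases hord j with e | e | e
        · exact absurd (orderOf_eq_one_iff.1 e ▸ Q.one_mem) hjQ
        · exact absurd ((hinv j z (by rw [← pow_two, ← e, pow_orderOf_eq_one])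
            (fun e' => hjQ (e' ▸ Q.one_mem)) hzz hz1) ▸ hzQ) hjQ
        · exact e
      have hji : (j * i) * (j * i) = 1 := by
        rw [show (j * i) * (j * i) = (j * j) * (i * i) by
          rw [mul_assoc, ← mul_assoc i, ← hcomm]; simp [mul_assoc], hfour j hj4, ← hz, hzz]
      rcases eq_or_ne (j * i) 1 with e | e
      · exact hjQ (eq_inv_of_mul_eq_one_left e ▸ Q.inv_mem (Subgroup.mem_zpowers i))
      · have := hinv _ _ hji e hzz hz1
        exact hjQ ((Q.mul_mem_cancel_right (Subgroup.mem_zpowers i)).1 (this ▸ hzQ))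
    · exfalso
      rw [orderOf_pow' _ (by norm_num), hi] at h4
      norm_num at h4
    · exact hinv3
  -- so some twist is fixed
  have hpm : ∀ q : Q, ∃ k : ℕ, q = i' ^ k := fun q => by
    obtain ⟨m, hm⟩ := (mem_powers_iff_mem_zpowers (x := i)).2 q.2
    exact ⟨m, Subtype.ext (by simpa using hm.symm)⟩
  have hext : ∀ l l' : Q →* ℂˣ, l i' = l' i' → l = l' := fun l l' e => MonoidHom.ext fun q => by
    obtain ⟨k, rfl⟩ := hpm q
    rw [map_pow, map_pow, e]
  have hcase : (l₀ i' : ℂ) = 1 ∨ (l₀ i' : ℂ) = -1 := by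
    rw [hz', map_pow, Units.val_pow_eq_pow_val, pow_two] at hl0z
    exact mul_self_eq_one_iff.1 hl0z
  rcases hcase with e | e
  · refine hnofix 1 (hext _ _ ?_)
    simp only [tau, MonoidHom.mul_apply, MonoidHom.comp_apply, MonoidHom.one_apply, one_mul]
    exact Units.ext e
  · have hgen : ∀ q : Q, q ∈ Subgroup.zpowers i' := fun q => by
      obtain ⟨k, rfl⟩ := hpm q
      exact Subgroup.pow_mem _ (Subgroup.mem_zpowers i') k
    set I : ℂˣ := Units.mk0 Complex.I Complex.I_ne_zero
    have hI : orderOf I ∣ orderOf i' := by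
      rw [← Subgroup.orderOf_coe, show ((i' : Q) : E) = i from rfl, hi]
      refine orderOf_dvd_of_pow_eq_one (Units.ext ?_)
      simp [I, Complex.I_pow_four]
    set l : Q →* ℂˣ := monoidHomOfForallMemZpowers hgen hI
    have hli : l i' = I := monoidHomOfForallMemZpowers_apply_gen hgen hI
    refine hnofix l (hext _ _ ?_)
    simp only [tau, MonoidHom.mul_apply, MonoidHom.comp_apply, hji, map_inv, hli]
    refine Units.ext ?_
    rw [Units.val_mul, e]
    simp [I]

end Cfsg.Agent.Char.KThree
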