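import Cfsg.Agent.Lib.Char.KThree.Linear
import Mathlib

/-!
# Commuting involutions and semilinear planes

There are at most `2 ^ n` commuting involutions in dimension `n`; over the field of three elements the
centralizer of a square root of `-1` and a proper involution in dimension four is commutative.
-/

set_option autoImplicit false
set_option linter.unusedSectionVars false

namespace Cfsg.Agent.Char.KThree

open Module

variable {p : ℕ} [Fact p.Prime]

theorem two_smul_eq_zero (hp : p ≠ 2) {V : Type*} [AddCommGroup V] [Module (ZMod p) V] {v : V}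
    (h : v + v = 0) : v = 0 := by
  rw [← two_smul (ZMod p) v, smul_eq_zero] at h
  refine h.resolve_left fun hd => ?_
  rw [show (2 : ZMod p) = ((2 : ℕ) : ZMod p) from rfl, ZMod.natCast_eq_zero_iff] at hd
  exact hp ((Nat.prime_dvd_prime_iff_eq Fact.out Nat.prime_two).1 hd)

open scoped Classical in
theorem card_invol_le (hp : p ≠ 2) : ∀ (n : ℕ) (V : Type) [AddCommGroup V] [Module (ZMod p) V]
    [Module.Finite (ZMod p) V], finrank (ZMod p) V ≤ n → ∀ S : Finset (Module.End (ZMod p) V),
    (∀ s ∈ S, ∀ t ∈ S, Commute s t) → (∀ s ∈ S, s * s = 1) → S.card ≤ 2 ^ n := by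
  intro n
  induction n using Nat.strong_induction_on with
  | _ n ihd =>
  rcases n with _ | n
  ·
    intro V _ _ _ hn S _ _
    haveI : Subsingleton V := finrank_zero_iff.1 (Nat.le_zero.1 hn)
    rw [pow_zero]
    exact Finset.card_le_one.2 fun a _ b _ => Subsingleton.elim a b
  ·
    intro V _ _ _ hn S hc hs
    by_cases h : ∀ s ∈ S, s = 1 ∨ s = -1
    · refine (Finset.card_le_card (t := {1, -1}) fun s hs' => ?_).trans
        (Finset.card_le_two.trans ?_)
      · rcases h s hs' with e | e <;> simp [e]
      · exact Nat.le_self_pow n.succ_ne_zero 2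
    push Not at h
    obtain ⟨s₀, hs₀, h1, h2⟩ := h
    set P := LinearMap.ker (s₀ - 1)
    set N := LinearMap.ker (s₀ + 1)
    have hsum : ∀ v : V, ∃ x ∈ P, ∃ y ∈ N, v + v = x + y := fun v => by
      refine ⟨v + s₀ v, ?_, v - s₀ v, ?_, by abel⟩ <;>
        simp only [P, N, LinearMap.mem_ker, LinearMap.sub_apply, LinearMap.add_apply,
          Module.End.one_apply, map_add, map_sub]
      · rw [← Module.End.mul_apply, hs s₀ hs₀, Module.End.one_apply]; abel
      · rw [← Module.End.mul_apply, hs s₀ hs₀, Module.End.one_apply]; abel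
    have hP : P ≠ ⊤ := fun e => h1 (sub_eq_zero.1 (LinearMap.ker_eq_top.1 e))
    have hN : N ≠ ⊤ := fun e => h2 (eq_neg_of_add_eq_zero_left (LinearMap.ker_eq_top.1 e))
    have hdisj : ∀ v, v ∈ P → v ∈ N → v = 0 := fun v hv hv' => by
      refine two_smul_eq_zero hp ?_
      simp only [P, N, LinearMap.mem_ker, LinearMap.sub_apply, LinearMap.add_apply,
        Module.End.one_apply, sub_eq_zero] at hv hv'
      rwa [hv, ] at hv'
    have hdim : finrank (ZMod p) P + finrank (ZMod p) N ≤ finrank (ZMod p) V := by
      rw [← Submodule.finrank_sup_add_finrank_inf_eq,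
        show P ⊓ N = ⊥ from (Submodule.eq_bot_iff _).2 fun v hv => hdisj v hv.1 hv.2, finrank_bot,
        add_zero]
      exact Submodule.finrank_le _
    have hPlt := Submodule.finrank_lt hP
    have hNlt := Submodule.finrank_lt hN
    have hmem : ∀ (W : Submodule (ZMod p) V), (W = P ∨ W = N) → ∀ s ∈ S, ∀ v ∈ W, s v ∈ W := by
      intro W hW s hs' v hv
      rcases hW with rfl | rfl <;>
      · simp only [P, N, LinearMap.mem_ker, LinearMap.sub_apply, LinearMap.add_apply,
          Module.End.one_apply] at hv ⊢
        rw [← Module.End.mul_apply s₀ s, (hc s₀ hs₀ s hs').eq, Module.End.mul_apply]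
        simp only [← map_sub, ← map_add, hv, map_zero]
    let res (W : Submodule (ZMod p) V) (hW : W = P ∨ W = N) : S → Module.End (ZMod p) W :=
      fun s => (s : Module.End (ZMod p) V).restrict (hmem W hW s s.2)
    set SP := Finset.univ.image (res P (Or.inl rfl))
    set SN := Finset.univ.image (res N (Or.inr rfl))
    have hres : ∀ (W : Submodule (ZMod p) V) (hW : W = P ∨ W = N),
        (∀ a ∈ Finset.univ.image (res W hW), ∀ b ∈ Finset.univ.image (res W hW), Commute a b) ∧
        (∀ a ∈ Finset.univ.image (res W hW), a * a = 1) := by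
      intro W hW
      constructor
      · intro a ha b hb
        obtain ⟨s, -, rfl⟩ := Finset.mem_image.1 ha
        obtain ⟨t, -, rfl⟩ := Finset.mem_image.1 hb
        refine LinearMap.ext fun v => Subtype.ext ?_
        exact LinearMap.congr_fun (hc s s.2 t t.2).eq (v : V)
      · intro a ha
        obtain ⟨s, -, rfl⟩ := Finset.mem_image.1 ha
        refine LinearMap.ext fun v => Subtype.ext ?_
        exact LinearMap.congr_fun (hs s s.2) (v : V)
    have hPn : finrank (ZMod p) P ≤ n := by omega
    have hinj : Function.Injective fun s : S => (res P (Or.inl rfl) s, res N (Or.inr rfl) s) := by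
      intro s t hst
      simp only [Prod.mk.injEq] at hst
      refine Subtype.ext (LinearMap.ext fun v => ?_)
      obtain ⟨x, hx, y, hy, hxy⟩ := hsum v
      have e1 := congrArg Subtype.val (LinearMap.congr_fun hst.1 ⟨x, hx⟩)
      have e2 := congrArg Subtype.val (LinearMap.congr_fun hst.2 ⟨y, hy⟩)
      simp only [res, LinearMap.coe_restrict_apply] at e1 e2
      refine sub_eq_zero.1 (two_smul_eq_zero hp ?_)
      have e3 : (s : Module.End (ZMod p) V) (v + v) = (t : Module.End (ZMod p) V) (v + v) := by
        rw [hxy, map_add, map_add, e1, e2]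
      rw [map_add, map_add] at e3
      rw [sub_add_sub_comm, e3, sub_self]
    -- the smaller space absorbs the rest
    have hle : S.card ≤ SP.card * SN.card := by
      rw [← Finset.card_product, ← Fintype.card_coe S, ← Finset.card_univ,
        ← Finset.card_image_of_injective _ hinj]
      exact Finset.card_le_card fun x hx => by
        obtain ⟨s, -, rfl⟩ := Finset.mem_image.1 hx
        exact Finset.mem_product.2 ⟨Finset.mem_image_of_mem _ (Finset.mem_univ _),
          Finset.mem_image_of_mem _ (Finset.mem_univ _)⟩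
    -- both parts by induction at their own dimension
    exact hle.trans ((Nat.mul_le_mul (ihd _ (Nat.lt_succ_of_le hPn) P le_rfl SP (hres P (Or.inl rfl)).1 (hres P (Or.inl rfl)).2)
      (ihd _ (by omega : finrank (ZMod p) N < n + 1) N le_rfl SN (hres N (Or.inr rfl)).1 (hres N (Or.inr rfl)).2)).trans
      (by rw [← pow_add]; exact Nat.pow_le_pow_right two_pos (hdim.trans hn)))

theorem plane_comm {i j : Module.End (ZMod 3) (Fin 4 → ZMod 3)} (hi : i * i = -1) (hj : j * j = 1)
    (hij : Commute i j) (hj1 : j ≠ 1) (hj2 : j ≠ -1) {g h : Module.End (ZMod 3) (Fin 4 → ZMod 3)}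
    (hgi : Commute g i) (hgj : Commute g j) (hhi : Commute h i) (hhj : Commute h j) :
    Commute g h := by
  set P := LinearMap.ker (j - 1)
  set N := LinearMap.ker (j + 1)
  have hii : ∀ v, i (i v) = -v := fun v => by
    rw [← Module.End.mul_apply, hi]; rfl
  have hinv : ∀ (c : Module.End (ZMod 3) (Fin 4 → ZMod 3)), Commute c j →
      (∀ v ∈ P, c v ∈ P) ∧ ∀ v ∈ N, c v ∈ N := by
    intro c hc
    constructor <;>
    · intro v hv
      simp only [P, N, LinearMap.mem_ker, LinearMap.sub_apply, LinearMap.add_apply,
        Module.End.one_apply] at hv ⊢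
      rw [← Module.End.mul_apply j c, hc.symm.eq, Module.End.mul_apply]
      simp only [← map_sub, ← map_add, hv, map_zero]
  have hindep : ∀ v : Fin 4 → ZMod 3, v ≠ 0 → LinearIndependent (ZMod 3) ![v, i v] := by
    intro v hv
    rw [LinearIndependent.pair_iff]
    intro a b hab
    have h2 := congrArg i hab
    rw [map_add, map_smul, map_smul, hii, map_zero, smul_neg] at h2
    have h3 : (a * a + b * b) • v = 0 := by
      have := congrArg₂ (fun x y => a • x - b • y) hab h2
      simp only [smul_zero, sub_zero, smul_add, smul_sub, smul_smul, smul_neg, mul_comm b a] at this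
      rw [add_smul, ← this]
      abel
    have key : ∀ a b : ZMod 3, a * a + b * b = 0 → a = 0 ∧ b = 0 := by decide
    exact key a b ((smul_eq_zero.1 h3).resolve_right hv)
  have hsum : ∀ v : Fin 4 → ZMod 3, ∃ x ∈ P, ∃ y ∈ N, v + v = x + y := fun v => by
    refine ⟨v + j v, ?_, v - j v, ?_, by abel⟩ <;>
      simp only [P, N, LinearMap.mem_ker, LinearMap.sub_apply, LinearMap.add_apply,
        Module.End.one_apply, map_add, map_sub]
    · rw [← Module.End.mul_apply, hj, Module.End.one_apply]; abel
    · rw [← Module.End.mul_apply, hj, Module.End.one_apply]; abel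
  have hdisj : P ⊓ N = ⊥ := (Submodule.eq_bot_iff _).2 fun v hv => by
    refine two_smul_eq_zero (p := 3) (by norm_num) ?_
    obtain ⟨h1, h2⟩ := hv
    simp only [P, N, SetLike.mem_coe, LinearMap.mem_ker, LinearMap.sub_apply, LinearMap.add_apply,
      Module.End.one_apply, sub_eq_zero] at h1 h2
    rwa [h1] at h2
  have hge : ∀ W : Submodule (ZMod 3) (Fin 4 → ZMod 3), W ≠ ⊥ → (∀ v ∈ W, i v ∈ W) →
      2 ≤ finrank (ZMod 3) W := by
    intro W hW hiW
    obtain ⟨v, hvW, hv⟩ := Submodule.exists_mem_ne_zero_of_ne_bot hW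
    have h1 : LinearIndependent (ZMod 3) ![(⟨v, hvW⟩ : W), ⟨i v, hiW v hvW⟩] := by
      refine LinearIndependent.of_comp W.subtype ?_
      convert hindep v hv using 1
      funext k
      fin_cases k <;> rfl
    simpa using h1.fintype_card_le_finrank
  have hPne : P ≠ ⊥ := fun e => hj2 (by
    refine LinearMap.ext fun v => ?_
    have hm : v + j v ∈ P := by
      simp only [P, LinearMap.mem_ker, LinearMap.sub_apply, Module.End.one_apply, map_add]
      rw [← Module.End.mul_apply, hj, Module.End.one_apply]; abel
    rw [e, Submodule.mem_bot] at hm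
    rw [LinearMap.neg_apply, Module.End.one_apply]
    exact eq_neg_of_add_eq_zero_right hm)
  have hNne : N ≠ ⊥ := fun e => hj1 (by
    refine LinearMap.ext fun v => ?_
    have hm : v - j v ∈ N := by
      simp only [N, LinearMap.mem_ker, LinearMap.add_apply, Module.End.one_apply, map_sub]
      rw [← Module.End.mul_apply, hj, Module.End.one_apply]; abel
    rw [e, Submodule.mem_bot, sub_eq_zero] at hm
    exact hm.symm)
  have hdim : finrank (ZMod 3) P + finrank (ZMod 3) N ≤ 4 := by
    rw [← Submodule.finrank_sup_add_finrank_inf_eq, hdisj, finrank_bot, add_zero]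
    exact (Submodule.finrank_le _).trans (by simp)
  have hP2 := hge P hPne (hinv i hij).1
  have hN2 := hge N hNne (hinv i hij).2
  have hon : ∀ W : Submodule (ZMod 3) (Fin 4 → ZMod 3), finrank (ZMod 3) W = 2 → (∀ v ∈ W, i v ∈ W) →
      (∀ v ∈ W, g v ∈ W) → (∀ v ∈ W, h v ∈ W) → ∀ v ∈ W, g (h v) = h (g v) := by
    intro W hW hiW hgW hhW v hv
    rcases eq_or_ne v 0 with rfl | hv0
    · simp
    have hspan : Submodule.span (ZMod 3) (Set.range ![v, i v]) = W := by
      refine Submodule.eq_of_le_of_finrank_le (Submodule.span_le.2 ?_) ?_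
      · rintro _ ⟨k, rfl⟩
        fin_cases k
        · exact hv
        · exact hiW v hv
      · rw [hW, finrank_span_eq_card (hindep v hv0), Fintype.card_fin]
    have hrep : ∀ w ∈ W, ∃ a b : ZMod 3, w = a • v + b • i v := by
      intro w hw
      rw [← hspan, Submodule.mem_span_range_iff_exists_fun] at hw
      obtain ⟨c, rfl⟩ := hw
      exact ⟨c 0, c 1, by simp [Fin.sum_univ_two]⟩
    obtain ⟨a, b, hab⟩ := hrep _ (hgW v hv)
    obtain ⟨c, d, hcd⟩ := hrep _ (hhW v hv)
    have hgiv : ∀ w, g (i w) = i (g w) := fun w => LinearMap.congr_fun hgi.eq w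
    have hhiv : ∀ w, h (i w) = i (h w) := fun w => LinearMap.congr_fun hhi.eq w
    rw [hcd, map_add, map_smul, map_smul, hgiv, hab, map_add, map_add, map_smul, map_smul, map_smul,
      map_smul, hii, hhiv, hcd, map_add, map_smul, map_smul, hii]
    module
  refine LinearMap.ext fun v => ?_
  obtain ⟨x, hx, y, hy, hxy⟩ := hsum v
  have ex := hon P (by omega) (hinv i hij).1 (hinv g hgj).1 (hinv h hhj).1 x hx
  have ey := hon N (by omega) (hinv i hij).2 (hinv g hgj).2 (hinv h hhj).2 y hy
  refine sub_eq_zero.1 (two_smul_eq_zero (p := 3) (by norm_num) ?_)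
  have e : (g * h) (v + v) = (h * g) (v + v) := by
    rw [hxy, map_add, map_add, Module.End.mul_apply, Module.End.mul_apply, Module.End.mul_apply,
      Module.End.mul_apply, ex, ey]
  rw [map_add, map_add] at e
  rw [sub_add_sub_comm, e, sub_self]

end Cfsg.Agent.Char.KThree
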