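import Cfsg.Agent.Lib.Char.KThree.Arith
import Mathlib

/-!
# Linear groups transitive on nonzero vectors with a primitive prime

An element of primitive prime order is irreducible, its centralizer is cyclic of order dividing
`p ^ a - 1`, and its conjugates among its powers are at most `a` many.
-/

set_option autoImplicit false
set_option linter.unusedSectionVars false
set_option linter.style.haveILetI false

namespace Cfsg.Agent.Char.KThree

open Polynomial

variable {p a : ℕ} [Fact p.Prime] {E : Type*} [Group E] [Finite E]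
  (ρ : E →* GL (Fin a) (ZMod p))

/-- The action on column vectors. -/
noncomputable def act (g : E) : Module.End (ZMod p) (Fin a → ZMod p) :=
  Matrix.toLin' ((ρ g : GL (Fin a) (ZMod p)) : Matrix (Fin a) (Fin a) (ZMod p))

theorem act_one : act ρ 1 = 1 := by
  rw [act, map_one, Units.val_one, Matrix.toLin'_one]; rfl

theorem act_mul (g h : E) : act ρ (g * h) = act ρ g * act ρ h := by
  rw [act, map_mul, Units.val_mul, Matrix.toLin'_mul]; rfl

/-- The action as a homomorphism. -/
noncomputable def actHom : E →* Module.End (ZMod p) (Fin a → ZMod p) where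
  toFun := act ρ
  map_one' := act_one ρ
  map_mul' := act_mul ρ

theorem act_pow (g : E) (n : ℕ) : act ρ (g ^ n) = act ρ g ^ n := map_pow (actHom ρ) g n

theorem act_inj (hρ : Function.Injective ρ) {g h : E} (e : act ρ g = act ρ h) : g = h :=
  hρ (Units.ext (Matrix.toLin'.injective e))

theorem card_space : Nat.card (Fin a → ZMod p) = p ^ a := by
  rw [Nat.card_fun, Nat.card_zmod, Nat.card_eq_fintype_card, Fintype.card_fin]

theorem act_inv_apply (g : E) (v : Fin a → ZMod p) : act ρ g⁻¹ (act ρ g v) = v := by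
  have h := act_mul ρ g⁻¹ g
  rw [inv_mul_cancel, act_one] at h
  exact (LinearMap.congr_fun h v).symm

theorem act_inj_vec (g : E) : Function.Injective (act ρ g) :=
  fun v w h => by rw [← act_inv_apply ρ g v, h, act_inv_apply]

/-- The elements of `E` act on vectors. -/
@[reducible] noncomputable def vecAction : MulAction E (Fin a → ZMod p) where
  smul g v := act ρ g v
  one_smul v := by show act ρ 1 v = v; rw [act_one]; rfl
  mul_smul g h v := by show act ρ (g * h) v = act ρ g (act ρ h v); rw [act_mul]; rfl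

theorem orbit_stab {v : Fin a → ZMod p} (hv : v ≠ 0)
    (htr : ∀ w : Fin a → ZMod p, w ≠ 0 → ∃ g : E, act ρ g v = w) :
    Nat.card E = (p ^ a - 1) * Nat.card {g : E // act ρ g v = v} := by
  classical
  letI := vecAction ρ
  have h1 := Nat.card_congr (MulAction.orbitProdStabilizerEquivGroup E v)
  rw [Nat.card_prod] at h1
  have e1 : Nat.card (MulAction.stabilizer E v) = Nat.card {g : E // act ρ g v = v} := rfl
  have e2 : MulAction.orbit E v = {w | w ≠ 0} := Set.ext fun w => by
    constructor
    · rintro ⟨g, rfl⟩ h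
      exact hv (act_inj_vec ρ g (h.trans (map_zero _).symm))
    · exact fun hw => htr w hw
  have e3 : Nat.card {w : Fin a → ZMod p | w ≠ 0} = p ^ a - 1 := by
    rw [← card_space (p := p) (a := a)]
    simp [Nat.card_eq_fintype_card, Fintype.card_subtype, Finset.filter_ne']
  rw [e2, e3, e1] at h1
  exact h1.symm

variable {r : ℕ}

theorem not_dvd_pow_sub (hprim : IsPrim p a r) {b c : ℕ} (hcb : c < b) (hb : b ≤ a) (hc : b = a → c ≠ 0)
    (h : p ^ b ≡ p ^ c [MOD r]) : False := by
  have hrp : ¬ r ∣ p := fun hd => by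
    have hrp : r = p := (Nat.prime_dvd_prime_iff_eq hprim.1 Fact.out).1 hd
    have h2 := hprim.2.1
    rw [hrp] at h2
    have h3 : p ∣ p ^ a := dvd_pow_self p (by omega)
    have h4 := Nat.dvd_sub h3 h2
    rw [Nat.sub_sub_self (Nat.one_le_pow _ _ (Fact.out : p.Prime).pos)] at h4
    exact (Fact.out : p.Prime).not_dvd_one h4
  obtain ⟨d, rfl⟩ := Nat.exists_eq_add_of_le hcb.le
  have hd := (Nat.modEq_iff_dvd' (Nat.pow_le_pow_right (Fact.out : p.Prime).pos hcb.le)).1 h.symm
  rw [pow_add, ← Nat.mul_sub_one] at hd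
  have hd' := ((hprim.1.coprime_iff_not_dvd.2 hrp).pow_right c).dvd_of_dvd_mul_left hd
  rcases eq_or_ne d a with e | e
  · exact hc (by omega) (by omega)
  · exact hprim.2.2 d (by omega) (by omega) hd'

/-- An element of primitive prime order has no invariant subspaces. -/
theorem irreducible_of_prim (hρ : Function.Injective ρ) (hprim : IsPrim p a r) {g : E}
    (hg : orderOf g = r) (W : Submodule (ZMod p) (Fin a → ZMod p))
    (hW : ∀ w ∈ W, act ρ g w ∈ W) : W = ⊥ ∨ W = ⊤ := by
  classical
  haveI := Fact.mk hprim.1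
  have hcard : ∀ U : Submodule (ZMod p) (Fin a → ZMod p),
      ∃ b, b ≤ a ∧ Nat.card U = p ^ b ∧ (b = 0 → U = ⊥) ∧ (b = a → U = ⊤) := by
    intro U
    refine ⟨Module.finrank (ZMod p) U, ?_, ?_, Submodule.finrank_eq_zero.1, fun h => ?_⟩
    · simpa using Submodule.finrank_le U
    · rw [Module.natCard_eq_pow_finrank (K := ZMod p), Nat.card_zmod]
    · exact Submodule.eq_top_of_finrank_eq (by simpa using h)
  -- fixed points on an invariant subspace
  have hpow : ∀ U : Submodule (ZMod p) (Fin a → ZMod p), (∀ w ∈ U, act ρ g w ∈ U) →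
      ∀ x : Subgroup.zpowers g, ∀ w ∈ U, act ρ (x : E) w ∈ U := by
    intro U hU x w hw
    obtain ⟨n, hn⟩ := (mem_powers_iff_mem_zpowers).2 x.2
    rw [← hn]
    clear hn
    show act ρ (g ^ n) w ∈ U
    induction n with
    | zero => rw [pow_zero, act_one]; exact hw
    | succ n ih => rw [pow_succ', act_mul]; exact hU _ ih
  have hR : IsPGroup r (Subgroup.zpowers g) :=
    IsPGroup.of_card (n := 1) (by rw [Nat.card_zpowers, hg, pow_one])
  have hmod : ∀ U : Submodule (ZMod p) (Fin a → ZMod p), (∀ w ∈ U, act ρ g w ∈ U) →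
      Nat.card U ≡ Nat.card {w : U // act ρ g (w : Fin a → ZMod p) = w} [MOD r] := by
    intro U hU
    letI : MulAction (Subgroup.zpowers g) U :=
      { smul := fun x w => ⟨act ρ (x : E) w, hpow U hU x w w.2⟩
        one_smul := fun w => Subtype.ext (by show act ρ 1 (w : Fin a → ZMod p) = w; rw [act_one]; rfl)
        mul_smul := fun x y w => Subtype.ext (by
          show act ρ ((x : E) * y) (w : Fin a → ZMod p) = act ρ x (act ρ y w)
          rw [act_mul]; rfl) }
    have h := hR.card_modEq_card_fixedPoints U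
    refine h.trans (Eq.subst (motive := fun x => _ ≡ x [MOD r]) ?_ (Nat.ModEq.refl _))
    refine Nat.card_congr (Equiv.subtypeEquivRight fun w => ?_)
    constructor
    · exact fun hw => congrArg Subtype.val (hw ⟨g, Subgroup.mem_zpowers g⟩)
    · intro hw x
      apply Subtype.ext
      obtain ⟨n, hn⟩ := (mem_powers_iff_mem_zpowers).2 x.2
      show act ρ (x : E) (w : Fin a → ZMod p) = w
      rw [← hn]
      show act ρ (g ^ n) (w : Fin a → ZMod p) = w
      clear hn
      induction n with
      | zero => rw [pow_zero, act_one]; rfl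
      | succ n ih => rw [pow_succ, act_mul, Module.End.mul_apply, hw, ih]
  set F := LinearMap.eqLocus (act ρ g) (LinearMap.id) with hF
  have hFbot : F = ⊥ := by
    obtain ⟨c, hca, hc, hc0, hcA⟩ := hcard F
    refine hc0 (by_contra fun hne => ?_)
    have hne' : c ≠ a := fun h => by
      refine hprim.1.one_lt.ne' (hg ▸ ?_)
      rw [orderOf_eq_one_iff]
      refine act_inj ρ hρ (LinearMap.ext fun v => ?_)
      rw [act_one]
      exact (hcA h ▸ Submodule.mem_top : v ∈ F)
    have h1 := hmod ⊤ fun _ _ => trivial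
    have e : Nat.card {w : (⊤ : Submodule (ZMod p) (Fin a → ZMod p)) //
        act ρ g (w : Fin a → ZMod p) = w} = Nat.card F :=
      Nat.card_congr ⟨fun w => ⟨w.1.1, w.2⟩, fun w => ⟨⟨w.1, trivial⟩, w.2⟩, fun _ => rfl, fun _ => rfl⟩
    rw [e, hc, Nat.card_congr Submodule.topEquiv.toEquiv, card_space] at h1
    exact not_dvd_pow_sub hprim (lt_of_le_of_ne hca hne') le_rfl (fun _ => hne) h1
  obtain ⟨b, hba, hb, hb0, hbA⟩ := hcard W
  rcases Nat.eq_zero_or_pos b with h0 | h0
  · exact Or.inl (hb0 h0)
  by_cases hA : b = a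
  · exact Or.inr (hbA hA)
  exfalso
  have h1 := hmod W hW
  have e : Nat.card {w : W // act ρ g (w : Fin a → ZMod p) = w} = 1 := by
    rw [Nat.card_eq_one_iff_unique]
    refine ⟨⟨fun x y => ?_⟩, ⟨⟨0, by simp⟩⟩⟩
    have hx : (x.1 : Fin a → ZMod p) ∈ F := x.2
    have hy : (y.1 : Fin a → ZMod p) ∈ F := y.2
    rw [hFbot, Submodule.mem_bot] at hx hy
    exact Subtype.ext (Subtype.ext (hx.trans hy.symm))
  rw [hb, e, ← pow_zero p] at h1
  exact not_dvd_pow_sub hprim h0 hba (fun h => absurd h hA) h1

variable {g : E}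

theorem scalar_ring (hρ : Function.Injective ρ) (hprim : IsPrim p a r) (hg : orderOf g = r)
    {c : Module.End (ZMod p) (Fin a → ZMod p)} (hc : Commute c (act ρ g)) :
    c ∈ Algebra.adjoin (ZMod p) {act ρ g} ∧ (c ≠ 0 → Function.Injective c) := by
  classical
  have hker : ∀ d : Module.End (ZMod p) (Fin a → ZMod p), Commute d (act ρ g) →
      ∀ v, v ≠ 0 → d v = 0 → d = 0 := by
    intro d hd v hv hdv
    rcases irreducible_of_prim ρ hρ hprim hg (LinearMap.ker d) (fun w hw => by
      rw [LinearMap.mem_ker] at hw ⊢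
      rw [← Module.End.mul_apply, hd.eq, Module.End.mul_apply, hw, map_zero]) with h | h
    · exact absurd ((Submodule.mem_bot _).1 (h ▸ LinearMap.mem_ker.2 hdv)) hv
    · exact LinearMap.ker_eq_top.1 h
  refine ⟨?_, fun hne => (injective_iff_map_eq_zero c).2 fun v hv =>
    by_contra fun h0 => hne (hker c hc v h0 hv)⟩
  rcases Nat.eq_zero_or_pos a with rfl | ha
  · rw [Subsingleton.elim c 0]; exact zero_mem _
  haveI : Nonempty (Fin a) := ⟨⟨0, ha⟩⟩
  obtain ⟨v, hv⟩ := exists_ne (0 : Fin a → ZMod p)
  set W := (Subalgebra.toSubmodule (Algebra.adjoin (ZMod p) {act ρ g})).map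
    (LinearMap.applyₗ v) with hW
  rcases irreducible_of_prim ρ hρ hprim hg W (fun w hw => by
    obtain ⟨d, hd, rfl⟩ := Submodule.mem_map.1 hw
    exact Submodule.mem_map.2 ⟨act ρ g * d, (Subalgebra.mem_toSubmodule _).2 (mul_mem
      (Algebra.self_mem_adjoin_singleton _ _) ((Subalgebra.mem_toSubmodule _).1 hd)), rfl⟩) with h | h
  · have : v ∈ W := Submodule.mem_map.2 ⟨1, (Subalgebra.mem_toSubmodule _).2 (one_mem _), rfl⟩
    exact absurd ((Submodule.mem_bot _).1 (h ▸ this)) hv
  · obtain ⟨d, hd, hdv⟩ := Submodule.mem_map.1 (h ▸ Submodule.mem_top : c v ∈ W)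
    rw [Subalgebra.mem_toSubmodule] at hd
    have hdc : Commute d (act ρ g) :=
      (Algebra.commute_of_mem_adjoin_singleton_of_commute hd (Commute.refl _)).symm
    have h0 := hker (c - d) (hc.sub_left hdc) v hv (by
      rw [LinearMap.sub_apply, sub_eq_zero]
      exact hdv.symm)
    rw [sub_eq_zero.1 h0]
    exact hd

theorem centralizer_facts (hρ : Function.Injective ρ) (hprim : IsPrim p a r) (hg : orderOf g = r) :
    IsCyclic (Subgroup.centralizer ({g} : Set E)) ∧
      Nat.card (Subgroup.centralizer ({g} : Set E)) ∣ p ^ a - 1 := by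
  classical
  set C := Subgroup.centralizer ({g} : Set E)
  have hcm : ∀ c : C, Commute (act ρ (c : E)) (act ρ g) := fun c => by
    show act ρ c * act ρ g = act ρ g * act ρ c
    rw [← act_mul, ← act_mul, Subgroup.mem_centralizer_singleton_iff.1 c.2]
  set R := Algebra.adjoin (ZMod p) {act ρ g}
  have hRcomm : ∀ x y : R, x * y = y * x := fun x y => Subtype.ext
    (Algebra.commute_of_mem_adjoin_singleton_of_commute y.2
      (Algebra.commute_of_mem_adjoin_singleton_of_commute x.2 (Commute.refl _)).symm :)
  have hinj : ∀ x : R, x ≠ 0 → Function.Injective (x : Module.End (ZMod p) (Fin a → ZMod p)) :=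
    fun x hx => (scalar_ring ρ hρ hprim hg
      (Algebra.commute_of_mem_adjoin_singleton_of_commute x.2 (Commute.refl _)).symm).2
      (fun h => hx (Subtype.ext h))
  letI : CommRing R := { (inferInstance : Ring R) with mul_comm := hRcomm }
  haveI : Nontrivial R := ⟨⟨1, 0, fun h => by
    have h1 := congrArg Subtype.val h
    refine hprim.1.one_lt.ne' (hg ▸ (orderOf_eq_one_iff.2 (act_inj ρ hρ (LinearMap.ext fun v => ?_))))
    rw [show v = 0 from LinearMap.congr_fun h1 v, map_zero, map_zero]⟩⟩
  haveI : NoZeroDivisors R := ⟨fun {x y} hxy => by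
    by_contra h
    push Not at h
    refine h.2 (Subtype.ext (LinearMap.ext fun v => ?_))
    have h2 := LinearMap.congr_fun (congrArg Subtype.val hxy) v
    exact (injective_iff_map_eq_zero _).1 (hinj x h.1) _ h2⟩
  haveI : IsDomain R := NoZeroDivisors.to_isDomain R
  refine ⟨?_, ?_⟩
  · refine isCyclic_of_subgroup_isDomain
      ({ toFun := fun c => ⟨act ρ (c : E), (scalar_ring ρ hρ hprim hg (hcm c)).1⟩
         map_one' := Subtype.ext (act_one ρ)
         map_mul' := fun c d => Subtype.ext (act_mul ρ c d) } : C →* R) fun c d h => ?_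
    exact Subtype.ext (act_inj ρ hρ (congrArg Subtype.val h))
  · letI := vecAction ρ
    let X := {v : Fin a → ZMod p // v ≠ 0}
    letI : MulAction C X :=
      { smul := fun c v => ⟨act ρ (c : E) v, fun h => v.2 (act_inj_vec ρ _ (h.trans (map_zero _).symm))⟩
        one_smul := fun v => Subtype.ext (one_smul E v.1)
        mul_smul := fun c d v => Subtype.ext (mul_smul (c : E) (d : E) v.1) }
    have hfree : ∀ v : X, MulAction.stabilizer C v = ⊥ := by
      intro v
      rw [eq_bot_iff]
      intro c hc
      rw [MulAction.mem_stabilizer_iff] at hc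
      rw [Subgroup.mem_bot]
      refine Subtype.ext (act_inj ρ hρ ?_)
      rw [Subgroup.coe_one, act_one]
      by_contra hne
      have hd : Commute (act ρ (c : E) - 1) (act ρ g) := (hcm c).sub_left (Commute.one_left _)
      refine v.2 ((injective_iff_map_eq_zero _).1
        ((scalar_ring ρ hρ hprim hg hd).2 (sub_ne_zero.2 hne)) v.1 ?_)
      rw [LinearMap.sub_apply, sub_eq_zero]
      exact congrArg Subtype.val hc
    have h1 := Nat.card_congr (MulAction.selfEquivSigmaOrbitsQuotientStabilizer C X)
    rw [Nat.card_sigma, Finset.sum_congr rfl (g := fun _ => Nat.card C) (fun x _ => by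
      rw [hfree, ← Subgroup.index_eq_card, Subgroup.index_bot]), Finset.sum_const, smul_eq_mul] at h1
    have e : Nat.card X = p ^ a - 1 := by
      rw [← card_space (p := p) (a := a)]
      simp [X, Nat.card_eq_fintype_card, Fintype.card_subtype, Finset.filter_ne']
    exact ⟨_, by rw [← e, h1, mul_comm]⟩

/-- If `g` is conjugate to all generators of `⟨g⟩` there are at most `a` of them. -/
theorem totient_le_of_conj (hρ : Function.Injective ρ) (hprim : IsPrim p a r) {y : E} {t : ℕ}
    (hy : orderOf y = r ^ (t + 1)) (hconj : ∀ k, k.Coprime (r ^ (t + 1)) → IsConj y (y ^ k)) :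
    Nat.totient (r ^ (t + 1)) ≤ a := by
  classical
  set g := y ^ r ^ t with hg'
  have hg : orderOf g = r := by
    rw [hg', orderOf_pow' _ (pow_ne_zero _ hprim.1.ne_zero), hy,
      Nat.gcd_eq_right (pow_dvd_pow r t.le_succ), pow_succ,
      Nat.mul_div_cancel_left _ (pow_pos hprim.1.pos t)]
  have hcm : Commute (act ρ y) (act ρ g) := by
    rw [hg', act_pow]; exact Commute.pow_right (Commute.refl _) _
  have hyR := (scalar_ring ρ hρ hprim hg hcm).1
  set R := Algebra.adjoin (ZMod p) {act ρ g}
  have hRcomm : ∀ x y : R, x * y = y * x := fun x y => Subtype.ext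
    (Algebra.commute_of_mem_adjoin_singleton_of_commute y.2
      (Algebra.commute_of_mem_adjoin_singleton_of_commute x.2 (Commute.refl _)).symm :)
  letI : CommRing R := { (inferInstance : Ring R) with mul_comm := hRcomm }
  haveI : Nontrivial R := ⟨⟨1, 0, fun h => by
    have h1 := congrArg Subtype.val h
    refine hprim.1.one_lt.ne' (hg ▸ (orderOf_eq_one_iff.2 (act_inj ρ hρ (LinearMap.ext fun v => ?_))))
    rw [show v = 0 from LinearMap.congr_fun h1 v, map_zero, map_zero]⟩⟩
  haveI : NoZeroDivisors R := ⟨fun {x z} hxy => by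
    by_contra h
    push Not at h
    refine h.2 (Subtype.ext (LinearMap.ext fun v => ?_))
    have h2 := LinearMap.congr_fun (congrArg Subtype.val hxy) v
    exact (injective_iff_map_eq_zero _).1 ((scalar_ring ρ hρ hprim hg
      (Algebra.commute_of_mem_adjoin_singleton_of_commute x.2 (Commute.refl _)).symm).2
      (fun e => h.1 (Subtype.ext e))) _ h2⟩
  haveI : IsDomain R := NoZeroDivisors.to_isDomain R
  set P : Polynomial (ZMod p) := (act ρ y).charpoly with hP
  have hP0 : P ≠ 0 := (LinearMap.charpoly_monic _).ne_zero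
  have hdeg : P.natDegree = a := by
    rw [hP, LinearMap.charpoly_natDegree]; simp
  let root : {k : ℕ // k < r ^ (t + 1) ∧ k.Coprime (r ^ (t + 1))} → R := fun k =>
    ⟨act ρ (y ^ (k : ℕ)), by rw [act_pow]; exact pow_mem hyR _⟩
  have hroot : ∀ k, root k ∈ P.rootSet R := by
    intro k
    rw [Polynomial.mem_rootSet_of_ne hP0]
    apply Subtype.ext
    rw [← Subalgebra.coe_val, ← Polynomial.aeval_algHom_apply]
    obtain ⟨c, hc⟩ := isConj_iff.1 (hconj k k.2.2)
    show aeval (act ρ (y ^ (k : ℕ))) P = 0
    rw [← hc, act_mul, act_mul]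
    let u : (Module.End (ZMod p) (Fin a → ZMod p))ˣ := Units.map (actHom ρ) (toUnits c)
    have hu : ((u⁻¹ : (Module.End (ZMod p) (Fin a → ZMod p))ˣ) : Module.End (ZMod p) (Fin a → ZMod p)) =
        act ρ c⁻¹ := rfl
    have h0 : aeval (act ρ y) P = 0 := LinearMap.aeval_self_charpoly _
    let φ : Module.End (ZMod p) (Fin a → ZMod p) →ₐ[ZMod p] Module.End (ZMod p) (Fin a → ZMod p) :=
      { toFun := fun x => act ρ c * x * act ρ c⁻¹
        map_one' := by rw [mul_one, ← act_mul, mul_inv_cancel, act_one]
        map_mul' := fun x z => by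
          have e : act ρ c⁻¹ * act ρ c = 1 := by rw [← act_mul, inv_mul_cancel, act_one]
          simp only [mul_assoc]
          rw [← mul_assoc (act ρ c⁻¹) (act ρ c), e, one_mul]
        map_zero' := by rw [mul_zero, zero_mul]
        map_add' := fun x z => by rw [mul_add, add_mul]
        commutes' := fun x => by
          rw [Algebra.algebraMap_eq_smul_one, mul_smul_comm, mul_one, smul_mul_assoc, ← act_mul,
            mul_inv_cancel, act_one] }
    have := aeval_algHom_apply φ (act ρ y) P
    rw [h0, map_zero] at this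
    exact this
  have hrinj : Function.Injective root := fun k l h => by
    have h1 := act_inj ρ hρ (congrArg Subtype.val h)
    rw [pow_inj_mod, hy, Nat.mod_eq_of_lt k.2.1, Nat.mod_eq_of_lt l.2.1] at h1
    exact Subtype.ext h1
  have h1 := Nat.card_le_card_of_injective (fun k => (⟨root k, hroot k⟩ : P.rootSet R))
    fun k l h => hrinj (congrArg Subtype.val h)
  have h2 : Nat.card {k : ℕ // k < r ^ (t + 1) ∧ k.Coprime (r ^ (t + 1))} =
      Nat.totient (r ^ (t + 1)) := by
    rw [Nat.totient_eq_card_lt_and_coprime]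
    exact Nat.card_congr (Equiv.subtypeEquivRight fun k => and_congr_right fun _ => Nat.coprime_comm)
  rw [← h2]
  refine h1.trans ?_
  refine le_trans ?_ hdeg.le
  rw [Polynomial.rootSet_def, Nat.card_coe_set_eq, Set.ncard_coe_finset]
  exact (Multiset.toFinset_card_le _).trans (Polynomial.card_roots' _ |>.trans (by
    rw [Polynomial.natDegree_map]))

end Cfsg.Agent.Char.KThree
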