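import Cfsg.Agent.Lib.Char.KThree.Block
import Cfsg.Agent.Lib.Char.QuotientBlocks
import Cfsg.Agent.Lib.Char.TwoCharBlock
import Mathlib

/-!
# Reduction to an abelian normal defect group
-/

set_option autoImplicit false
set_option linter.unusedSectionVars false
set_option linter.style.haveILetI false

open Cfsg
open scoped commutatorElement

namespace Cfsg.Agent.Char.KThree

universe u

/-- A subgroup of a `p`-group filling the abelianization is everything. -/
theorem eq_top_of_sup_commutator {P : Type u} [Group P] [Finite P] {p : ℕ} [Fact p.Prime] (hP : IsPGroup p P)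
    {H : Subgroup P} (h : H ⊔ commutator P = ⊤) : H = ⊤ := by
  haveI := hP.isNilpotent
  rcases eq_top_or_exists_le_coatom H with e | ⟨M, hM, hHM⟩
  · exact e
  exfalso
  haveI : M.Normal := Subgroup.NormalizerCondition.normal_of_coatom _
    Group.normalizerCondition_of_isNilpotent hM
  obtain ⟨x, -, hx⟩ := SetLike.exists_of_lt (lt_top_iff_ne_top.2 hM.1)
  have hcyc : IsCyclic (P ⧸ M) := by
    refine ⟨(QuotientGroup.mk x : P ⧸ M), fun q => ?_⟩
    obtain ⟨y, rfl⟩ := QuotientGroup.mk_surjective q
    have e : (Subgroup.zpowers (QuotientGroup.mk x : P ⧸ M)).comap (QuotientGroup.mk' M) = ⊤ := by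
      refine hM.2 _ (lt_of_le_of_ne (fun z hz => ?_) fun e => hx ?_)
      · show (QuotientGroup.mk z : P ⧸ M) ∈ Subgroup.zpowers _
        rw [(QuotientGroup.eq_one_iff z).2 hz]
        exact one_mem _
      · rw [e]
        exact Subgroup.mem_zpowers (QuotientGroup.mk x : P ⧸ M)
    have : y ∈ (Subgroup.zpowers (QuotientGroup.mk x : P ⧸ M)).comap (QuotientGroup.mk' M) :=
      e ▸ Subgroup.mem_top y
    exact this
  have hle : commutator P ≤ M := by
    rw [commutator_def, Subgroup.commutator_le]
    intro a _ b _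
    rw [← QuotientGroup.eq_one_iff]
    letI := hcyc.commGroup
    exact (map_commutatorElement (QuotientGroup.mk' M) a b).trans
      (commutatorElement_eq_one_iff_mul_comm.2 (mul_comm _ _))
  exact hM.1 (top_le_iff.1 (h ▸ sup_le hHM hle))

variable {H : Type u} [Group H] [Fintype H] {M : Ideal AlgInt} {p : ℕ}

/-- A block with normal defect group and at most three characters of height zero. -/
theorem defect_cases (hM : IsPModular p M) {b : Set (IrrCharacter H)} (hb : IsPBlock M b)
    (D : Subgroup H) [D.Normal] (hD : IsDefectGroup p M b D)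
    (h3 : Nat.card {ψ : IrrCharacter H // ψ ∈ b ∧ blockHeight p b (ψ : H → ℂ) = 0} ≤ 3) :
    Nat.card D = 1 ∨ Nat.card D = 2 ∨ Nat.card D = 3 := by
  classical
  have hP := pmod_prime hM
  have hp := hM.1
  haveI := Fact.mk hp
  obtain ⟨y, hy, hDy⟩ := (isDefectGroup_iff b D).1 hD
  have hDp : IsPGroup p D := hDy.isPGroup
  set K : Subgroup H := ⁅D, D⁆ with hK
  haveI : K.Normal := inferInstance
  haveI := Fintype.ofFinite (H ⧸ K)
  have hKD : K ≤ D := Subgroup.commutator_le_left D D
  have hKp : IsPGroup p K := hDp.to_le hKD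
  obtain ⟨b', hb', hinfl, hdef⟩ := exists_quotient_block_defect hM hKp hb
  have hD' := hdef D hD
  set D' := D.map (QuotientGroup.mk' K) with hD'def
  haveI : D'.Normal := Subgroup.Normal.map inferInstance _ (QuotientGroup.mk'_surjective K)
  have hab : ∀ a ∈ D', ∀ c ∈ D', a * c = c * a := by
    rintro _ ⟨a, ha, rfl⟩ _ ⟨c, hc, rfl⟩
    have := (QuotientGroup.eq_one_iff ⁅a, c⁆).2 (Subgroup.commutator_mem_commutator ha hc : ⁅a, c⁆ ∈ K)
    exact commutatorElement_eq_one_iff_mul_comm.1
      ((map_commutatorElement (QuotientGroup.mk' K) a c).symm.trans this)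
  -- the cardinalities
  have hcard : Nat.card D = Nat.card K * Nat.card D' := by
    have h1 := ((QuotientGroup.mk' K).comp D.subtype).ker.card_mul_index
    rw [Subgroup.index_ker, MonoidHom.range_comp, Subgroup.range_subtype] at h1
    rw [← h1]
    congr 1
    have e : ((QuotientGroup.mk' K).comp D.subtype).ker = K.subgroupOf D := by
      ext x
      rw [MonoidHom.mem_ker, Subgroup.mem_subgroupOf]
      exact QuotientGroup.eq_one_iff (x : H)
    rw [e, Nat.card_congr (Subgroup.subgroupOfEquivOfLe hKD).toEquiv]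
  -- height zero
  have hHK : Nat.card H = Nat.card K * Nat.card (H ⧸ K) := by
    rw [← Subgroup.index_eq_card, K.card_mul_index]
  have hdef' : dmin p b' = dmin p b := by
    have h1 := dmin_add_defect (p := p) (block_nonempty hP hb)
    have h2 := dmin_add_defect (p := p) (block_nonempty hP hb')
    have h3' := card_defectGroup hM hb hD
    have h4 := card_defectGroup hM hb' hD'
    have h5 := congrFun (congrArg DFunLike.coe (congrArg Nat.factorization hcard)) p
    have h6 := congrFun (congrArg DFunLike.coe (congrArg Nat.factorization hHK)) p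
    rw [Nat.factorization_mul Nat.card_pos.ne' Nat.card_pos.ne', Finsupp.add_apply, h3', h4,
      hp.factorization_pow, hp.factorization_pow, Finsupp.single_eq_same, Finsupp.single_eq_same] at h5
    rw [Nat.factorization_mul Nat.card_pos.ne' Nat.card_pos.ne', Finsupp.add_apply] at h6
    omega
  have hle : Nat.card b' ≤ 3 := by
    refine le_trans (Nat.card_le_card_of_injective (fun χ : b' =>
      (⟨inflChar K χ.1, hinfl _ χ.2, ?_⟩ : {ψ : IrrCharacter H // ψ ∈ b ∧ blockHeight p b (ψ : H → ℂ) = 0}))
      fun χ χ' e => ?_) h3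
    · rw [blockHeight_eq_zero_iff (hinfl _ χ.2), ← hdef',
        ← (blockHeight_eq_zero_iff χ.2).1 (height_zero_of_abelian_normal_defect hM hb' hD' hab χ.2)]
      rfl
    · refine Subtype.ext (Subtype.ext (funext fun q => ?_))
      obtain ⟨g, rfl⟩ := QuotientGroup.mk_surjective q
      exact congrArg (fun z : {ψ : IrrCharacter H // ψ ∈ b ∧ blockHeight p b (ψ : H → ℂ) = 0} =>
        (z.1 : H → ℂ) g) e
  have hpos : 0 < Nat.card b' := by
    obtain ⟨χ, hχ⟩ := block_nonempty hP hb'
    haveI : Nonempty b' := ⟨⟨χ, hχ⟩⟩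
    exact Nat.card_pos
  -- cyclic abelianization
  have hcommD : (commutator D).map D.subtype = ⁅D, D⁆ := by
    rw [commutator_def, Subgroup.map_commutator, ← MonoidHom.range_eq_map, Subgroup.range_subtype]
  have hcyc : ∀ r : ℕ, r.Prime → Nat.card D' = r → Nat.card D = r := by
    intro r hr hDr
    suffices hK1 : Nat.card K = 1 by rw [hcard, hK1, one_mul, hDr]
    haveI := Fact.mk hr
    haveI : IsCyclic D' := isCyclic_of_prime_card hDr
    obtain ⟨⟨z, x, hx, rfl⟩, hz⟩ := IsCyclic.exists_generator (α := D')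
    have htop : Subgroup.zpowers (⟨x, hx⟩ : D) ⊔ commutator D = ⊤ := by
      rw [eq_top_iff]
      intro d _
      obtain ⟨n, hn⟩ := Subgroup.mem_zpowers_iff.1 (hz ⟨_, d.1, d.2, rfl⟩)
      have hn' : (QuotientGroup.mk (x ^ n) : H ⧸ K) = QuotientGroup.mk (d : H) := congrArg Subtype.val hn
      have hmem : ((⟨x, hx⟩ : D) ^ n)⁻¹ * d ∈ commutator D := by
        have h1 : (((⟨x, hx⟩ : D) ^ n)⁻¹ * d : D).1 ∈ K := by simpa using QuotientGroup.eq.1 hn'
        rw [hK, ← hcommD] at h1
        obtain ⟨w, hw, hwe⟩ := h1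
        rwa [show ((⟨x, hx⟩ : D) ^ n)⁻¹ * d = w from Subtype.ext hwe.symm]
      rw [show d = (⟨x, hx⟩ : D) ^ n * (((⟨x, hx⟩ : D) ^ n)⁻¹ * d) by group]
      exact Subgroup.mul_mem_sup (Subgroup.zpow_mem _ (Subgroup.mem_zpowers _) n) hmem
    have hz' := eq_top_of_sup_commutator hDp htop
    rw [Subgroup.card_eq_one, hK, Subgroup.commutator_eq_bot_iff_le_centralizer]
    intro a ha
    rw [Subgroup.mem_centralizer_iff]
    intro c hc
    obtain ⟨i, hi⟩ := Subgroup.mem_zpowers_iff.1 (hz'.symm ▸ Subgroup.mem_top (⟨a, ha⟩ : D))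
    obtain ⟨j, hj⟩ := Subgroup.mem_zpowers_iff.1 (hz'.symm ▸ Subgroup.mem_top (⟨c, hc⟩ : D))
    have := congrArg Subtype.val ((Commute.zpow_zpow_self (⟨x, hx⟩ : D) j i).eq)
    rw [hi, hj] at this
    exact this
  interval_cases hc : Nat.card b'
  · -- one character
    left
    have hl : blockRank p b' = 1 := by
      have h1 := (Cfsg.Agent.S4733.result p M hM b' hb').1
      obtain ⟨χ, hχ⟩ := block_nonempty hP hb'
      have hne : pRegularPart p (χ : H ⧸ K → ℂ) ≠ 0 := fun h => by
        have := congrFun h 1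
        simp [pRegularPart, IsPRegular, hp.ne_one] at this
        exact irr_one_ne_zero χ.2 this
      have h2 : 1 ≤ blockRank p b' := by
        rw [← finrank_span_singleton (K := ℂ) hne]
        exact Submodule.finrank_mono ((Submodule.span_singleton_le_iff_mem _ _).2
          (Submodule.subset_span ⟨χ, hχ, rfl⟩))
      omega
    have hD'1 : Nat.card D' = 1 := by
      rw [card_defectGroup hM hb' hD', (Cfsg.Agent.S4733.result p M hM b' hb').2.1.2 ⟨hc, hl⟩, pow_zero]
    -- a perfect `p`-group is trivial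
    have htop : (⊥ : Subgroup D) ⊔ commutator D = ⊤ := by
      rw [bot_sup_eq, eq_top_iff]
      intro d _
      haveI : Subsingleton D' := (Nat.card_eq_one_iff_unique.1 hD'1).1
      have h1 : (d : H) ∈ K := (QuotientGroup.eq_one_iff _).1
        (congrArg Subtype.val (Subsingleton.elim (⟨_, d.1, d.2, rfl⟩ : D') 1))
      rw [hK, ← hcommD] at h1
      obtain ⟨w, hw, hwe⟩ := h1
      rwa [show d = w from Subtype.ext hwe.symm]
    have := eq_top_of_sup_commutator hDp htop
    rw [← Subgroup.card_top (G := D), ← this, Subgroup.card_bot]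
  · exact Or.inr (Or.inl (hcyc 2 Nat.prime_two ((card_two_iff hM hb' hD').1 hc)))
  · exact Or.inr (Or.inr (hcyc 3 Nat.prime_three (card_three_of_abelian hM hb' D' hD' hab hc)))

end Cfsg.Agent.Char.KThree
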