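import Cfsg.Agent.Lib.Char.KThree.Tools
import Cfsg.Agent.Lib.Char.KThree.Invol
import Mathlib

/-!
# The setting: two characters and a group transitive on nonzero vectors
-/

set_option autoImplicit false
set_option linter.unusedSectionVars false
set_option linter.style.haveILetI false

namespace Cfsg.Agent.Char.KThree

universe u

variable {p a : ℕ} [Fact p.Prime] {E : Type u} [Group E] [Finite E]
  {ρ : E →* GL (Fin a) (ZMod p)} {f a₁ a₂ : ℕ} {Y : Set E}

variable (ρ f a₁ a₂ Y) in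
/-- A `p'`-group faithful and transitive on nonzero vectors with point stabilizers of order `f ^ 2`,
carrying the data of two characters. -/
structure Ctx : Prop where
  inj : Function.Injective ρ
  cop : ¬ p ∣ Nat.card E
  trans : ∀ v w : Fin a → ZMod p, v ≠ 0 → w ≠ 0 → ∃ g : E, act ρ g v = w
  stab : ∀ v : Fin a → ZMod p, v ≠ 0 → Nat.card {g : E // act ρ g v = v} = f ^ 2
  fpos : 0 < f
  dim : 0 < a
  two : Two E a₁ a₂ Y

theorem Ctx.card_eq (h : Ctx ρ f a₁ a₂ Y) : Nat.card E = (p ^ a - 1) * f ^ 2 := by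
  haveI : Nonempty (Fin a) := ⟨⟨0, h.dim⟩⟩
  obtain ⟨v, hv⟩ := exists_ne (0 : Fin a → ZMod p)
  rw [orbit_stab ρ hv (fun w hw => h.trans v w hv hw), h.stab v hv]

theorem Ctx.sum_sq (h : Ctx ρ f a₁ a₂ Y) : f ^ 2 * (p ^ a - 1) = a₁ ^ 2 + a₂ ^ 2 := by
  rw [h.two.sq, h.card_eq, mul_comm]

theorem Ctx.dvd_GL (h : Ctx ρ f a₁ a₂ Y) : Nat.card E ∣ Nat.card (GL (Fin a) (ZMod p)) :=
  Subgroup.card_dvd_of_injective ρ h.inj

/-- In a regular action an involution is `-1`. -/
theorem Ctx.invol_neg (h : Ctx ρ f a₁ a₂ Y) (hp : p ≠ 2) (hf : f = 1) {g : E} (hg : g * g = 1)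
    (hg1 : g ≠ 1) : act ρ g = -1 := by
  refine LinearMap.ext fun v => ?_
  rw [LinearMap.neg_apply, Module.End.one_apply]
  refine eq_neg_of_add_eq_zero_left (by_contra fun hne => ?_)
  have hfix : act ρ g (act ρ g v + v) = act ρ g v + v := by
    rw [map_add, ← Module.End.mul_apply, ← act_mul, hg, act_one, Module.End.one_apply, add_comm]
  have h1 := h.stab _ hne
  rw [hf, one_pow, Nat.card_eq_one_iff_unique] at h1
  haveI := h1.1
  exact hg1 (congrArg Subtype.val (Subsingleton.elim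
    (⟨g, hfix⟩ : {k : E // act ρ k (act ρ g v + v) = act ρ g v + v})
    ⟨1, by rw [act_one]; rfl⟩))

/-- An involution commuting with an irreducible element is `-1`. -/
theorem Ctx.neg_of_commute (h : Ctx ρ f a₁ a₂ Y) {r : ℕ} (hprim : IsPrim p a r) {y g : E}
    (hy : orderOf y = r) (hg : g * g = 1) (hg1 : g ≠ 1) (hc : g * y = y * g) : act ρ g = -1 := by
  have hd : Commute (act ρ g - 1) (act ρ y) := Commute.sub_left
    (show act ρ g * act ρ y = act ρ y * act ρ g by rw [← act_mul, ← act_mul, hc]) (Commute.one_left _)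
  have hinj := (scalar_ring ρ h.inj hprim hy hd).2
    (sub_ne_zero.2 fun e => hg1 (act_inj ρ h.inj (e.trans (act_one ρ).symm)))
  refine LinearMap.ext fun v => ?_
  rw [LinearMap.neg_apply, Module.End.one_apply]
  refine eq_neg_of_add_eq_zero_left (hinj ?_)
  rw [map_zero, LinearMap.sub_apply, Module.End.one_apply, map_add, ← Module.End.mul_apply, ← act_mul,
    hg, act_one, Module.End.one_apply]
  abel

theorem act_ne_neg_one (hp : p ≠ 2) (ha : 0 < a) : act ρ 1 ≠ -1 := by
  intro e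
  haveI : Nonempty (Fin a) := ⟨⟨0, ha⟩⟩
  obtain ⟨v, hv⟩ := exists_ne (0 : Fin a → ZMod p)
  have := LinearMap.congr_fun e v
  rw [act_one, LinearMap.neg_apply, Module.End.one_apply, eq_neg_iff_add_eq_zero] at this
  exact hv (two_smul_eq_zero hp this)

end Cfsg.Agent.Char.KThree
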