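import Cfsg.Agent.Lib.Char.KThree.TwoData
import Cfsg.Agent.Lib.Char.CyclotomicInt
import Cfsg.Agent.Lib.Char.FreeTrace
import Mathlib

/-!
# Consequences of the data: divisibility, generators and a square class size
-/

set_option autoImplicit false
set_option linter.unusedSectionVars false
set_option linter.style.haveILetI false

open scoped ComplexConjugate
open Polynomial

namespace Cfsg.Agent.Char.KThree

universe u

variable {E : Type u} [Group E] [Finite E] {a₁ a₂ : ℕ} {Y : Set E}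

theorem card_hom_of_cyclic (Q : Subgroup E) (hQ : IsCyclic Q) : Nat.card (Q →* ℂˣ) = Nat.card Q := by
  letI := hQ.commGroup
  rw [Char.card_hom_units]
  have : commutator Q = ⊥ := (commutator_eq_bot_iff_center_eq_top Q).2 CommGroup.center_eq_top
  rw [this, Subgroup.index_bot]

/-- A multiplicity vector whose values vanish off `D` has total divisible by `|Q| / |D|`. -/
theorem dvd_total (Q D : Subgroup E) (hQ : IsCyclic Q) (hDQ : D ≤ Q) [Fintype (Q →* ℂˣ)]
    (n : (Q →* ℂˣ) → ℕ) (h0 : ∀ q : Q, (q : E) ∉ D → phi n q = 0) :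
    Nat.card Q ∣ Nat.card D * ∑ l, n l := by
  classical
  letI := hQ.commGroup
  haveI := Fintype.ofFinite Q
  have hcomm : ∀ a b : Q, a * b = b * a := fun a b => mul_comm a b
  set D' := D.subgroupOf Q
  set res : (Q →* ℂˣ) →* (D' →* ℂˣ) := MonoidHom.compHom' D'.subtype with hres
  have hinv : ∀ l : Q →* ℂˣ, (Nat.card Q : ℂ) * n l = ∑ q : Q, (l q⁻¹ : ℂ) * phi n q := by
    intro l
    simp only [phi, Finset.mul_sum]
    rw [Finset.sum_comm, Finset.sum_eq_single l]
    · rw [Finset.sum_congr rfl (g := fun _ : Q => (n l : ℂ)) fun q _ => by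
        rw [mul_left_comm, ← Units.val_mul, ← map_mul, inv_mul_cancel, map_one, Units.val_one, mul_one]]
      rw [Finset.sum_const, Finset.card_univ, ← Nat.card_eq_fintype_card, nsmul_eq_mul]
    · intro l' _ hl'
      rw [Finset.sum_congr rfl (g := fun q : Q => (n l' : ℂ) * (((l' * l⁻¹) q : ℂˣ) : ℂ)) fun q _ => by
        rw [MonoidHom.mul_apply, MonoidHom.inv_apply, ← map_inv, Units.val_mul]; ring]
      rw [← Finset.mul_sum]
      obtain ⟨q0, hq0⟩ : ∃ q0, (l' * l⁻¹) q0 ≠ 1 := by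
        by_contra h
        push Not at h
        exact hl' (mul_inv_eq_one.1 (MonoidHom.ext h))
      have hs : ((((l' * l⁻¹) q0 : ℂˣ)) : ℂ) * ∑ q : Q, (((l' * l⁻¹) q : ℂˣ) : ℂ) =
          ∑ q : Q, (((l' * l⁻¹) q : ℂˣ) : ℂ) := by
        rw [Finset.mul_sum]
        exact Fintype.sum_equiv (Equiv.mulLeft q0) _ _ fun q => by
          rw [← Units.val_mul, ← map_mul]; rfl
      have : ∑ q : Q, (((l' * l⁻¹) q : ℂˣ) : ℂ) = 0 := by
        by_contra hne
        exact hq0 (Units.ext ((mul_eq_right₀ hne).1 hs))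
      rw [this, mul_zero]
    · exact fun h => absurd (Finset.mem_univ _) h
  have hsame : ∀ l l' : Q →* ℂˣ, res l = res l' → n l = n l' := by
    intro l l' he
    have e : (Nat.card Q : ℂ) * n l = (Nat.card Q : ℂ) * n l' := by
      rw [hinv, hinv]
      refine Finset.sum_congr rfl fun q _ => ?_
      by_cases hq : (q : E) ∈ D
      · have := DFunLike.congr_fun he (⟨q, hq⟩ : D')⁻¹
        rw [show l q⁻¹ = l' q⁻¹ from this]
      · rw [h0 q hq, mul_zero, mul_zero]
    exact_mod_cast mul_left_cancel₀ (Nat.cast_ne_zero.2 Nat.card_pos.ne') e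
  -- the fibres of restriction
  have hK : Nat.card res.ker ∣ ∑ l, n l := by
    haveI := Char.finite_hom_units D'
    haveI := Fintype.ofFinite (D' →* ℂˣ)
    rw [← Finset.sum_fiberwise _ res]
    refine Finset.dvd_sum fun d _ => ?_
    by_cases hd : ∃ l, res l = d
    · obtain ⟨l0, rfl⟩ := hd
      rw [Finset.sum_congr rfl (g := fun _ => n l0) fun l hl => hsame l l0 (Finset.mem_filter.1 hl).2,
        Finset.sum_const, smul_eq_mul]
      refine Dvd.intro (n l0) ?_
      congr 1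
      rw [Nat.card_eq_fintype_card, Fintype.card_subtype]
      refine Finset.card_bij' (fun l _ => l * l0) (fun l _ => l * l0⁻¹) ?_ ?_ ?_ ?_
      · intro l hl
        simp only [Finset.mem_filter, Finset.mem_univ, true_and, MonoidHom.mem_ker] at hl ⊢
        rw [map_mul, hl, one_mul]
      · intro l hl
        simp only [Finset.mem_filter, Finset.mem_univ, true_and, MonoidHom.mem_ker] at hl ⊢
        rw [map_mul, hl, ← map_mul]
        exact (congrArg res (mul_inv_cancel l0)).trans (map_one res)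
      · intro l _; exact mul_inv_cancel_right l l0
      · intro l _; exact inv_mul_cancel_right l l0
    · rw [Finset.filter_eq_empty_iff.2 fun l _ hl => hd ⟨l, hl⟩, Finset.sum_empty]
      exact dvd_zero _
  have hcard : Nat.card Q ∣ Nat.card D * Nat.card res.ker := by
    rw [← card_hom_of_cyclic Q hQ, ← res.ker.card_mul_index, Subgroup.index_ker, mul_comm (Nat.card D)]
    refine Nat.mul_dvd_mul_left _ ((Subgroup.card_subgroup_dvd_card res.range).trans ?_)
    rw [Char.card_hom_units]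
    refine dvd_trans (Subgroup.index_dvd_card _) ?_
    rw [Nat.card_congr (Subgroup.subgroupOfEquivOfLe hDQ).toEquiv]
  exact hcard.trans (Nat.mul_dvd_mul_left _ hK)

theorem Two.dvd_a (h : Two E a₁ a₂ Y) (Q D : Subgroup E) (hQ : IsCyclic Q) (hDQ : D ≤ Q)
    (hY : ∀ q ∈ Q, q ∈ Y → q ∈ D) :
    Nat.card Q ∣ Nat.card D * a₁ ∧ Nat.card Q ∣ Nat.card D * a₂ := by
  haveI := Char.finite_hom_units Q
  haveI := Fintype.ofFinite (Q →* ℂˣ)
  obtain ⟨n₁, n₂, e₁, e₂, h₁, h₂, -, -⟩ := h.cyc Q hQ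
  refine ⟨e₁ ▸ dvd_total Q D hQ hDQ n₁ fun q hq => ?_, e₂ ▸ dvd_total Q D hQ hDQ n₂ fun q hq => ?_⟩
  · by_contra hne
    exact hq (hY q q.2 ((h₁ q fun e => hq (e ▸ D.one_mem)).1 hne))
  · by_contra hne
    exact hq (hY q q.2 ((h₂ q fun e => hq (e ▸ D.one_mem)).1 hne))

theorem Two.dvd_of_disjoint (h : Two E a₁ a₂ Y) (Q : Subgroup E) (hQ : IsCyclic Q)
    (hY : ∀ q ∈ Q, q ∉ Y) : Nat.card Q ∣ a₁ ∧ Nat.card Q ∣ a₂ := by
  simpa using h.dvd_a Q ⊥ hQ bot_le fun q hq hqY => absurd hqY (hY q hq)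

theorem Two.square_dvd (h : Two E a₁ a₂ Y) {d : ℕ} (h1 : d ∣ a₁) (h2 : d ∣ a₂) : d ^ 2 ∣ Nat.card E :=
  h.sq ▸ Nat.dvd_add (pow_dvd_pow_of_dvd h1 2) (pow_dvd_pow_of_dvd h2 2)

section Gen

variable {y : E} {r s : ℕ}

/-- The values on a cyclic group of prime power order through a polynomial. -/
theorem exists_poly [Fintype (Subgroup.zpowers y →* ℂˣ)] (hr : r.Prime) (hy : orderOf y = r ^ s)
    (n : (Subgroup.zpowers y →* ℂˣ) → ℕ) :
    ∃ (ω : ℂ) (P : ℤ[X]), IsPrimitiveRoot ω (r ^ s) ∧ ∀ k : ℕ,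
      phi n (⟨y, Subgroup.mem_zpowers y⟩ ^ k) = aeval (ω ^ k) P := by
  have hN : r ^ s ≠ 0 := pow_ne_zero _ hr.ne_zero
  have hω := Complex.isPrimitiveRoot_exp (r ^ s) hN
  set ω := Complex.exp (2 * Real.pi * Complex.I / ((r ^ s : ℕ) : ℂ))
  haveI : NeZero (r ^ s) := ⟨hN⟩
  have hl : ∀ l : Subgroup.zpowers y →* ℂˣ, ∃ j, ω ^ j = (l ⟨y, Subgroup.mem_zpowers y⟩ : ℂ) := by
    intro l
    obtain ⟨j, -, hj⟩ := hω.eq_pow_of_pow_eq_one (ξ := (l ⟨y, Subgroup.mem_zpowers y⟩ : ℂ)) (by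
      rw [← Units.val_pow_eq_pow_val, ← map_pow,
        show (⟨y, Subgroup.mem_zpowers y⟩ : Subgroup.zpowers y) ^ (r ^ s) = 1 from
          Subtype.ext (by simp [← hy, pow_orderOf_eq_one]), map_one, Units.val_one])
    exact ⟨j, hj⟩
  choose j hj using hl
  refine ⟨ω, ∑ l, C (n l : ℤ) * X ^ j l, hω, fun k => ?_⟩
  rw [phi, map_sum]
  refine Finset.sum_congr rfl fun l _ => ?_
  simp only [map_mul, aeval_X, aeval_C, map_natCast, map_pow, Units.val_pow_eq_pow_val]
  rw [← hj l, ← pow_mul, ← pow_mul, mul_comm k]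

theorem Two.pow_mem (h : Two E a₁ a₂ Y) (hr : r.Prime) (hy : orderOf y = r ^ s) (hyY : y ∈ Y) {k : ℕ}
    (hk : k.Coprime (r ^ s)) : y ^ k ∈ Y := by
  have hy1 : y ≠ 1 := fun e => h.one_notMem (e ▸ hyY)
  haveI := Char.finite_hom_units (Subgroup.zpowers y)
  haveI := Fintype.ofFinite (Subgroup.zpowers y →* ℂˣ)
  obtain ⟨n, -, -, -, h₁, -, -, -⟩ := h.cyc (Subgroup.zpowers y) inferInstance
  obtain ⟨ω, P, hω, hP⟩ := exists_poly hr hy n
  set y' : Subgroup.zpowers y := ⟨y, Subgroup.mem_zpowers y⟩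
  have hne : phi n (y' ^ 1) ≠ 0 := by
    rw [pow_one]; exact (h₁ y' fun e => hy1 (congrArg Subtype.val e)).2 hyY
  rw [hP] at hne
  have hyk : (y' ^ k : Subgroup.zpowers y) ≠ 1 := fun e => by
    have e' : y ^ k = 1 := congrArg Subtype.val e
    have hd : r ^ s ∣ k := hy ▸ orderOf_dvd_of_pow_eq_one e'
    have := Nat.Coprime.eq_one_of_dvd (hk.symm) hd
    exact hy1 (orderOf_eq_one_iff.1 (hy.trans this))
  refine (h₁ _ hyk).1 fun h0 => hne ?_
  rw [hP] at h0
  obtain ⟨u, hu⟩ := Nat.exists_mul_mod_eq_one_of_coprime hk (Nat.one_lt_iff_ne_zero_and_ne_one.2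
    ⟨pow_ne_zero _ hr.ne_zero, fun e => hy1 (orderOf_eq_one_iff.1 (hy.trans e))⟩) |>.imp fun u h => h.2
  have hucop : u.Coprime (r ^ s) := by
    refine Nat.Coprime.of_dvd_left (dvd_mul_left u k) ?_
    rw [Nat.Coprime, Nat.gcd_comm, Nat.gcd_rec, hu, Nat.gcd_one_left]
  have h2 := CycInt.root_pow hω hr (P := P.comp (X ^ k)) (by simpa [aeval_comp] using h0) hucop
  simp only [aeval_comp, aeval_X_pow] at h2
  rw [← pow_mul] at h2
  rw [pow_one]
  have e : ω ^ (u * k) = ω := by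
    rw [← pow_mod_orderOf ω (u * k), ← hω.eq_orderOf, mul_comm u k, hu, pow_one]
  rwa [e] at h2

/-- A class containing all generators of a group of odd prime order has square cardinality. -/
theorem Two.card_square (h : Two E a₁ a₂ Y) (hr : r.Prime) (hr2 : r ≠ 2) (hy : orderOf y = r)
    (hyY : y ∈ Y) : IsSquare (Nat.card Y) := by
  have hy1 : y ≠ 1 := fun e => h.one_notMem (e ▸ hyY)
  have hy' : orderOf y = r ^ 1 := by rw [hy, pow_one]
  haveI := Char.finite_hom_units (Subgroup.zpowers y)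
  haveI := Fintype.ofFinite (Subgroup.zpowers y →* ℂˣ)
  obtain ⟨n, n', -, -, -, -, h₃, hconj⟩ := h.cyc (Subgroup.zpowers y) inferInstance
  obtain ⟨ω, P, hω, hP⟩ := exists_poly hr hy' n
  rw [pow_one] at hω
  set y' : Subgroup.zpowers y := ⟨y, Subgroup.mem_zpowers y⟩
  -- powers have the same `r`-th power of the value
  have hsame : ∀ k ∈ Finset.Ico 1 r, (phi n (y' ^ k)) ^ r = (phi n y') ^ r := by
    intro k hk
    rw [Finset.mem_Ico] at hk
    have hcop : k.Coprime r := (hr.coprime_iff_not_dvd.2 fun hd =>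
      absurd (Nat.le_of_dvd hk.1 hd) (not_le.2 hk.2)).symm
    obtain ⟨w, hwy⟩ := isConj_iff.1 ((h.mem_iff y hyY _).1
      (h.pow_mem hr hy' hyY (k := k) (by rw [pow_one]; exact hcop)))
    have hw : ∀ q ∈ Subgroup.zpowers y, w * q * w⁻¹ ∈ Subgroup.zpowers y := by
      intro q hq
      obtain ⟨m, rfl⟩ := Subgroup.mem_zpowers_iff.1 hq
      rw [← conj_zpow, hwy]
      exact Subgroup.zpow_mem _ (Subgroup.pow_mem _ (Subgroup.mem_zpowers y) k) m
    obtain ⟨l₀, hl₀, -, -⟩ := hconj w hw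
    have hq : ∀ q, phi n q = (l₀ q : ℂ) * phi n (conjHom _ w hw q) := by
      intro q
      simp only [phi, Finset.mul_sum]
      have hbij : Function.Bijective (tau (Subgroup.zpowers y) w hw l₀) := by
        refine (Finite.injective_iff_bijective).1 fun l l' he => ?_
        simp only [tau, mul_left_inj] at he
        have hsurj : Function.Surjective (conjHom (Subgroup.zpowers y) w hw) :=
          (Finite.injective_iff_surjective).1 fun a b hab => Subtype.ext (by
            simpa using congrArg Subtype.val hab)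
        exact MonoidHom.ext fun x => by
          obtain ⟨x, rfl⟩ := hsurj x
          exact DFunLike.congr_fun he x
      rw [← (Equiv.ofBijective _ hbij).sum_comp]
      refine Finset.sum_congr rfl fun l _ => ?_
      simp only [Equiv.ofBijective_apply]
      rw [hl₀]
      simp only [tau, MonoidHom.mul_apply, MonoidHom.comp_apply, Units.val_mul]
      ring
    have e := hq y'
    rw [show conjHom _ w hw y' = y' ^ k from Subtype.ext (by simpa using hwy)] at e
    rw [e, mul_pow, ← Units.val_pow_eq_pow_val, ← map_pow,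
      show y' ^ r = 1 from Subtype.ext (by simp [y', ← hy, pow_orderOf_eq_one]), map_one, Units.val_one,
      one_mul]
  -- an integer
  obtain ⟨Z, hZ⟩ : ∃ Z : ℤ, ((r - 1 : ℕ) : ℂ) * phi n y' ^ r = Z := by
    have e1 : ((r - 1 : ℕ) : ℂ) * phi n y' ^ r = ∑ k ∈ Finset.Ico 1 r, aeval (ω ^ k) (P ^ r) := by
      rw [Finset.sum_congr rfl (g := fun _ => phi n y' ^ r) fun k hk => by
        rw [map_pow, ← hP, hsame k hk], Finset.sum_const, Nat.card_Ico, nsmul_eq_mul]
    rw [e1]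
    refine ⟨∑ j ∈ (P ^ r).support, (P ^ r).coeff j *
      ((if r ∣ j then (r : ℤ) else 0) - 1), ?_⟩
    simp only [aeval_eq_sum_range' (Nat.lt_succ_self _)]
    rw [Finset.sum_comm]
    push_cast
    rw [← Finset.sum_subset (s₁ := (P ^ r).support) (fun j hj => Finset.mem_range.2
      (Nat.lt_succ_of_le (Polynomial.le_natDegree_of_mem_supp j hj))) (fun j _ hj => by
      rw [Polynomial.notMem_support_iff.1 hj]; simp)]
    refine Finset.sum_congr rfl fun j _ => ?_
    rw [← Finset.smul_sum, zsmul_eq_mul]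
    congr 1
    rw [Finset.sum_Ico_eq_sub _ hr.one_lt.le, Finset.sum_range_one, pow_zero, one_pow]
    congr 1
    simp only [← pow_mul, mul_comm _ j]
    simp only [pow_mul]
    by_cases hd : r ∣ j
    · rw [if_pos hd]
      simp [(hω.pow_eq_one_iff_dvd j).2 hd]
    · rw [if_neg hd]
      have hne : ω ^ j ≠ 1 := fun e => hd ((hω.pow_eq_one_iff_dvd j).1 e)
      rw [geom_sum_eq hne, ← pow_mul, (hω.pow_eq_one_iff_dvd _).2 (dvd_mul_left r j), sub_self, zero_div]
  have hm := h₃ y' hyY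
  -- taking absolute values
  have e2 : ((r - 1 : ℕ) : ℂ) ^ 2 * ((a₂ : ℂ) ^ 2) ^ r = (Nat.card Y : ℂ) ^ r * ((Z : ℂ) ^ 2) := by
    rw [← hm, mul_pow, mul_pow]
    have e3 : (Z : ℂ) ^ 2 = (((r - 1 : ℕ) : ℂ) * phi n y' ^ r) * conj (((r - 1 : ℕ) : ℂ) * phi n y' ^ r) := by
      rw [hZ, map_intCast]; ring
    rw [e3, map_mul, map_pow, Complex.conj_natCast]
    ring
  have e3 : (r - 1) ^ 2 * (a₂ ^ 2) ^ r = Nat.card Y ^ r * Z.natAbs ^ 2 := by
    have e4 : (((r - 1) ^ 2 * (a₂ ^ 2) ^ r : ℕ) : ℤ) = (Nat.card Y : ℤ) ^ r * Z ^ 2 := by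
      push_cast
      exact_mod_cast e2
    have e5 := congrArg Int.natAbs e4
    rw [Int.natAbs_natCast, Int.natAbs_mul, Int.natAbs_pow, Int.natAbs_pow, Int.natAbs_natCast] at e5
    exact e5
  obtain ⟨c, hc⟩ := hr.odd_of_ne_two hr2
  set b := Nat.card Y ^ c * Z.natAbs
  set A := (r - 1) * a₂ ^ r
  have hbA : b ^ 2 * Nat.card Y = A ^ 2 := by
    rw [show A ^ 2 = (r - 1) ^ 2 * (a₂ ^ 2) ^ r by rw [mul_pow, ← pow_mul, ← pow_mul, mul_comm r 2], e3,
      mul_pow, ← pow_mul, hc]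
    ring
  have hA : A ≠ 0 := Nat.mul_ne_zero (by have := hr.two_le; omega) (pow_ne_zero _ h.pos2.ne')
  have hb0 : b ≠ 0 := fun e => hA (pow_eq_zero_iff two_ne_zero |>.1 (by rw [← hbA, e]; simp))
  obtain ⟨q, hq⟩ := (Nat.pow_dvd_pow_iff two_ne_zero).1 (Dvd.intro _ hbA)
  refine ⟨q, Nat.eq_of_mul_eq_mul_left (Nat.pos_of_ne_zero (pow_ne_zero 2 hb0)) ?_⟩
  rw [hbA, hq]
  ring

end Gen

end Cfsg.Agent.Char.KThree
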