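import Cfsg.Agent.Lib.Char.Coprime
import Cfsg.Agent.Lib.Char.Clifford
import Cfsg.Agent.Lib.Char.CliffordInd
import Cfsg.Agent.Lib.Char.Gallagher
import Cfsg.Agent.Lib.Char.CoverBlocks
import Cfsg.Agent.Lib.Char.FreeTrace
import Mathlib

/-!
# Extensions along a cyclic quotient

For a surjection `π : U →* Q` onto a cyclic group and an invariant irreducible `θ` of its kernel, the
irreducibles over `θ` are the twists of one extension by the linear characters of `Q`.
-/

set_option autoImplicit false
set_option linter.unusedSectionVars false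
set_option linter.style.haveILetI false

open Cfsg
open scoped ComplexConjugate

namespace Cfsg.Agent.Char.KThree

universe u

variable {U : Type u} [Group U] [Fintype U]

/-- Constituents of a character whose restriction is a multiple of `θ` lie over `θ`. -/
theorem over_of_res {N : Subgroup U} [N.Normal] [Fintype N] (θ : IrrCharacter N) {F : U → ℂ}
    (hF : IsCharacter U F) {a : ℂ} (hres : ∀ n : N, F n = a * (θ : N → ℂ) n) {ψ : IrrCharacter U}
    (h : classInner F (ψ : U → ℂ) ≠ 0) :
    classInner (fun n : N => (ψ : U → ℂ) n) (θ : N → ℂ) ≠ 0 := by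
  classical
  obtain ⟨η, hη⟩ := exists_constituent (N := N) ψ
  suffices η = θ by rw [← this]; exact hη
  by_contra hne
  obtain ⟨m, hm⟩ := exists_decomposition hF
  have h0 : classInner (fun n : N => F n) (η : N → ℂ) = 0 := by
    rw [show (fun n : N => F n) = a • (θ : N → ℂ) from funext hres, classInner_smul_left, irrC_orth,
      if_neg (Ne.symm hne), mul_zero]
  have hfun : (fun n : N => F n) =
      ∑ φ : IrrCharacter U, (m φ : ℂ) • fun n : N => (φ : U → ℂ) n := by
    funext n
    rw [hm]
    simp [nsmul_eq_mul]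
  choose k hk using fun φ : IrrCharacter U =>
    classInner_natCast (isCharacter_comp N.subtype (irr_isCharacter φ.2)) (irr_isCharacter η.2)
  rw [hfun, classInner_sum_left, Finset.sum_congr rfl (g := fun φ => ((m φ * k φ : ℕ) : ℂ)) (fun φ _ => by
    rw [classInner_smul_left, Nat.cast_mul, ← hk φ]; rfl), ← Nat.cast_sum, Nat.cast_eq_zero] at h0
  have h1 := (Finset.sum_eq_zero_iff).1 h0 ψ (Finset.mem_univ _)
  rcases mul_eq_zero.1 h1 with h2 | h2
  · apply h
    rw [hm, decomposition_coeff m rfl, h2, Nat.cast_zero]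
  · apply hη
    rw [show (fun n : N => (ψ : U → ℂ) n) = (ψ : U → ℂ) ∘ N.subtype from rfl, hk, h2, Nat.cast_zero]

variable {Q : Type u} [CommGroup Q] [Fintype Q] (π : U →* Q)

/-- The twist by a linear character of `Q`. -/
def tw (ε : U → ℂ) (l : Q →* ℂˣ) : U → ℂ := fun u => (l (π u) : ℂ) * ε u

/-- An extension with all that is used about it. -/
structure Ext [Fintype π.ker] [DecidableEq Q] (θ : IrrCharacter π.ker) (ε : U → ℂ) : Prop where
  irr : ∀ l : Q →* ℂˣ, IsIrrCharacter U (tw π ε l)
  res : ∀ n : π.ker, ε n = (θ : π.ker → ℂ) n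
  orth : ∀ l l' : Q →* ℂˣ, classInner (tw π ε l) (tw π ε l') = if (l : Q →* ℂˣ) = l' then 1 else 0
  lies : ∀ ψ : IrrCharacter U, classInner (fun n : π.ker => (ψ : U → ℂ) n) (θ : π.ker → ℂ) ≠ 0 →
    ∃ l, (ψ : U → ℂ) = tw π ε l
  norm : ∀ q : Q, ∑ u ∈ Finset.univ.filter (fun u => π u = q), ε u * conj (ε u) =
    (Nat.card π.ker : ℂ)

theorem exists_ext [Fintype π.ker] [DecidableEq Q] (hπ : Function.Surjective π) (hQ : IsCyclic Q) (θ : IrrCharacter π.ker)
    (hinv : ∀ (g : U) (n : π.ker), (θ : π.ker → ℂ) (MulAut.conjNormal g n) = (θ : π.ker → ℂ) n) :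
    ∃ ε : U → ℂ, Ext π θ ε := by
  classical
  haveI := finite_hom_units Q
  haveI := Fintype.ofFinite (Q →* ℂˣ)
  have hcyc : IsCyclic (U ⧸ π.ker) :=
    (QuotientGroup.quotientKerEquivOfSurjective π hπ).isCyclic.2 hQ
  obtain ⟨ε, hε, hres⟩ := exists_extension_cyclic π.ker hcyc θ.2 hinv
  have hirr : ∀ l : Q →* ℂˣ, IsIrrCharacter U (tw π ε l) := fun l => isIrr_linear_mul hε (l.comp π)
  have hcomm : ∀ a b : Q, a * b = b * a := fun a b => mul_comm a b
  have hidx : π.ker.index = Nat.card Q := by
    rw [Subgroup.index_ker, MonoidHom.range_eq_top.2 hπ, Subgroup.card_top]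
  have hind : indFun π.ker (θ : π.ker → ℂ) = ∑ l : Q →* ℂˣ, tw π ε l := by
    funext u
    simp only [tw, Finset.sum_apply, ← Finset.sum_mul, sum_hom_apply hcomm]
    by_cases hu : u ∈ π.ker
    · rw [if_pos (MonoidHom.mem_ker.1 hu), show ε u = (θ : π.ker → ℂ) ⟨u, hu⟩ from hres ⟨u, hu⟩,
        ← hidx]
      exact indFun_invariant π.ker _ hinv ⟨u, hu⟩
    · rw [indFun_normal_not_mem π.ker _ hu, if_neg (fun e => hu (MonoidHom.mem_ker.2 e)), zero_mul]
  have hresl : ∀ l (n : π.ker), tw π ε l n = (θ : π.ker → ℂ) n := fun l n => by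
    rw [tw, MonoidHom.mem_ker.1 n.2, map_one, Units.val_one, one_mul, hres]
  -- the twists are distinct
  have horth : ∀ l l' : Q →* ℂˣ, classInner (tw π ε l) (tw π ε l') = if l = l' then 1 else 0 := by
    intro l l'
    by_cases hll : l = l'
    · rw [hll, if_pos rfl, irr_self (hirr l')]
    rw [if_neg hll, irr_orth (hirr l) (hirr l')]
    refine if_neg fun he => ?_
    have h1 : classInner (indFun π.ker (θ : π.ker → ℂ)) (tw π ε l') = 1 := by
      rw [frobenius _ _ (isClassFunction_character (irr_isCharacter (hirr l'))),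
        show (fun n : π.ker => tw π ε l' n) = (θ : π.ker → ℂ) from funext (hresl l'), irr_self θ.2]
    rw [hind, classInner_sum_left] at h1
    have h2 : classInner (tw π ε l + tw π ε l') (tw π ε l') = 2 := by
      rw [show tw π ε l + tw π ε l' = (2 : ℂ) • tw π ε l' from by rw [he, two_smul],
        classInner_smul_left, irr_self (hirr l'), mul_one]
    rw [← Finset.sum_subset (Finset.subset_univ {l, l'}) fun x _ hx => ?_, Finset.sum_pair hll,
      he, irr_self (hirr l')] at h1
    · norm_num at h1
    · rw [Finset.mem_insert, Finset.mem_singleton, not_or] at hx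
      by_contra hne
      rw [irr_orth (hirr x) (hirr l')] at hne
      have hex : tw π ε x = tw π ε l' := by_contra fun h => hne (if_neg h)
      have h3 : classInner (indFun π.ker (θ : π.ker → ℂ)) (tw π ε l') = 1 := by
        rw [frobenius _ _ (isClassFunction_character (irr_isCharacter (hirr l'))),
          show (fun n : π.ker => tw π ε l' n) = (θ : π.ker → ℂ) from funext (hresl l'), irr_self θ.2]
      rw [hind, classInner_sum_left] at h3
      choose k hk using fun y : Q →* ℂˣ => classInner_natCast (irr_isCharacter (hirr y))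
        (irr_isCharacter (hirr l'))
      simp only [hk] at h3
      have h4 : ∑ y : Q →* ℂˣ, k y = 1 := by exact_mod_cast h3
      have h5 : k x = 1 := by
        have := hk x
        rw [hex, irr_self (hirr l')] at this
        exact_mod_cast this.symm
      have h6 : k l = 1 := by
        have := hk l
        rw [he, irr_self (hirr l')] at this
        exact_mod_cast this.symm
      have h7 := Finset.sum_le_sum_of_subset (f := k) (Finset.subset_univ {x, l})
      rw [Finset.sum_pair hx.1, h4, h5, h6] at h7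
      omega
  refine ⟨ε, hirr, hres, horth, fun ψ hψ => ?_, fun q0 => ?_⟩
  · have h1 : classInner (indFun π.ker (θ : π.ker → ℂ)) (ψ : U → ℂ) ≠ 0 := by
      rw [frobenius _ _ (isClassFunction_character (irr_isCharacter ψ.2)), ← classInner_symm,
        map_ne_zero]
      exact hψ
    rw [hind, classInner_sum_left] at h1
    obtain ⟨l, -, hl⟩ := Finset.exists_ne_zero_of_sum_ne_zero h1
    rw [irr_orth (hirr l) ψ.2] at hl
    exact ⟨l, (by_contra fun h => hl (if_neg h) : tw π ε l = (ψ : U → ℂ)).symm⟩
  · -- the norm on a coset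
    set D := fun q : Q => ∑ u ∈ Finset.univ.filter (fun u => π u = q), ε u * conj (ε u) with hD
    have hU : (Nat.card U : ℂ) ≠ 0 := Nat.cast_ne_zero.2 Nat.card_pos.ne'
    have hfour : ∀ l : Q →* ℂˣ, ∑ q : Q, (l q : ℂ) * D q = if l = 1 then (Nat.card U : ℂ) else 0 := by
      intro l
      have h := horth l 1
      rw [classInner, inv_mul_eq_iff_eq_mul₀ hU] at h
      rw [show (if l = 1 then (Nat.card U : ℂ) else 0) = (Nat.card U : ℂ) * if l = 1 then 1 else 0 by
        split_ifs <;> simp, ← h, ← Finset.sum_fiberwise _ π]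
      refine Finset.sum_congr rfl fun q _ => ?_
      rw [hD, Finset.mul_sum]
      refine Finset.sum_congr rfl fun u hu => ?_
      rw [(Finset.mem_filter.1 hu).2.symm]
      simp only [tw, MonoidHom.one_apply, Units.val_one, one_mul]
      ring
    have hsum : ∑ l : Q →* ℂˣ, (l q0⁻¹ : ℂ) * ∑ q : Q, (l q : ℂ) * D q = (Nat.card Q : ℂ) * D q0 := by
      simp only [Finset.mul_sum]
      rw [Finset.sum_comm]
      rw [Finset.sum_eq_single q0]
      · simp only [← mul_assoc, ← Units.val_mul, ← map_mul, ← Finset.sum_mul, sum_hom_apply hcomm]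
        simp
      · intro q _ hq
        simp only [← mul_assoc, ← Units.val_mul, ← map_mul, ← Finset.sum_mul, sum_hom_apply hcomm]
        rw [if_neg (fun h => hq (eq_of_inv_mul_eq_one h).symm), zero_mul]
      · exact fun h => absurd (Finset.mem_univ _) h
    simp only [hfour] at hsum
    rw [Finset.sum_eq_single 1 (fun l _ hl => by rw [if_neg hl, mul_zero])
      (fun h => absurd (Finset.mem_univ _) h), if_pos rfl] at hsum
    simp only [MonoidHom.one_apply, Units.val_one, one_mul] at hsum
    rw [← π.ker.index_mul_card, hidx, Nat.cast_mul] at hsum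
    exact (mul_left_cancel₀ (Nat.cast_ne_zero.2 Nat.card_pos.ne') hsum).symm

variable {π}

/-- A character lying over multiples of `θ` is `φ ε`. -/
theorem Ext.coeff [Fintype π.ker] [DecidableEq Q] {θ : IrrCharacter π.ker} {ε : U → ℂ} (h : Ext π θ ε)
    [Fintype (Q →* ℂˣ)] {F : U → ℂ}
    (hF : IsCharacter U F) {a : ℂ} (hres : ∀ n : π.ker, F n = a * (θ : π.ker → ℂ) n) :
    ∃ n : (Q →* ℂˣ) → ℕ, (∀ u, F u = (∑ l : Q →* ℂˣ, (n l : ℂ) * (l (π u) : ℂ)) * ε u) ∧
      (∀ l, classInner F (tw π ε l) = (n l : ℂ)) ∧ (∑ l : Q →* ℂˣ, (n l : ℂ)) = a := by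
  classical
  choose n hn using fun l : Q →* ℂˣ => classInner_natCast hF (irr_isCharacter (h.irr l))
  have hexp : ∀ u, F u = (∑ l : Q →* ℂˣ, (n l : ℂ) * (l (π u) : ℂ)) * ε u := by
    have hz : F - ∑ l : Q →* ℂˣ, (n l : ℂ) • tw π ε l = 0 := by
      set G := F - ∑ l : Q →* ℂˣ, (n l : ℂ) • tw π ε l with hG
      have hcl : IsClassFunction U G := fun a k => by
        simp only [hG, Pi.sub_apply, Finset.sum_apply, Pi.smul_apply,
          isClassFunction_character hF a k,
          fun l => isClassFunction_character (irr_isCharacter (h.irr l)) a k]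
      rw [classFun_expansion hcl]
      refine Finset.sum_eq_zero fun ψ _ => ?_
      suffices classInner G (ψ : U → ℂ) = 0 by rw [this, zero_smul]
      rw [show G = F + (-1 : ℂ) • ∑ l : Q →* ℂˣ, (n l : ℂ) • tw π ε l by rw [hG]; simp [sub_eq_add_neg],
        classInner_add_left, classInner_smul_left, classInner_sum_left]
      simp only [classInner_smul_left]
      by_cases hψ : classInner (fun m : π.ker => (ψ : U → ℂ) m) (θ : π.ker → ℂ) = 0
      · rw [by_contra fun h0 => over_of_res θ hF hres h0 hψ]
        rw [Finset.sum_eq_zero fun l _ => ?_, mul_zero, add_zero]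
        rw [irr_orth (h.irr l) ψ.2, if_neg, mul_zero]
        intro he
        rw [← he, show (fun m : π.ker => tw π ε l m) = (θ : π.ker → ℂ) from funext fun m => by
          rw [tw, MonoidHom.mem_ker.1 m.2, map_one, Units.val_one, one_mul, h.res], irr_self θ.2] at hψ
        exact one_ne_zero hψ
      · obtain ⟨l, hl⟩ := h.lies ψ hψ
        rw [hl, hn l]
        simp only [h.orth, mul_ite, mul_one, mul_zero, Finset.sum_ite_eq', Finset.mem_univ, if_true]
        ring
    intro u
    have := congrFun (sub_eq_zero.1 hz) u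
    rw [this, Finset.sum_mul, Finset.sum_apply]
    refine Finset.sum_congr rfl fun l _ => ?_
    simp only [Pi.smul_apply, smul_eq_mul, tw]
    ring
  refine ⟨n, hexp, hn, ?_⟩
  have h1 := hexp (1 : U)
  have h2 := hres 1
  simp only [map_one, Units.val_one, mul_one] at h1
  rw [show F ((1 : π.ker) : U) = F 1 from rfl, h1, show ε 1 = (θ : π.ker → ℂ) 1 from h.res 1] at h2
  exact mul_right_cancel₀ (irr_one_ne_zero θ.2) h2

end Cfsg.Agent.Char.KThree
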